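import Mathlib
import Cfsg.Prelude.Def_Blocks
import Cfsg.Agent.Blocks.Basic
import Cfsg.Agent.Blocks.Knorr
import Cfsg.Agent.Characters.ClassMul
import Cfsg.Agent.Characters.Values

/-!
# Large `p`-parts of character degrees from class multiplication constants

* `exists_irr_pow_dvd` : `P ≤ G` with `#P = p ^ c`, `p ^ b` the `p`-part of `#C_G(s)`, and no quotient
  `g * h⁻¹` of two conjugates of `s` is a nonidentity element of `P`.  Then `p ^ (c - b)` divides the
  degree of some irreducible character.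
* `defectZero_or` : if `#C_G(s)` is prime to `p`, then `G` has an irreducible character of `p`-defect
  zero or there are conjugates `g`, `h` of `s` with `g * h⁻¹` a nonidentity `p`-element.
-/

set_option autoImplicit false

namespace Cfsg.Agent.H665.DefZero

open Cfsg Cfsg.Agent.Characters.Core Cfsg.Agent.Blocks.Basic
open scoped ComplexConjugate

variable {G : Type*} [Group G]

theorem isIntegral_char [Finite G] {χ : G → ℂ} (hχ : IsCharacter G χ) (g : G) :
    IsIntegral ℤ (χ g) := by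
  obtain ⟨n, ρ, rfl⟩ := hχ
  exact Cfsg.Agent.Characters.Values.character_isIntegral ρ g

theorem exists_sum_subgroup [Finite G] {χ : G → ℂ} (hχ : IsCharacter G χ) (P : Subgroup G)
    [Fintype P] : ∃ m : ℕ, ∑ z : P, conj (χ z) = (Nat.card P : ℂ) * m := by
  have h1 : IsCharacter P (χ ∘ P.subtype) := isCharacter_comp P.subtype hχ
  obtain ⟨m, hm⟩ := classInner_isNat (G := P) isCharacter_one h1
  refine ⟨m, ?_⟩
  rw [← hm, Cfsg.Agent.Characters.Core.classInner_def, ← mul_assoc, mul_inv_cancel₀ card_ne_zero_complex, one_mul]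
  simp

/-- The counting lemma: a large `p`-part in some degree. -/
theorem exists_irr_pow_dvd [Finite G] (p : ℕ) [hp : Fact p.Prime] (s : G) (P : Subgroup G)
    (c b : ℕ) (hP : Nat.card P = p ^ c)
    (hb : (Nat.card (Subgroup.centralizer ({s} : Set G))).factorization p = b)
    (hs : ∀ g h : G, IsConj s g → IsConj s h → g * h⁻¹ ∈ P → g * h⁻¹ = 1) :
    ∃ χ : IrrCharacter G, p ^ (c - b) ∣ charDegree (χ : G → ℂ) := by
  classical
  rcases Nat.lt_or_ge b c with hbc | hbc
  swap
  · rw [Nat.sub_eq_zero_of_le hbc]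
    exact ⟨⟨1, isIrr_one⟩, by simp⟩
  by_contra hcon
  push Not at hcon
  have := Fintype.ofFinite G
  have : Finite (IrrCharacter G) := finite_irr
  have := Fintype.ofFinite (IrrCharacter G)
  -- the number of pairs
  have key : ∀ z : P, (Nat.card {q : G × G // IsConj s q.1 ∧ IsConj s⁻¹ q.2 ∧ q.1 * q.2 = z} : ℂ) =
      if z = 1 then ((Subgroup.centralizer ({s} : Set G)).index : ℂ) else 0 := by
    intro z
    split_ifs with hz
    · subst hz
      congr 1
      rw [← Cfsg.Agent.Characters.ClassMul.card_filter_isConj s, ← Fintype.card_subtype,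
        ← Nat.card_eq_fintype_card]
      refine Nat.card_congr ⟨fun q => ⟨q.1.1, q.2.1⟩, fun u => ⟨(u.1, u.1⁻¹), u.2, ?_, ?_⟩, ?_, ?_⟩
      · obtain ⟨c, hc⟩ := isConj_iff.1 u.2
        exact isConj_iff.2 ⟨c, by rw [← hc]; group⟩
      · simp
      · rintro ⟨⟨u, v⟩, h1, h2, h3⟩
        simp only [Subtype.mk.injEq, Prod.mk.injEq, true_and]
        have h3' : u * v = 1 := by simpa using h3
        exact inv_eq_of_mul_eq_one_right h3'
      · rintro ⟨u, hu⟩
        rfl
    · have : IsEmpty {q : G × G // IsConj s q.1 ∧ IsConj s⁻¹ q.2 ∧ q.1 * q.2 = z} := by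
        refine ⟨?_⟩
        rintro ⟨⟨u, v⟩, h1, h2, h3⟩
        have h4 : IsConj s v⁻¹ := by
          obtain ⟨c, hc⟩ := isConj_iff.1 h2
          have hc' : c * s⁻¹ * c⁻¹ = v := hc
          exact isConj_iff.2 ⟨c, by rw [← hc']; group⟩
        have h5 : u * (v⁻¹)⁻¹ = (z : G) := by rw [inv_inv]; exact h3
        have h6 := hs u v⁻¹ h1 h4 (by rw [h5]; exact z.2)
        rw [h5] at h6
        exact hz (Subtype.ext h6)
      rw [Nat.card_of_isEmpty, Nat.cast_zero]
  -- multiplicities of the trivial character of `P`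
  choose m hm using fun χ : IrrCharacter G => exists_sum_subgroup (isIrr_isCharacter χ.2) P
  have hidx : (Subgroup.centralizer ({s⁻¹} : Set G)).index =
      (Subgroup.centralizer ({s} : Set G)).index := by
    congr 1
    ext x
    rw [Subgroup.mem_centralizer_singleton_iff, Subgroup.mem_centralizer_singleton_iff]
    constructor
    · intro h
      have : Commute x s⁻¹ := h
      exact (Commute.inv_right_iff.1 this)
    · intro h
      have : Commute x s := h
      exact (Commute.inv_right_iff.2 this)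
  have hsum : ((Subgroup.centralizer ({s} : Set G)).index : ℂ) =
      ((Subgroup.centralizer ({s} : Set G)).index : ℂ) *
      ((Subgroup.centralizer ({s} : Set G)).index : ℂ) / (Nat.card G : ℂ) *
      ((Nat.card P : ℂ) * ∑ χ : IrrCharacter G,
        (χ : G → ℂ) s * (χ : G → ℂ) s⁻¹ * m χ / (χ : G → ℂ) 1) := by
    have h1 : ∑ z : P, (Nat.card {q : G × G // IsConj s q.1 ∧ IsConj s⁻¹ q.2 ∧ q.1 * q.2 = z} : ℂ) =
        ((Subgroup.centralizer ({s} : Set G)).index : ℂ) := by
      rw [Finset.sum_congr rfl (fun z _ => key z), Finset.sum_ite_eq']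
      simp
    rw [← h1]
    conv_lhs => simp only [Cfsg.Agent.Characters.ClassMul.card_class_mul]
    rw [h1, hidx, ← Finset.mul_sum]
    congr 1
    rw [Finset.sum_comm, Finset.mul_sum]
    refine Finset.sum_congr rfl fun χ _ => ?_
    have h2 : ∀ z : P, (χ : G → ℂ) s * (χ : G → ℂ) s⁻¹ * conj ((χ : G → ℂ) z) / (χ : G → ℂ) 1 =
        ((χ : G → ℂ) s * (χ : G → ℂ) s⁻¹ / (χ : G → ℂ) 1) * conj ((χ : G → ℂ) z) := by
      intro z; ring
    rw [Finset.sum_congr rfl (fun z _ => h2 z), ← Finset.mul_sum, hm χ]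
    ring
  have hcardC := Cfsg.Agent.Characters.ClassMul.card_centralizer_mul_index s
  set I : ℕ := (Subgroup.centralizer ({s} : Set G)).index with hI
  set C : ℕ := Nat.card (Subgroup.centralizer ({s} : Set G)) with hC
  set T : ℂ := ∑ χ : IrrCharacter G, (χ : G → ℂ) s * (χ : G → ℂ) s⁻¹ * m χ / (χ : G → ℂ) 1
    with hT
  have hI0 : (I : ℂ) ≠ 0 := by
    rw [hI]; exact_mod_cast Subgroup.index_ne_zero_of_finite
  have hG0 : (Nat.card G : ℂ) ≠ 0 := card_ne_zero_complex
  have hmain : (C : ℂ) = (Nat.card P : ℂ) * T := by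
    have h1 : (I : ℂ) * (C : ℂ) = (I : ℂ) * ((Nat.card P : ℂ) * T) := by
      have h2 : (I : ℂ) * (I * C) = I * I * ((Nat.card P : ℂ) * T) := by
        rw [mul_comm (I : ℂ) (C : ℂ), hcardC]
        field_simp at hsum
        linear_combination (I : ℂ) * hsum
      have h3 : (I : ℂ) * (I * C) = (I : ℂ) * (I * ((Nat.card P : ℂ) * T)) := by
        rw [h2]; ring
      exact mul_left_cancel₀ hI0 h3
    exact mul_left_cancel₀ hI0 h1
  -- the common multiple of the degrees
  set r : ℕ := C / p ^ C.factorization p with hr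
  set M : ℕ := Nat.card G / p ^ (Nat.card G).factorization p with hM
  have hCr : p ^ b * r = C := by rw [← hb]; exact Nat.ordProj_mul_ordCompl_eq_self C p
  have hrp : ¬ p ∣ r := Nat.not_dvd_ordCompl hp.out Nat.card_pos.ne'
  have hMp : ¬ p ∣ M := Nat.not_dvd_ordCompl hp.out Nat.card_pos.ne'
  have hdeg : ∀ χ : IrrCharacter G, charDegree (χ : G → ℂ) ∣ p ^ (c - b - 1) * M := by
    intro χ
    have hd : charDegree (χ : G → ℂ) ∣ Nat.card G := Cfsg.Agent.Blocks.Knorr.charDegree_dvd χ.2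
    have hd0 : charDegree (χ : G → ℂ) ≠ 0 := (charDegree_pos χ.2).ne'
    have h1 : (charDegree (χ : G → ℂ)).factorization p ≤ c - b - 1 := by
      by_contra hlt
      push Not at hlt
      refine hcon χ ((Nat.pow_dvd_pow p ?_).trans (Nat.ordProj_dvd (charDegree (χ : G → ℂ)) p))
      omega
    rw [← Nat.ordProj_mul_ordCompl_eq_self (charDegree (χ : G → ℂ)) p]
    exact Nat.mul_dvd_mul (Nat.pow_dvd_pow p h1)
      (Nat.ordCompl_dvd_ordCompl_of_dvd hd p)
  choose k hk using hdeg
  have hint : IsIntegral ℤ (((p ^ (c - b - 1) * M : ℕ) : ℂ) * T) := by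
    rw [hT, Finset.mul_sum]
    refine IsIntegral.sum _ fun χ _ => ?_
    have h1 : (χ : G → ℂ) 1 ≠ 0 := isIrr_apply_one_ne_zero χ.2
    have h2 : ((p ^ (c - b - 1) * M : ℕ) : ℂ) *
        ((χ : G → ℂ) s * (χ : G → ℂ) s⁻¹ * m χ / (χ : G → ℂ) 1) =
        (k χ : ℂ) * ((χ : G → ℂ) s * (χ : G → ℂ) s⁻¹ * m χ) := by
      rw [hk χ]
      push_cast
      rw [← irr_one_eq_charDegree χ.2]
      field_simp
    rw [h2]
    have h3 : ∀ n : ℕ, IsIntegral ℤ (n : ℂ) := fun n => by
      have := isIntegral_algebraMap (R := ℤ) (A := ℂ) (x := (n : ℤ))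
      simpa using this
    exact (h3 _).mul (((isIntegral_char (isIrr_isCharacter χ.2) s).mul
      (isIntegral_char (isIrr_isCharacter χ.2) s⁻¹)).mul (h3 _))
  have hp0 : (p : ℂ) ≠ 0 := by exact_mod_cast hp.out.ne_zero
  have hval : ((p ^ (c - b - 1) * M : ℕ) : ℂ) * T = algebraMap ℚ ℂ (((r * M : ℕ) : ℚ) / (p : ℚ)) := by
    have h1 : (Nat.card P : ℂ) ≠ 0 := by exact_mod_cast Nat.card_pos.ne'
    have h2 : T = C / (Nat.card P : ℂ) := by rw [hmain]; field_simp
    rw [h2, hP, ← hCr]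
    have h3 : c = (c - b - 1) + b + 1 := by omega
    have h4 : (p : ℂ) ^ c = (p : ℂ) ^ (c - b - 1) * (p : ℂ) ^ b * p := by
      conv_lhs => rw [h3]
      ring
    push_cast
    rw [h4]
    have hpb : (p : ℂ) ^ b ≠ 0 := pow_ne_zero _ hp0
    have hpc : (p : ℂ) ^ (c - b - 1) ≠ 0 := pow_ne_zero _ hp0
    field_simp
  rw [hval] at hint
  have h5 : IsIntegral ℤ (((r * M : ℕ) : ℚ) / (p : ℚ)) :=
    (isIntegral_algebraMap_iff (algebraMap ℚ ℂ).injective).1 hint
  obtain ⟨n, hn⟩ := IsIntegrallyClosed.isIntegral_iff.1 h5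
  have hp0' : (p : ℚ) ≠ 0 := by exact_mod_cast hp.out.ne_zero
  have h6 : ((r * M : ℕ) : ℚ) = (n : ℚ) * p := by
    have : (n : ℚ) = ((r * M : ℕ) : ℚ) / (p : ℚ) := hn
    rw [this]; field_simp
  have h7 : ((r * M : ℕ) : ℤ) = n * (p : ℤ) := by exact_mod_cast h6
  have h8 : (p : ℤ) ∣ ((r * M : ℕ) : ℤ) := ⟨n, by rw [h7, mul_comm]⟩
  have h9 : p ∣ r * M := by exact_mod_cast h8
  rcases hp.out.dvd_mul.1 h9 with h | h
  · exact hrp h
  · exact hMp h

/-- If the centralizer of `s` is prime to `p`, then there is an irreducible character of `p`-defect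
zero or there are conjugates of `s` whose quotient is a nonidentity `p`-element. -/
theorem defectZero_or [Finite G] (p : ℕ) [hp : Fact p.Prime] (s : G)
    (hs : ¬ p ∣ Nat.card (Subgroup.centralizer ({s} : Set G))) :
    (∃ χ : IrrCharacter G,
      (charDegree (χ : G → ℂ)).factorization p = (Nat.card G).factorization p) ∨
    ∃ g h : G, IsConj s g ∧ IsConj s h ∧ g * h⁻¹ ≠ 1 ∧ ∃ k : ℕ, orderOf (g * h⁻¹) = p ^ k := by
  classical
  by_contra hcon
  push Not at hcon
  obtain ⟨h1, h2⟩ := hcon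
  obtain ⟨P⟩ : Nonempty (Sylow p G) := inferInstance
  obtain ⟨χ, hχ⟩ := exists_irr_pow_dvd p s (P : Subgroup G) ((Nat.card G).factorization p) 0
    P.card_eq_multiplicity (Nat.factorization_eq_zero_of_not_dvd hs) (by
      intro g h hg hh hgh
      by_contra hne
      obtain ⟨k, hk⟩ := P.isPGroup'.exists_card_eq
      obtain ⟨j, hj⟩ := (IsPGroup.iff_orderOf.1 P.isPGroup') ⟨g * h⁻¹, hgh⟩
      refine h2 g h hg hh hne j ?_
      rw [← hj, Subgroup.orderOf_mk])
  refine h1 χ ?_
  have hd : charDegree (χ : G → ℂ) ∣ Nat.card G := Cfsg.Agent.Blocks.Knorr.charDegree_dvd χ.2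
  have hd0 : charDegree (χ : G → ℂ) ≠ 0 := (charDegree_pos χ.2).ne'
  refine le_antisymm ((Nat.factorization_le_iff_dvd hd0 Nat.card_pos.ne').2 hd p) ?_
  rw [Nat.sub_zero] at hχ
  exact (hp.out.pow_dvd_iff_le_factorization hd0).1 hχ

end Cfsg.Agent.H665.DefZero
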