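import Cfsg.Agent.H665.SporHS
import Cfsg.Agent.SporadicA.Co0Mono

/-!
# The Sylow 5-subgroups of the Conway groups are not TI
-/

set_option autoImplicit false

namespace Cfsg.Agent.H665.SporCo

open Subgroup Cfsg Cfsg.Spor Cfsg.Agent.SporadicA.Co0Mono Cfsg.Agent.H666.TI Cfsg.Agent.H665.TIA
open Cfsg.Agent.HN Cfsg.Agent.HN.H0Basic

theorem f5 : Fact (Nat.Prime 5) := ⟨Nat.prime_five⟩

theorem hs5 : ¬ IsTI 5 Spor.HS := SporHS.not_hs_five ⟨MulEquiv.refl _⟩

/-- `HS → Co₃` -/
noncomputable def toCo3 : Spor.HS →* Spor.Co3 := Subgroup.inclusion inf_le_left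

theorem not_co3 : ¬ IsTI 5 Spor.Co3 := not_of_inj toCo3 (Subgroup.inclusion_injective _) hs5

/-- `HS → Co₀` -/
noncomputable def toCo0 : Spor.HS →* Co0 := Subgroup.inclusion (inf_le_left.trans inf_le_left)

theorem toCo0_inj : Function.Injective toCo0 := Subgroup.inclusion_injective _

/-- the sign change -/
noncomputable def s : Co0 := signCo0 ⟨qrWord 0, Submodule.subset_span (Or.inl ⟨0, rfl⟩)⟩

theorem s_smul : s • leechU' = leechU := by
  apply Subtype.ext
  rw [s, signCo0_smul]
  funext i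
  rw [signMap_apply]
  show sgn (qrWord 0 i) * vecU' i = vecU i
  revert i
  decide +kernel

theorem s_sq : s * s = 1 := signCo0_mul_self _

theorem s_smul' : s • leechU = leechU' := by
  rw [← s_smul, ← mul_smul, s_sq, one_smul]

theorem simple_HS : IsSimpleGroup Spor.HS := by
  obtain ⟨⟨f⟩, hs⟩ := DoubleCover.nonempty_Q card_H0 P1408.gx_sq_ne_one
  have : Nontrivial Spor.HS := f.symm.toEquiv.nontrivial
  exact IsSimpleGroup.isSimpleGroup_of_surjective f.toMonoidHom f.surjective

theorem card_HS : Nat.card Spor.HS = 44352000 := Cfsg.Agent.KFacts.HS.card ⟨MulEquiv.refl _⟩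

/-- `HS → Co₁` -/
noncomputable def toCo1 : Spor.HS →* Spor.Co1 :=
  (QuotientGroup.mk' (center Co0)).comp toCo0

theorem toCo1_injective : Function.Injective toCo1 := by
  have hs := simple_HS
  rw [← MonoidHom.ker_eq_bot_iff]
  rcases IsSimpleGroup.eq_bot_or_eq_top_of_normal toCo1.ker inferInstance with h | h
  · exact h
  · exfalso
    have hc : ∀ a b : Spor.HS, a * b = b * a := by
      intro a b
      have h1 : a ∈ toCo1.ker := by rw [h]; trivial
      have h2 : toCo0 a ∈ center Co0 := by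
        rw [MonoidHom.mem_ker] at h1
        exact (QuotientGroup.eq_one_iff _).1 h1
      have h3 := (mem_center_iff.1 h2) (toCo0 b)
      rw [← map_mul, ← map_mul] at h3
      exact (toCo0_inj h3).symm
    have hG : IsMulCommutative Spor.HS := ⟨⟨hc⟩⟩
    have : Finite Spor.HS := Nat.finite_of_card_ne_zero (by rw [card_HS]; norm_num)
    have hp : (Nat.card Spor.HS).Prime := Group.is_simple_iff_prime_card.1 hs
    rw [card_HS] at hp
    norm_num at hp

theorem not_co1 : ¬ IsTI 5 Spor.Co1 := not_of_inj toCo1 toCo1_injective hs5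

/-- conjugation by `s` takes `HS` into `Co₂` -/
theorem conj_mem (g : Spor.HS) : ((s * toCo0 g * s : Co0) : Equiv.Perm leechLattice) ∈ Spor.Co2 := by
  refine ⟨(s * toCo0 g * s).2, ?_⟩
  show (s * toCo0 g * s) • leechU = leechU
  rw [mul_smul, mul_smul, s_smul']
  have h1 : toCo0 g • leechU' = leechU' := g.2.2
  rw [h1, s_smul]

/-- `HS → Co₂` -/
noncomputable def toCo2 : Spor.HS →* Spor.Co2 where
  toFun g := ⟨_, conj_mem g⟩
  map_one' := by
    apply Subtype.ext
    show ((s * toCo0 1 * s : Co0) : Equiv.Perm leechLattice) = 1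
    rw [map_one, mul_one, s_sq]; rfl
  map_mul' g h := by
    apply Subtype.ext
    show ((s * toCo0 (g * h) * s : Co0) : Equiv.Perm leechLattice) =
      ((s * toCo0 g * s : Co0) : Equiv.Perm leechLattice) * ((s * toCo0 h * s : Co0) : Equiv.Perm leechLattice)
    rw [← Subgroup.coe_mul, map_mul]
    congr 1
    have : s * toCo0 g * s * (s * toCo0 h * s) = s * toCo0 g * (s * s) * toCo0 h * s := by group
    rw [this, s_sq]; group

theorem toCo2_inj : Function.Injective toCo2 := by
  intro g h hgh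
  have h1 : ((s * toCo0 g * s : Co0) : Equiv.Perm leechLattice) = ((s * toCo0 h * s : Co0) : Equiv.Perm leechLattice) :=
    congrArg (fun y : Spor.Co2 => (y : Equiv.Perm leechLattice)) hgh
  have h2 : s * toCo0 g * s = s * toCo0 h * s := Subtype.ext h1
  exact toCo0_inj (mul_left_cancel (mul_right_cancel h2))

theorem not_co2 : ¬ IsTI 5 Spor.Co2 := not_of_inj toCo2 toCo2_inj hs5

end Cfsg.Agent.H665.SporCo
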