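import Mathlib
import Cfsg.Agent.H665.DefZero
import Cfsg.Agent.Lib.PSolvable

/-!
# Groups without elements of order `p * q`

* `not_dvd_centralizer` : no element of order divisible by `p * q`; then `q` does not divide the order
  of the centralizer of a nonidentity `p`-element.
* `exists_defectZero_of_pSolvable` : if moreover `G` is `p`-solvable, then `G` has an irreducible
  character of `p`-defect zero or of `q`-defect zero.
-/

set_option autoImplicit false

namespace Cfsg.Agent.H665.NoPQ

open Cfsg Cfsg.Agent.Blocks.Basic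

/-- An irreducible character of defect zero for the prime `p`. -/
def HasDZ (p : ℕ) (G : Type*) [Group G] : Prop :=
  ∃ χ : IrrCharacter G, (charDegree (χ : G → ℂ)).factorization p = (Nat.card G).factorization p

variable {G : Type*} [Group G]

theorem hasDZ_of_not_dvd {p : ℕ} (h : ¬ p ∣ Nat.card G) : HasDZ p G := by
  refine ⟨⟨1, Cfsg.Agent.Characters.Core.isIrr_one⟩, ?_⟩
  rw [Nat.factorization_eq_zero_of_not_dvd h]
  have : charDegree (1 : G → ℂ) = 1 := charDegree_of_eq (by simp)
  rw [this]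
  simp

theorem hasDZ_of_quotient [Finite G] {p : ℕ} (N : Subgroup G) [N.Normal]
    (hN : ¬ p ∣ Nat.card N) (h : HasDZ p (G ⧸ N)) : HasDZ p G := by
  obtain ⟨χ, hχ⟩ := h
  refine ⟨⟨_, Cfsg.Agent.Characters.Core.isIrr_comp (QuotientGroup.mk' N)
    (QuotientGroup.mk'_surjective N) χ.2⟩, ?_⟩
  have h1 : charDegree ((χ : G ⧸ N → ℂ) ∘ QuotientGroup.mk' N) = charDegree (χ : G ⧸ N → ℂ) := by
    rw [charDegree_def, charDegree_def]
    simp
  have h2 : (Nat.card G).factorization p = (Nat.card (G ⧸ N)).factorization p := by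
    rw [Subgroup.card_eq_card_quotient_mul_card_subgroup N,
      Nat.factorization_mul Nat.card_pos.ne' Nat.card_pos.ne', Finsupp.add_apply,
      Nat.factorization_eq_zero_of_not_dvd hN, add_zero]
  rw [h1, h2]
  exact hχ

theorem not_dvd_centralizer [Finite G] {p q : ℕ} [hp : Fact p.Prime] [hq : Fact q.Prime]
    (hpq : p ≠ q) (h : ∀ y : G, ¬ p * q ∣ orderOf y) {g : G} (hg : g ≠ 1)
    (hgp : ∃ k : ℕ, orderOf g = p ^ k) :
    ¬ q ∣ Nat.card (Subgroup.centralizer ({g} : Set G)) := by
  intro hd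
  obtain ⟨x, hx⟩ := exists_prime_orderOf_dvd_card' q hd
  obtain ⟨k, hk⟩ := hgp
  have hk0 : k ≠ 0 := by
    rintro rfl
    exact hg (orderOf_eq_one_iff.1 (by simpa using hk))
  have hcomm : Commute (x : G) g := Subgroup.mem_centralizer_singleton_iff.1 x.2
  have hx' : orderOf (x : G) = q := by rw [Subgroup.orderOf_coe, hx]
  have hcop : (orderOf (x : G)).Coprime (orderOf g) := by
    rw [hx', hk]
    exact Nat.Coprime.pow_right _ ((Nat.coprime_primes hq.out hp.out).2 hpq.symm)
  have h1 := hcomm.orderOf_mul_eq_mul_orderOf_of_coprime hcop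
  refine h (x * g) ?_
  rw [h1, hx', hk, mul_comm p q]
  exact Nat.mul_dvd_mul_left q (dvd_pow_self p hk0)

theorem not_dvd_orderOf [Finite G] {p q : ℕ} [hp : Fact p.Prime] [hq : Fact q.Prime]
    (hC : ∀ g : G, g ≠ 1 → (∃ k : ℕ, orderOf g = p ^ k) →
      ¬ q ∣ Nat.card (Subgroup.centralizer ({g} : Set G))) (y : G) : ¬ p * q ∣ orderOf y := by
  rintro ⟨m, hm⟩
  have hm0 : m ≠ 0 := by
    rintro rfl
    rw [mul_zero] at hm
    exact (orderOf_pos y).ne' hm
  have h1 : orderOf (y ^ (q * m)) = p := by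
    rw [orderOf_pow_of_dvd (Nat.mul_ne_zero hq.out.ne_zero hm0) ⟨p, by rw [hm]; ring⟩, hm,
      show p * q * m = (q * m) * p by ring]
    exact Nat.mul_div_cancel_left p (Nat.pos_of_ne_zero (Nat.mul_ne_zero hq.out.ne_zero hm0))
  have h2 : orderOf (y ^ (p * m)) = q := by
    rw [orderOf_pow_of_dvd (Nat.mul_ne_zero hp.out.ne_zero hm0) ⟨q, by rw [hm]; ring⟩, hm,
      show p * q * m = (p * m) * q by ring]
    exact Nat.mul_div_cancel_left q (Nat.pos_of_ne_zero (Nat.mul_ne_zero hp.out.ne_zero hm0))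
  have h3 : y ^ (q * m) ≠ 1 := by
    intro h
    rw [h, orderOf_one] at h1
    exact hp.out.one_lt.ne h1
  refine hC (y ^ (q * m)) h3 ⟨1, by rw [h1, pow_one]⟩ ?_
  have h4 : y ^ (p * m) ∈ Subgroup.centralizer ({y ^ (q * m)} : Set G) := by
    rw [Subgroup.mem_centralizer_singleton_iff, ← pow_add, ← pow_add, add_comm]
  have h5 := orderOf_dvd_natCard (⟨y ^ (p * m), h4⟩ : Subgroup.centralizer ({y ^ (q * m)} : Set G))
  rw [Subgroup.orderOf_mk, h2] at h5
  exact h5

/-- If a normal subgroup contains a nonidentity `q`-element, and no nonidentity `p`-elements, then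
there is an irreducible character of `p`-defect zero. -/
theorem hasDZ_of_normal [Finite G] {p q : ℕ} [hp : Fact p.Prime] [hq : Fact q.Prime]
    (hpq : p ≠ q) (h : ∀ y : G, ¬ p * q ∣ orderOf y) (N : Subgroup G) [N.Normal]
    (hNp : ¬ p ∣ Nat.card N) (hNq : q ∣ Nat.card N) : HasDZ p G := by
  obtain ⟨s, hs⟩ := exists_prime_orderOf_dvd_card' q hNq
  have hs' : orderOf (s : G) = q := by rw [Subgroup.orderOf_coe, hs]
  have hs1 : (s : G) ≠ 1 := by
    intro h1
    rw [h1, orderOf_one] at hs'
    exact hq.out.one_lt.ne hs'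
  have hC : ¬ p ∣ Nat.card (Subgroup.centralizer ({(s : G)} : Set G)) :=
    not_dvd_centralizer hpq.symm (fun y => by rw [mul_comm]; exact h y) hs1
      ⟨1, by rw [hs', pow_one]⟩
  rcases Cfsg.Agent.H665.DefZero.defectZero_or p (s : G) hC with h1 | ⟨g, g', hg, hg', hne, k, hk⟩
  · exact h1
  · exfalso
    have hgN : g ∈ N := by
      obtain ⟨c, rfl⟩ := isConj_iff.1 hg
      exact ‹N.Normal›.conj_mem _ s.2 c
    have hgN' : g' ∈ N := by
      obtain ⟨c, rfl⟩ := isConj_iff.1 hg'
      exact ‹N.Normal›.conj_mem _ s.2 c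
    have h2 : g * g'⁻¹ ∈ N := N.mul_mem hgN (N.inv_mem hgN')
    have hk0 : k ≠ 0 := by
      rintro rfl
      exact hne (orderOf_eq_one_iff.1 (by simpa using hk))
    apply hNp
    refine (dvd_pow_self p hk0).trans ?_
    rw [← hk, ← Subgroup.orderOf_mk _ h2]
    exact orderOf_dvd_natCard _

theorem exists_defectZero_of_pSolvable (p q : ℕ) [hp : Fact p.Prime] [hq : Fact q.Prime]
    (hpq : p ≠ q) (n : ℕ) : ∀ (G : Type _) [Group G] [Finite G], Nat.card G = n →
      (∀ y : G, ¬ p * q ∣ orderOf y) → IsPSolvable p G → HasDZ p G ∨ HasDZ q G := by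
  induction n using Nat.strong_induction_on with
  | _ n ih =>
    intro G _ _ hn hG hsol
    rcases subsingleton_or_nontrivial G with hsub | hnt
    · left
      apply hasDZ_of_not_dvd
      rw [Nat.card_of_subsingleton (1 : G)]
      exact hp.out.one_lt.ne' ∘ Nat.dvd_one.1
    rcases Cfsg.Agent.Lib.PSolvable.exists_core_ne_bot p hsol with h | h
    · -- a nontrivial normal `p`-subgroup
      right
      have hpg : IsPGroup p (pCore p G) := Cfsg.Agent.Lib.HallHigman.pCore_isPGroup p
      obtain ⟨m, hm⟩ := IsPGroup.iff_card.1 hpg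
      have hm0 : m ≠ 0 := by
        rintro rfl
        rw [pow_zero] at hm
        exact h (Subgroup.card_eq_one.1 hm)
      refine hasDZ_of_normal (p := q) (q := p) hpq.symm (fun y => by rw [mul_comm]; exact hG y)
        (pCore p G) ?_ ?_
      · rw [hm]
        intro hd
        exact hpq ((Nat.prime_dvd_prime_iff_eq hq.out hp.out).1 (hq.out.dvd_of_dvd_pow hd)).symm
      · rw [hm]; exact dvd_pow_self p hm0
    · have hcop : (Nat.card (pPrimeCore p G)).Coprime p :=
        Cfsg.Agent.Lib.HallHigman.pPrimeCore_coprime p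
      have hnp : ¬ p ∣ Nat.card (pPrimeCore p G) := by
        intro hd
        exact hp.out.one_lt.ne' (Nat.eq_one_of_dvd_coprimes hcop hd dvd_rfl)
      by_cases hqd : q ∣ Nat.card (pPrimeCore p G)
      · left
        exact hasDZ_of_normal hpq hG (pPrimeCore p G) hnp hqd
      · have hlt : Nat.card (G ⧸ pPrimeCore p G) < n := by
          rw [← hn, Subgroup.card_eq_card_quotient_mul_card_subgroup (pPrimeCore p G)]
          have h1 : 1 < Nat.card (pPrimeCore p G) :=
            Subgroup.one_lt_card_iff_ne_bot _ |>.2 h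
          have h2 : 0 < Nat.card (G ⧸ pPrimeCore p G) := Nat.card_pos
          nlinarith
        have hquot : ∀ y : G ⧸ pPrimeCore p G, ¬ p * q ∣ orderOf y := by
          intro y hy
          obtain ⟨x, rfl⟩ := QuotientGroup.mk'_surjective _ y
          exact hG x (hy.trans (orderOf_map_dvd (QuotientGroup.mk' (pPrimeCore p G)) x))
        have hs : IsPSolvable p (G ⧸ pPrimeCore p G) :=
          Cfsg.Agent.Lib.PSolvable.IsPSolvable_of_surjective p hsol
            (QuotientGroup.mk' (pPrimeCore p G)) (QuotientGroup.mk'_surjective _)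
        rcases ih _ hlt (G ⧸ pPrimeCore p G) rfl hquot hs with h1 | h1
        · left; exact hasDZ_of_quotient _ hnp h1
        · right; exact hasDZ_of_quotient _ hqd h1

end Cfsg.Agent.H665.NoPQ
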