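import Mathlib
import Cfsg.Agent.Characters.Brauer
import Cfsg.Agent.Characters.Central
import Cfsg.Agent.Characters.Linear
import Cfsg.Agent.Characters.Clifford

/-!
# Irreducible characters of a group with a normal, centrally acting `p`-subgroup

`Setup` : `P ≤ C` are normal subgroups of `N`, `P` is central in `C`, an element of `N` commuting with
a nonidentity element of `P` is in `C`, and `a ↦ a ^ k` is a projection of `C` onto `P`.  For an
irreducible character `ψ` of `N` nontrivial on `P` the other characters with the same values on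
`p`-regular elements are constructed.
-/

set_option autoImplicit false
set_option linter.style.haveILetI false
set_option linter.unusedSectionVars false

namespace Cfsg.Agent.H665.LeonN

open Cfsg Cfsg.Agent.Characters.Core
open scoped ComplexConjugate

universe u

variable {N : Type u} [Group N]

/-- An irreducible representation of `N` nontrivial on the normal subgroup `P` has no fixed vectors
of `P`. -/
theorem sum_eq_zero {ζ : N → ℂ} (hζ : IsIrrCharacter N ζ) (P : Subgroup N) [hP : P.Normal]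
    [Fintype P] (h : ∃ x ∈ P, ζ x ≠ ζ 1) (n : N) : ∑ x : P, ζ (x * n) = 0 := by
  classical
  obtain ⟨m, ρ, hρ, rfl⟩ := hζ
  let e : Module.End ℂ (Fin m → ℂ) := ∑ x : P, ρ x
  have hcomm : ∀ g, e * ρ g = ρ g * e := by
    intro g
    simp only [e, Finset.sum_mul, Finset.mul_sum]
    refine Fintype.sum_equiv (MulAut.conjNormal g⁻¹ : MulAut P).toEquiv _ _ fun x => ?_
    rw [← map_mul, ← map_mul]
    congr 1
    show (x : N) * g = g * (((MulAut.conjNormal g⁻¹ : MulAut P) x : P) : N)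
    rw [MulAut.conjNormal_apply]
    group
  obtain ⟨c, hc⟩ := Cfsg.Agent.Characters.Central.exists_smul_of_comm ρ hρ e hcomm
  obtain ⟨x₀, hx₀, hne⟩ := h
  have h1 : ρ x₀ * e = e := by
    simp only [e, Finset.mul_sum]
    refine Fintype.sum_equiv (Equiv.mulLeft (⟨x₀, hx₀⟩ : P)) _ _ fun x => ?_
    rw [← map_mul]; rfl
  have hc0 : c = 0 := by
    by_contra hc0
    rw [hc, mul_smul_comm, mul_one] at h1
    have h2 : ρ x₀ = 1 := smul_right_injective _ hc0 h1
    apply hne
    show LinearMap.trace ℂ _ (ρ x₀) = LinearMap.trace ℂ _ (ρ 1)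
    rw [h2, map_one ρ]
  have he : e = 0 := by rw [hc, hc0, zero_smul]
  have h3 : LinearMap.trace ℂ _ (e * ρ n) = 0 := by rw [he, zero_mul, map_zero]
  rw [← h3]
  simp only [e, Finset.sum_mul, map_sum]
  exact Finset.sum_congr rfl fun x _ => by rw [← map_mul]; rfl

/-- The central character of an irreducible character on a central subgroup. -/
theorem exists_central {C : Type u} [Group C] {θ : C → ℂ} (hθ : IsIrrCharacter C θ) (Z : Subgroup C)
    (hZ : ∀ x ∈ Z, ∀ c, x * c = c * x) :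
    ∃ lam : Z →* ℂˣ, ∀ (x : Z) (c : C), θ (x * c) = (lam x : ℂ) * θ c := by
  obtain ⟨m, ρ, hρ, rfl⟩ := hθ
  have hne : ρ.character 1 ≠ 0 := Cfsg.Agent.Characters.Central.char_one_ne_zero ρ hρ
  have h : ∀ x : Z, ∃ c : ℂ, ρ x = c • (1 : Module.End ℂ (Fin m → ℂ)) := fun x =>
    Cfsg.Agent.Characters.Central.exists_smul_of_comm ρ hρ (ρ x) fun g => by
      rw [← map_mul, ← map_mul, hZ x x.2 g]
  choose c hc using h
  have htr : ∀ x : Z, ∀ g : C, ρ.character (x * g) = c x * ρ.character g := by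
    intro x g
    show LinearMap.trace ℂ _ (ρ (x * g)) = _ * LinearMap.trace ℂ _ (ρ g)
    rw [map_mul, hc x, smul_mul_assoc, one_mul, map_smul, smul_eq_mul]
  have h1 : c 1 = 1 := by
    have := htr 1 1
    rw [show ((1 : Z) : C) * 1 = 1 by simp] at this
    exact mul_right_cancel₀ hne (this.symm.trans (one_mul _).symm)
  have h2 : ∀ x y : Z, c (x * y) = c x * c y := by
    intro x y
    have e1 := htr (x * y) 1
    have e2 := htr x (y * 1)
    have e3 := htr y 1
    rw [e3] at e2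
    have e4 : (((x * y : Z) : C)) * 1 = x * (y * 1) := by simp
    rw [e4, e2, ← mul_assoc] at e1
    exact (mul_right_cancel₀ hne e1).symm
  let f : Z →* ℂ := { toFun := c, map_one' := h1, map_mul' := h2 }
  exact ⟨f.toHomUnits, fun x g => htr x g⟩

/-- The square of the norm of a character induced from a normal subgroup. -/
theorem classInner_ind_ind [Fintype N] (C : Subgroup N) [C.Normal] [Fintype C] (θ : C → ℂ) :
    classInner (indFun C θ) (indFun C θ) = (Nat.card C : ℂ)⁻¹ *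
      ∑ n : N, classInner θ (θ ∘ (MulAut.conjNormal n⁻¹ : MulAut C)) := by
  classical
  rw [Cfsg.Agent.Characters.Brauer.classInner_indFun C _ θ _
    (Cfsg.Agent.Characters.Brauer.indFun_isClassFunction C θ)]
  simp only [classInner_def, Cfsg.Agent.Characters.Brauer.indFun_apply, map_mul, map_inv₀,
    map_natCast, map_sum]
  rw [← Finset.mul_sum]
  congr 1
  rw [Finset.sum_comm, Finset.mul_sum]
  refine Finset.sum_congr rfl fun c _ => ?_
  rw [Finset.mul_sum, Finset.mul_sum, Finset.mul_sum]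
  refine Finset.sum_congr rfl fun x _ => ?_
  have h : x⁻¹ * (c : N) * x ∈ C := by
    have := (inferInstance : C.Normal).conj_mem c c.2 x⁻¹
    rwa [inv_inv] at this
  rw [Cfsg.Agent.Characters.Brauer.extendByZero_mem C _ h]
  have h2 : (MulAut.conjNormal x⁻¹ : MulAut C) c = ⟨x⁻¹ * c * x, h⟩ := by
    apply Subtype.ext
    rw [MulAut.conjNormal_apply, inv_inv]
  rw [Function.comp, h2]
  ring

/-- Setup: see the top of the file. -/
structure Setup (p k : ℕ) (P C : Subgroup N) : Prop where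
  nP : P.Normal
  nC : C.Normal
  le : P ≤ C
  cent : ∀ x ∈ P, ∀ c ∈ C, x * c = c * x
  semi : ∀ x ∈ P, x ≠ 1 → ∀ n : N, n * x = x * n → n ∈ C
  powmul : ∀ a ∈ C, ∀ b ∈ C, (a * b) ^ k = a ^ k * b ^ k
  powmem : ∀ a ∈ C, a ^ k ∈ P
  powfix : ∀ x ∈ P, x ^ k = x
  powreg : ∀ a ∈ C, ¬ p ∣ orderOf a → a ^ k = 1

namespace Setup

variable {p k : ℕ} {P C : Subgroup N}

/-- The projection. -/
def proj (S : Setup p k P C) : C →* P where
  toFun c := ⟨(c : N) ^ k, S.powmem c c.2⟩
  map_one' := Subtype.ext (one_pow k)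
  map_mul' a b := Subtype.ext (S.powmul a a.2 b b.2)

theorem coe_proj (S : Setup p k P C) (c : C) : ((S.proj c : P) : N) = (c : N) ^ k := rfl

theorem proj_mul (S : Setup p k P C) (x : P) (c : C) :
    S.proj (⟨x, S.le x.2⟩ * c) = x * S.proj c := by
  rw [map_mul]
  congr 1
  exact Subtype.ext (S.powfix x x.2)

/-- `N` acts fixed-point-freely on the nonprincipal characters of `P` modulo `C`. -/
theorem semi_dual [Finite N] (S : Setup p k P C) {μ : P →* ℂˣ} {n : N}
    (h : ∀ x y : P, (y : N) = n⁻¹ * x * n → μ y = μ x) (hn : n ∉ C) : μ = 1 := by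
  classical
  have hP := S.nP
  -- the map `x ↦ x⁻¹ * n⁻¹ x n`
  have hmem : ∀ x : P, n⁻¹ * (x : N) * n ∈ P := fun x => by
    have := hP.conj_mem x x.2 n⁻¹
    rwa [inv_inv] at this
  let f : P → P := fun x => x⁻¹ * ⟨n⁻¹ * x * n, hmem x⟩
  have hf : Function.Injective f := by
    intro x y hxy
    have h0 : (x : N)⁻¹ * (n⁻¹ * x * n) = (y : N)⁻¹ * (n⁻¹ * y * n) := congrArg Subtype.val hxy
    have hc : ∀ a b : P, (a : N) * b = b * a := fun a b => S.cent a a.2 b (S.le b.2)
    have h1 : n * ((y : N)⁻¹ * x) = ((y : N)⁻¹ * x) * n := by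
      have e1 : (n⁻¹ * x * n) * (n⁻¹ * y * n)⁻¹ = (x : N) * (y : N)⁻¹ := by
        have h2 : (n⁻¹ * (x : N) * n) = x * ((y : N)⁻¹ * (n⁻¹ * y * n)) := by
          rw [← h0]; group
        rw [h2]; group
      have e2 : (n⁻¹ * (x : N) * n) * (n⁻¹ * y * n)⁻¹ = n⁻¹ * (x * (y : N)⁻¹) * n := by group
      rw [e2] at e1
      have e3 : (x : N) * (y : N)⁻¹ = (y : N)⁻¹ * x := hc x (y⁻¹ : P)
      rw [e3] at e1
      calc n * ((y : N)⁻¹ * x) = n * (n⁻¹ * ((y : N)⁻¹ * x) * n) := by rw [e1]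
        _ = _ := by group
    by_contra hne
    apply hn
    refine S.semi ((y : N)⁻¹ * x) (P.mul_mem (P.inv_mem y.2) x.2) ?_ n h1
    intro h2
    exact hne (Subtype.ext (inv_mul_eq_one.mp h2).symm)
  have hs := Finite.surjective_of_injective hf
  ext x
  obtain ⟨y, rfl⟩ := hs x
  rw [map_mul, map_inv, h y ⟨n⁻¹ * y * n, hmem y⟩ rfl, inv_mul_cancel]
  rfl

/-- The twisted characters of `C`. -/
noncomputable def tw (S : Setup p k P C) (lam μ : P →* ℂˣ) (θ : C → ℂ) : C → ℂ :=
  fun c => (((μ * lam⁻¹).comp S.proj c : ℂˣ) : ℂ) * θ c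

theorem tw_self (S : Setup p k P C) (lam : P →* ℂˣ) (θ : C → ℂ) : S.tw lam lam θ = θ := by
  funext c
  simp [tw]

theorem tw_mul (S : Setup p k P C) {lam : P →* ℂˣ} (μ : P →* ℂˣ) {θ : C → ℂ}
    (hlam : ∀ (x : P) (c : C), θ (⟨x, S.le x.2⟩ * c) = (lam x : ℂ) * θ c) (x : P) (c : C) :
    S.tw lam μ θ (⟨x, S.le x.2⟩ * c) = (μ x : ℂ) * S.tw lam μ θ c := by
  have h1 : (μ * lam⁻¹).comp S.proj (⟨x, S.le x.2⟩ * c) =
      μ x * (lam x)⁻¹ * ((μ * lam⁻¹).comp S.proj c) := by
    rw [MonoidHom.comp_apply, S.proj_mul, map_mul]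
    rfl
  show ((((μ * lam⁻¹).comp S.proj (⟨x, S.le x.2⟩ * c) : ℂˣ) : ℂ)) * θ (⟨x, S.le x.2⟩ * c) = _ * ((((μ * lam⁻¹).comp S.proj c : ℂˣ) : ℂ) * θ c)
  rw [h1, hlam]
  have h2 : ((lam x : ℂˣ) : ℂ) ≠ 0 := (lam x).ne_zero
  push_cast
  field_simp

theorem tw_one (S : Setup p k P C) (lam μ : P →* ℂˣ) (θ : C → ℂ) : S.tw lam μ θ 1 = θ 1 := by
  simp [tw]

theorem tw_injective (S : Setup p k P C) {lam : P →* ℂˣ} {θ : C → ℂ}
    (hlam : ∀ (x : P) (c : C), θ (⟨x, S.le x.2⟩ * c) = (lam x : ℂ) * θ c) (h1 : θ 1 ≠ 0)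
    {μ ν : P →* ℂˣ} (h : S.tw lam μ θ = S.tw lam ν θ) : μ = ν := by
  ext x
  have e1 := S.tw_mul μ hlam x 1
  have e2 := S.tw_mul ν hlam x 1
  rw [h, e2, S.tw_one, ] at e1
  exact (mul_right_cancel₀ h1 e1).symm

theorem isIrr_tw [Finite N] (S : Setup p k P C) (lam μ : P →* ℂˣ) {θ : C → ℂ}
    (hθ : IsIrrCharacter C θ) : IsIrrCharacter C (S.tw lam μ θ) := by
  classical
  have := Fintype.ofFinite N
  have : Fintype C := Fintype.ofFinite C
  have hc : IsCharacter C (S.tw lam μ θ) :=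
    isCharacter_mul (Cfsg.Agent.Characters.Linear.isCharacter_hom ((μ * lam⁻¹).comp S.proj))
      (isIrr_isCharacter hθ)
  refine isIrr_of_classInner_self hc ?_
  rw [← classInner_irr_self hθ, classInner_def, classInner_def]
  congr 1
  refine Finset.sum_congr rfl fun c _ => ?_
  have hn := Cfsg.Agent.Characters.Linear.norm_hom_apply ((μ * lam⁻¹).comp S.proj) c
  show _ * θ c * conj (_ * θ c) = _
  rw [map_mul]
  have h2 : ((((μ * lam⁻¹).comp S.proj) c : ℂˣ) : ℂ) *
      conj ((((μ * lam⁻¹).comp S.proj) c : ℂˣ) : ℂ) = 1 := by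
    rw [Complex.mul_conj, Complex.normSq_eq_norm_sq, hn]; norm_num
  calc _ = ((((μ * lam⁻¹).comp S.proj) c : ℂˣ) : ℂ) *
      conj ((((μ * lam⁻¹).comp S.proj) c : ℂˣ) : ℂ) * (θ c * conj (θ c)) := by ring
    _ = _ := by rw [h2, one_mul]

/-- The characters induced from `C` are irreducible. -/
theorem isIrr_ind [Fintype N] (S : Setup p k P C) {μ : P →* ℂˣ} (hμ : μ ≠ 1) {θ : C → ℂ}
    (hθ : IsIrrCharacter C θ)
    (hlam : ∀ (x : P) (c : C), θ (⟨x, S.le x.2⟩ * c) = (μ x : ℂ) * θ c) :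
    IsIrrCharacter N (indFun C θ) := by
  classical
  have := S.nC
  have := S.nP
  have : Fintype C := Fintype.ofFinite C
  refine isIrr_of_classInner_self
    (Cfsg.Agent.Characters.Brauer.isCharacter_indFun C (isIrr_isCharacter hθ)) ?_
  rw [classInner_ind_ind]
  have h1 : ∀ n : N, classInner θ (θ ∘ (MulAut.conjNormal n⁻¹ : MulAut C)) =
      if n ∈ C then 1 else 0 := by
    intro n
    split_ifs with hn
    · rw [← classInner_irr_self hθ]
      congr 1
      funext c
      have h2 : (MulAut.conjNormal n⁻¹ : MulAut C) c = (⟨n, hn⟩ : C)⁻¹ * c * (⟨n, hn⟩ : C)⁻¹⁻¹ := by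
        apply Subtype.ext
        rw [MulAut.conjNormal_apply]
        rfl
      rw [Function.comp, h2]
      exact isIrr_isClassFunction hθ c _
    · refine classInner_irr_ne hθ (Cfsg.Agent.Characters.Clifford.isIrr_conjNormal hθ n⁻¹) ?_
      intro h
      apply hμ
      refine S.semi_dual (n := n) ?_ hn
      intro x y hxy
      have e1 := hlam x 1
      have e2 := hlam y 1
      have e3 := congrFun h (⟨x, S.le x.2⟩ * 1)
      have h2 : (MulAut.conjNormal n⁻¹ : MulAut C) (⟨x, S.le x.2⟩ * 1) = ⟨y, S.le y.2⟩ * 1 := by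
        apply Subtype.ext
        rw [MulAut.conjNormal_apply, inv_inv]
        show n⁻¹ * ((x : N) * 1) * n = y * 1
        rw [mul_one, mul_one, hxy]
      rw [Function.comp, h2, e1, e2] at e3
      exact Units.ext (mul_right_cancel₀ (isIrr_apply_one_ne_zero hθ) e3).symm
  simp only [h1]
  rw [Finset.sum_ite, Finset.sum_const_zero, add_zero, Finset.sum_const, nsmul_eq_mul, mul_one]
  have h3 : (Finset.univ.filter fun n : N => n ∈ C).card = Nat.card C := by
    rw [Nat.card_eq_fintype_card, Fintype.card_subtype]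
  rw [h3]
  exact inv_mul_cancel₀ card_ne_zero_complex

end Setup

end Cfsg.Agent.H665.LeonN
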