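import Mathlib
import Cfsg.Agent.H665.LeonN
import Cfsg.Agent.Characters.Values

/-!
# The family of characters with the same values on `p`-regular elements: counting
-/

set_option autoImplicit false
set_option linter.style.haveILetI false
set_option linter.unusedSectionVars false

namespace Cfsg.Agent.H665.LeonN

open Cfsg Cfsg.Agent.Characters.Core
open scoped ComplexConjugate

universe u

variable {N : Type u} [Group N]

/-- An element in the kernel of a character. -/
theorem apply_mul_of_ker [Finite N] {ζ : N → ℂ} (hζ : IsCharacter N ζ) {x : N} (h : ζ x = ζ 1)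
    (n : N) : ζ (x * n) = ζ n := by
  obtain ⟨m, ρ, rfl⟩ := hζ
  have h2 : ρ x = LinearMap.id := by
    rw [Representation.char_one] at h
    exact (Characters.Values.character_eq_finrank_iff ρ x).1 h
  show LinearMap.trace ℂ _ (ρ (x * n)) = LinearMap.trace ℂ _ (ρ n)
  rw [map_mul, h2]
  rfl

/-- A nonzero character has an irreducible constituent. -/
theorem exists_constituent {C : Type u} [Group C] [Fintype C] {χ : C → ℂ} (hχ : IsCharacter C χ)
    (h1 : χ 1 ≠ 0) : ∃ θ : C → ℂ, IsIrrCharacter C θ ∧ classInner χ θ ≠ 0 := by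
  by_contra hcon
  push Not at hcon
  apply h1
  have h2 : χ = 0 := classFunction_ext (isCharacter_isClassFunction hχ) (fun _ _ => rfl) (by
    intro θ hθ
    rw [hcon θ hθ, classInner_zero_left])
  rw [h2]; rfl

namespace Setup

variable {p k : ℕ} {P C : Subgroup N}

/-- The characters of `N` nontrivial on `P` are induced from `C`. -/
theorem exists_theta [Fintype N] (S : Setup p k P C) {ψ : N → ℂ} (hψ : IsIrrCharacter N ψ)
    (hP : ∃ x ∈ P, ψ x ≠ ψ 1) :
    ∃ (θ : C → ℂ) (lam : P →* ℂˣ), IsIrrCharacter C θ ∧ lam ≠ 1 ∧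
      (∀ (x : P) (c : C), θ (⟨x, S.le x.2⟩ * c) = (lam x : ℂ) * θ c) ∧ indFun C θ = ψ := by
  classical
  have := S.nC
  have := S.nP
  have : Fintype C := Fintype.ofFinite C
  have : Fintype P := Fintype.ofFinite P
  have hψC := Cfsg.Agent.Characters.Brauer.isCharacter_restrict (isIrr_isCharacter hψ) C
  obtain ⟨θ, hθ, hne⟩ := exists_constituent hψC (isIrr_apply_one_ne_zero hψ)
  obtain ⟨lam', hlam'⟩ := exists_central hθ (P.subgroupOf C) (by
    intro x hx c
    exact Subtype.ext (S.cent x hx c c.2))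
  let lam : P →* ℂˣ := lam'.comp (Subgroup.subgroupOfEquivOfLe S.le).symm.toMonoidHom
  have hlam : ∀ (x : P) (c : C), θ (⟨x, S.le x.2⟩ * c) = (lam x : ℂ) * θ c := by
    intro x c
    exact hlam' ((Subgroup.subgroupOfEquivOfLe S.le).symm x) c
  have hlam1 : lam ≠ 1 := by
    intro h1
    apply hne
    have h2 : ∀ x : P, ∑ c : C, ψ c * conj (θ c) = ∑ c : C, ψ ((x : N) * c) * conj (θ c) := by
      intro x
      rw [← Equiv.sum_comp (Equiv.mulLeft (⟨x, S.le x.2⟩ : C))]
      refine Finset.sum_congr rfl fun c _ => ?_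
      rw [Equiv.coe_mulLeft, hlam, h1]
      simp
    have h3 : (Fintype.card P : ℂ) * ∑ c : C, ψ c * conj (θ c) = 0 := by
      rw [← nsmul_eq_mul, ← Finset.card_univ, ← Finset.sum_const]
      rw [Finset.sum_congr rfl fun x _ => h2 x, Finset.sum_comm]
      refine Finset.sum_eq_zero fun c _ => ?_
      rw [← Finset.sum_mul, sum_eq_zero hψ P hP, zero_mul]
    have h4 : (Fintype.card P : ℂ) ≠ 0 := by exact_mod_cast Fintype.card_ne_zero
    rw [classInner_def, (mul_eq_zero.mp h3).resolve_left h4, mul_zero]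
  refine ⟨θ, lam, hθ, hlam1, hlam, ?_⟩
  by_contra hcon
  have h5 := classInner_irr_ne (S.isIrr_ind hlam1 hθ hlam) hψ hcon
  rw [Cfsg.Agent.Characters.Brauer.classInner_indFun C _ θ ψ (isIrr_isClassFunction hψ),
    ← classInner_conj_symm, map_eq_zero] at h5
  exact hne h5

theorem ind_one [Fintype N] (_S : Setup p k P C) (θ : C → ℂ) : indFun C θ 1 = C.index * θ 1 := by
  classical
  have hC : (Nat.card C : ℂ) ≠ 0 := by exact_mod_cast Nat.card_pos.ne'
  rw [Cfsg.Agent.Characters.Brauer.indFun_apply]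
  have h : ∀ x : N, extendByZero C θ (x⁻¹ * 1 * x) = θ 1 := by
    intro x
    have : x⁻¹ * 1 * x = ((1 : C) : N) := by simp
    rw [this, Cfsg.Agent.Characters.Brauer.extendByZero_coe]
  simp only [h]
  rw [Finset.sum_const, Finset.card_univ, nsmul_eq_mul, ← Nat.card_eq_fintype_card,
    ← C.card_mul_index]
  push_cast
  field_simp

/-- The induced characters agree on `p`-regular elements. -/
theorem ind_tw_of_regular [Fintype N] (S : Setup p k P C) (lam μ : P →* ℂˣ) (θ : C → ℂ) {n : N}
    (hn : ¬ p ∣ orderOf n) : indFun C (S.tw lam μ θ) n = indFun C θ n := by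
  rw [Cfsg.Agent.Characters.Brauer.indFun_apply, Cfsg.Agent.Characters.Brauer.indFun_apply]
  congr 1
  refine Finset.sum_congr rfl fun x _ => ?_
  by_cases hx : x⁻¹ * n * x ∈ C
  · rw [Cfsg.Agent.Characters.Brauer.extendByZero_mem C _ hx,
      Cfsg.Agent.Characters.Brauer.extendByZero_mem C _ hx]
    have h1 : orderOf (x⁻¹ * n * x) = orderOf n := by
      have := (MulAut.conj x⁻¹).orderOf_eq n
      rwa [MulAut.conj_apply, inv_inv] at this
    have h2 : S.proj ⟨x⁻¹ * n * x, hx⟩ = 1 := Subtype.ext (S.powreg _ hx (by rw [h1]; exact hn))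
    show (((μ * lam⁻¹).comp S.proj ⟨x⁻¹ * n * x, hx⟩ : ℂˣ) : ℂ) * θ _ = _
    rw [MonoidHom.comp_apply, h2, map_one, Units.val_one, one_mul]
  · rw [Cfsg.Agent.Characters.Brauer.extendByZero_notMem C _ hx,
      Cfsg.Agent.Characters.Brauer.extendByZero_notMem C _ hx]

theorem ind_of_notMem [Fintype N] (S : Setup p k P C) (θ : C → ℂ) {n : N} (hn : n ∉ C) :
    indFun C θ n = 0 := by
  have := S.nC
  rw [Cfsg.Agent.Characters.Brauer.indFun_apply, Finset.sum_eq_zero, mul_zero]
  intro x _
  rw [Cfsg.Agent.Characters.Brauer.extendByZero_notMem]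
  intro h
  apply hn
  have := this.conj_mem _ h x
  have h2 : x * (x⁻¹ * n * x) * x⁻¹ = n := by group
  rwa [h2] at this

/-- The multiplicities of the twisted characters. -/
theorem sum_le [Fintype N] [Fintype (P →* ℂˣ)] (S : Setup p k P C) {θ : C → ℂ} {lam : P →* ℂˣ}
    (hθ : IsIrrCharacter C θ)
    (hlam : ∀ (x : P) (c : C), θ (⟨x, S.le x.2⟩ * c) = (lam x : ℂ) * θ c) {F : N → ℂ}
    (hF : IsCharacter N F) {D t : ℕ} (hD : F 1 = D) (ht : θ 1 = t) :
    ∃ M : (P →* ℂˣ) → ℕ, (∀ μ, classInner F (indFun C (S.tw lam μ θ)) = M μ) ∧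
      (∑ μ, M μ) * t ≤ D := by
  classical
  have : Fintype C := Fintype.ofFinite C
  have : Finite (IrrCharacter C) := finite_irr
  have : Fintype (IrrCharacter C) := Fintype.ofFinite _
  have hFC := Cfsg.Agent.Characters.Brauer.isCharacter_restrict hF C
  obtain ⟨m, hm⟩ := exists_nat_comb hFC
  let e : (P →* ℂˣ) → IrrCharacter C := fun μ => ⟨S.tw lam μ θ, S.isIrr_tw lam μ hθ⟩
  have he : Function.Injective e := fun μ ν h =>
    S.tw_injective hlam (isIrr_apply_one_ne_zero hθ) (congrArg Subtype.val h)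
  refine ⟨fun μ => m (e μ), ?_, ?_⟩
  · intro μ
    rw [← classInner_conj_symm, Cfsg.Agent.Characters.Brauer.classInner_indFun C _ _ F
      (isCharacter_isClassFunction hF), classInner_conj_symm, hm]
    exact classInner_sum_nsmul_irr m (e μ)
  · choose d hd0 hd using fun η : IrrCharacter C => isIrr_apply_one η.2
    have h1 : D = ∑ η : IrrCharacter C, m η * d η := by
      have h2 := congrFun hm 1
      have h3 : F ((1 : C) : N) = D := by rw [← hD]; rfl
      rw [h3, Finset.sum_apply] at h2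
      have h4 : (D : ℂ) = ((∑ η : IrrCharacter C, m η * d η : ℕ) : ℂ) := by
        rw [h2]
        push_cast
        refine Finset.sum_congr rfl fun η _ => ?_
        rw [Pi.smul_apply, hd, nsmul_eq_mul]
      exact_mod_cast h4
    have h5 : ∀ μ, d (e μ) = t := by
      intro μ
      have h6 := hd (e μ)
      have h7 : ((e μ : IrrCharacter C) : C → ℂ) 1 = t := by
        rw [← ht]; exact S.tw_one lam μ θ
      rw [h7] at h6
      exact_mod_cast h6.symm
    rw [h1, Finset.sum_mul]
    calc ∑ μ, m (e μ) * t = ∑ μ, m (e μ) * d (e μ) := by simp only [h5]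
      _ = ∑ η ∈ Finset.univ.image e, m η * d η := by
          rw [Finset.sum_image (fun a _ b _ h => he h)]
      _ ≤ ∑ η : IrrCharacter C, m η * d η :=
          Finset.sum_le_sum_of_subset (Finset.subset_univ _)

/-- The inner product of the restrictions to `P`. -/
theorem sum_P_eq [Fintype N] [Fintype P] (S : Setup p k P C) {ψ : N → ℂ}
    (hψ : IsIrrCharacter N ψ) {θ : C → ℂ} (hind : indFun C θ = ψ) :
    (Nat.card P : ℂ)⁻¹ * ∑ x : P, ψ x * conj (ψ x) =
      C.index * classInner (fun x : P => ψ x) (fun x : P => θ ⟨x, S.le x.2⟩) := by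
  classical
  have hPn := S.nP
  have hC : (Nat.card C : ℂ) ≠ 0 := by exact_mod_cast Nat.card_pos.ne'
  have hmem : ∀ (g : N) (x : P), g⁻¹ * (x : N) * g ∈ P := fun g x => by
    have := hPn.conj_mem x x.2 g⁻¹
    rwa [inv_inv] at this
  have key : ∀ g : N, ∑ x : P, ψ x * conj (extendByZero C θ (g⁻¹ * x * g)) =
      ∑ x : P, ψ x * conj (θ ⟨x, S.le x.2⟩) := by
    intro g
    refine Fintype.sum_equiv (MulAut.conjNormal g⁻¹ : MulAut P).toEquiv _ _ fun x => ?_
    have h1 : ((MulAut.conjNormal g⁻¹ : MulAut P).toEquiv x : N) = g⁻¹ * x * g := by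
      show (((MulAut.conjNormal g⁻¹ : MulAut P) x : P) : N) = _
      rw [MulAut.conjNormal_apply, inv_inv]
    have h2 : ψ ((MulAut.conjNormal g⁻¹ : MulAut P).toEquiv x : N) = ψ x := by
      rw [h1]
      have := isIrr_isClassFunction hψ x g⁻¹
      rwa [inv_inv] at this
    rw [h2, Cfsg.Agent.Characters.Brauer.extendByZero_mem C _ (S.le (hmem g x))]
    congr 3
    exact Subtype.ext h1.symm
  have h3 : ∑ x : P, ψ x * conj (ψ x) = (Nat.card C : ℂ)⁻¹ * (Nat.card N *
      ∑ x : P, ψ x * conj (θ ⟨x, S.le x.2⟩)) := by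
    have h4 : ∀ x : P, ψ x * conj (ψ x) = (Nat.card C : ℂ)⁻¹ *
        ∑ g : N, ψ x * conj (extendByZero C θ (g⁻¹ * x * g)) := by
      intro x
      rw [← Finset.mul_sum, ← mul_assoc, mul_comm _ (ψ x), mul_assoc]
      congr 1
      rw [← hind, Cfsg.Agent.Characters.Brauer.indFun_apply, map_mul, map_inv₀, map_natCast,
        map_sum]
    simp only [h4]
    rw [← Finset.mul_sum, Finset.sum_comm]
    congr 1
    simp only [key]
    rw [Finset.sum_const, Finset.card_univ, nsmul_eq_mul, Nat.card_eq_fintype_card]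
  rw [h3, classInner_def, ← C.card_mul_index]
  push_cast
  field_simp

theorem inner_P [Fintype N] [Fintype P] (S : Setup p k P C) {ψ : N → ℂ}
    (hψ : IsIrrCharacter N ψ) {θ : C → ℂ} {lam : P →* ℂˣ} (hθ : IsIrrCharacter C θ)
    (hlam : ∀ (x : P) (c : C), θ (⟨x, S.le x.2⟩ * c) = (lam x : ℂ) * θ c)
    (hind : indFun C θ = ψ) {t : ℕ} (ht : θ 1 = t) :
    ∃ m : ℕ, t ^ 2 ≤ m ∧ classInner (fun x : P => ψ x) (fun x : P => θ ⟨x, S.le x.2⟩) = m := by
  classical
  have : Fintype C := Fintype.ofFinite C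
  have : Finite (IrrCharacter C) := finite_irr
  have : Fintype (IrrCharacter C) := Fintype.ofFinite _
  have hψC := Cfsg.Agent.Characters.Brauer.isCharacter_restrict (isIrr_isCharacter hψ) C
  obtain ⟨m, hm⟩ := exists_nat_comb hψC
  have hres : ∀ {η : C → ℂ}, IsCharacter C η → IsCharacter P (fun x : P => η ⟨x, S.le x.2⟩) :=
    fun h => isCharacter_comp (Subgroup.inclusion S.le) h
  choose w hw using fun η : IrrCharacter C =>
    classInner_isNat (hres (isIrr_isCharacter η.2)) (hres (isIrr_isCharacter hθ))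
  refine ⟨∑ η, m η * w η, ?_, ?_⟩
  · have h1 : m ⟨θ, hθ⟩ = 1 := by
      have e1 : classInner (fun c : C => ψ c) θ = m ⟨θ, hθ⟩ := by
        rw [hm]
        exact classInner_sum_nsmul_irr m ⟨θ, hθ⟩
      have e2 : classInner (fun c : C => ψ c) θ = 1 := by
        rw [← classInner_conj_symm, ← Cfsg.Agent.Characters.Brauer.classInner_indFun C _ θ ψ
          (isIrr_isClassFunction hψ), hind, classInner_irr_self hψ, map_one]
      rw [e1] at e2
      exact_mod_cast e2
    have h2 : w ⟨θ, hθ⟩ = t ^ 2 := by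
      have e1 := hw ⟨θ, hθ⟩
      have e3 : ∀ x : P, θ ⟨x, S.le x.2⟩ = (lam x : ℂ) * t := by
        intro x
        rw [← ht, ← hlam x 1, mul_one]
      have e4 : ∀ x : P, ((lam x : ℂˣ) : ℂ) * conj ((lam x : ℂˣ) : ℂ) = 1 := by
        intro x
        rw [Complex.mul_conj, Complex.normSq_eq_norm_sq,
          Cfsg.Agent.Characters.Linear.norm_hom_apply lam x]
        norm_num
      have e5 : classInner (fun x : P => θ ⟨x, S.le x.2⟩) (fun x : P => θ ⟨x, S.le x.2⟩) =
          (t : ℂ) ^ 2 := by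
        rw [classInner_def]
        have e6 : ∀ x : P, θ ⟨x, S.le x.2⟩ * conj (θ ⟨x, S.le x.2⟩) = (t : ℂ) ^ 2 := by
          intro x
          rw [e3, map_mul, Complex.conj_natCast]
          linear_combination (t : ℂ) ^ 2 * e4 x
        simp only [e6]
        rw [Finset.sum_const, Finset.card_univ, nsmul_eq_mul, ← Nat.card_eq_fintype_card,
          ← mul_assoc, inv_mul_cancel₀ card_ne_zero_complex, one_mul]
      rw [e5] at e1
      exact_mod_cast e1.symm
    rw [← one_mul (t ^ 2), ← h2, ← h1]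
    exact Finset.single_le_sum (f := fun η => m η * w η) (fun _ _ => Nat.zero_le _)
      (Finset.mem_univ _)
  · have h3 : (fun x : P => ψ x) = ∑ η : IrrCharacter C, (m η : ℂ) • (fun x : P => (η : C → ℂ) ⟨x, S.le x.2⟩) := by
      funext x
      have := congrFun hm ⟨x, S.le x.2⟩
      rw [Finset.sum_apply] at this ⊢
      refine this.trans (Finset.sum_congr rfl fun η _ => ?_)
      rw [Pi.smul_apply, Pi.smul_apply, nsmul_eq_mul, smul_eq_mul]
    rw [h3, classInner_sum_left]
    push_cast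
    refine Finset.sum_congr rfl fun η _ => ?_
    rw [classInner_smul_left, hw]

open scoped Classical in
/-- The norm of the `P`-fixed part of `ψ ψ̄`. -/
theorem index_le_sum [Fintype N] [Fintype (IrrCharacter N)] (S : Setup p k P C) {ψ : N → ℂ}
    (hψ : IsIrrCharacter N ψ) {θ : C → ℂ} {lam : P →* ℂˣ} (hθ : IsIrrCharacter C θ)
    (hlam : ∀ (x : P) (c : C), θ (⟨x, S.le x.2⟩ * c) = (lam x : ℂ) * θ c)
    (hind : indFun C θ = ψ) {t : ℕ} (ht : θ 1 = t) (c : IrrCharacter N → ℕ)
    (hc : ∀ ζ : IrrCharacter N, classInner (fun n => ψ n * conj (ψ n)) (ζ : N → ℂ) = c ζ) :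
    C.index ≤ ∑ ζ ∈ Finset.univ.filter (fun ζ : IrrCharacter N => ∀ x ∈ P, ζ.1 x = ζ.1 1), c ζ ^ 2 ∧
      (t ≠ 1 → C.index + 1 ≤
        ∑ ζ ∈ Finset.univ.filter (fun ζ : IrrCharacter N => ∀ x ∈ P, ζ.1 x = ζ.1 1), c ζ ^ 2) := by
  have hCn := S.nC
  have hPn := S.nP
  have : Fintype C := Fintype.ofFinite C
  have : Fintype P := Fintype.ofFinite P
  have hPc : (Nat.card P : ℂ) ≠ 0 := by exact_mod_cast Nat.card_pos.ne'
  have hψcl := isIrr_isClassFunction hψ
  set A := ∑ ζ ∈ Finset.univ.filter (fun ζ : IrrCharacter N => ∀ x ∈ P, ζ.1 x = ζ.1 1), c ζ ^ 2 with hA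
  let q : N → ℂ := fun n => ψ n * conj (ψ n)
  have hqcl : IsClassFunction N q := fun g h => by
    show ψ _ * conj (ψ _) = _
    rw [hψcl g h]
  let Φ : N → ℂ := fun n => (Nat.card P : ℂ)⁻¹ * ∑ x : P, q (x * n)
  have hΦcl : IsClassFunction N Φ := by
    intro g h
    show (Nat.card P : ℂ)⁻¹ * ∑ x : P, q (x * (h * g * h⁻¹)) = _
    congr 1
    refine Fintype.sum_equiv (MulAut.conjNormal h⁻¹ : MulAut P).toEquiv _ _ fun x => ?_
    have h1 : ((MulAut.conjNormal h⁻¹ : MulAut P).toEquiv x : N) = h⁻¹ * x * h := by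
      show (((MulAut.conjNormal h⁻¹ : MulAut P) x : P) : N) = _
      rw [MulAut.conjNormal_apply, inv_inv]
    rw [h1, ← hqcl (h⁻¹ * x * h * g) h]
    congr 1
    group
  -- inner products of `Φ`
  have hΦ : ∀ ζ : IrrCharacter N, classInner Φ (ζ : N → ℂ) =
      if (∀ x ∈ P, (ζ : N → ℂ) x = (ζ : N → ℂ) 1) then (c ζ : ℂ) else 0 := by
    intro ζ
    have h1 : classInner Φ (ζ : N → ℂ) = (Nat.card P : ℂ)⁻¹ * ((Nat.card N : ℂ)⁻¹ *
        ∑ n : N, q n * conj (∑ x : P, (ζ : N → ℂ) (x * n))) := by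
      rw [classInner_def]
      have h2 : ∀ n : N, Φ n * conj ((ζ : N → ℂ) n) = (Nat.card P : ℂ)⁻¹ *
          ∑ x : P, q (x * n) * conj ((ζ : N → ℂ) n) := by
        intro n
        rw [← Finset.sum_mul, ← mul_assoc]
      simp only [h2]
      rw [← Finset.mul_sum, ← mul_assoc, mul_comm (Nat.card N : ℂ)⁻¹, mul_assoc]
      congr 2
      rw [Finset.sum_comm]
      have h3 : ∀ x : P, ∑ n : N, q (x * n) * conj ((ζ : N → ℂ) n) =
          ∑ n : N, q n * conj ((ζ : N → ℂ) (((x⁻¹ : P) : N) * n)) := by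
        intro x
        refine Fintype.sum_equiv (Equiv.mulLeft (x : N)) _ _ fun n => ?_
        rw [Equiv.coe_mulLeft]
        congr 3
        simp
      simp only [h3]
      rw [Finset.sum_comm]
      refine Finset.sum_congr rfl fun n _ => ?_
      rw [← Finset.mul_sum, map_sum]
      congr 1
      exact Fintype.sum_equiv (Equiv.inv P) _ _ fun x => rfl
    split_ifs with hk
    · rw [h1, ← hc ζ, classInner_def]
      have h4 : ∀ n : N, q n * conj (∑ x : P, (ζ : N → ℂ) (x * n)) =
          (Nat.card P : ℂ) * (ψ n * conj (ψ n) * conj ((ζ : N → ℂ) n)) := by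
        intro n
        have h5 : ∀ x : P, (ζ : N → ℂ) (x * n) = (ζ : N → ℂ) n := fun x =>
          apply_mul_of_ker (isIrr_isCharacter ζ.2) (hk x x.2) n
        simp only [h5]
        rw [Finset.sum_const, Finset.card_univ, nsmul_eq_mul, map_mul, Complex.conj_natCast,
          ← Nat.card_eq_fintype_card]
        ring
      simp only [h4]
      rw [← Finset.mul_sum]
      field_simp
    · rw [h1]
      have h6 : ∀ n : N, ∑ x : P, (ζ : N → ℂ) (x * n) = 0 := fun n =>
        sum_eq_zero ζ.2 P (by push Not at hk; exact hk) n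
      simp only [h6, map_zero, mul_zero, Finset.sum_const_zero]
  have hΦΦ : classInner Φ Φ = (A : ℂ) := by
    rw [classInner_eq_sum hΦcl hΦcl]
    simp only [hΦ]
    rw [hA]
    push_cast
    rw [Finset.sum_filter]
    refine Finset.sum_congr rfl fun ζ _ => ?_
    split_ifs
    · rw [Complex.conj_natCast, pow_two]
    · simp
  let r : N → ℂ := fun n => if n ∈ C then (C.index : ℂ) else 0
  have hψ0 : ∀ n, n ∉ C → q n = 0 := by
    intro n hn
    show ψ n * conj (ψ n) = 0
    rw [← hind, S.ind_of_notMem θ hn, zero_mul]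
  have hcardC : (Nat.card C : ℂ) * C.index = Nat.card N := by exact_mod_cast C.card_mul_index
  have hNne : (Nat.card N : ℂ) ≠ 0 := card_ne_zero_complex
  have hΦr : classInner Φ r = C.index := by
    rw [classInner_def]
    have h1 : ∀ n : N, Φ n * conj (r n) = (C.index : ℂ) * ((Nat.card P : ℂ)⁻¹ *
        ∑ x : P, q (x * n)) := by
      intro n
      show Φ n * conj (if n ∈ C then (C.index : ℂ) else 0) = _
      split_ifs with hn
      · rw [Complex.conj_natCast, mul_comm]
      · rw [map_zero, mul_zero, Finset.sum_eq_zero, mul_zero, mul_zero]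
        intro x _
        apply hψ0
        intro h
        apply hn
        have := C.mul_mem (C.inv_mem (S.le x.2)) h
        rwa [inv_mul_cancel_left] at this
    simp only [h1]
    rw [← Finset.mul_sum, ← Finset.mul_sum, Finset.sum_comm]
    have h2 : ∀ x : P, ∑ n : N, q (x * n) = Nat.card N := by
      intro x
      rw [Fintype.sum_equiv (Equiv.mulLeft (x : N)) (fun n => q (x * n)) q (fun n => rfl)]
      have := classInner_irr_self hψ
      rw [classInner_def, inv_mul_eq_iff_eq_mul₀ hNne, mul_one] at this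
      exact this
    simp only [h2]
    rw [Finset.sum_const, Finset.card_univ, nsmul_eq_mul, ← Nat.card_eq_fintype_card]
    field_simp
  have hrr : classInner r r = C.index := by
    rw [classInner_def]
    have h1 : ∀ n : N, r n * conj (r n) = if n ∈ C then (C.index : ℂ) ^ 2 else 0 := by
      intro n
      show (if n ∈ C then (C.index : ℂ) else 0) * conj (if n ∈ C then (C.index : ℂ) else 0) = _
      split_ifs
      · rw [Complex.conj_natCast, pow_two]
      · simp
    simp only [h1]
    rw [Finset.sum_ite, Finset.sum_const_zero, add_zero, Finset.sum_const, nsmul_eq_mul]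
    have h3 : (Finset.univ.filter fun n : N => n ∈ C).card = Nat.card C := by
      rw [Nat.card_eq_fintype_card, Fintype.card_subtype]
    rw [h3, ← hcardC]
    have h4 : (Nat.card C : ℂ) ≠ 0 := by exact_mod_cast Nat.card_pos.ne'
    have h5 : (C.index : ℂ) ≠ 0 := by exact_mod_cast C.index_ne_zero_of_finite
    field_simp
  have hrΦ : classInner r Φ = C.index := by
    rw [← classInner_conj_symm, hΦr, Complex.conj_natCast]
  have hdiff : classInner (Φ - r) (Φ - r) = ((A : ℝ) - (C.index : ℝ) : ℝ) := by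
    rw [classInner_sub_left, classInner_sub_right, classInner_sub_right, hΦΦ, hΦr, hrΦ, hrr]
    push_cast
    ring
  have hre := classInner_self_eq_ofReal (Φ - r)
  rw [hdiff] at hre
  have hre' : (A : ℝ) - C.index = (Nat.card N : ℝ)⁻¹ * ∑ g : N, Complex.normSq ((Φ - r) g) := by
    exact_mod_cast hre
  have hnn : (0 : ℝ) ≤ (A : ℝ) - C.index := by
    rw [hre']
    exact mul_nonneg (by positivity) (Finset.sum_nonneg fun _ _ => Complex.normSq_nonneg _)
  have hle : C.index ≤ A := by
    have : (C.index : ℝ) ≤ A := by linarith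
    exact_mod_cast this
  refine ⟨hle, fun ht1 => ?_⟩
  by_contra hlt
  have hAe : A = C.index := by omega
  apply ht1
  have h0 : classInner (Φ - r) (Φ - r) = 0 := by
    rw [hdiff, hAe]; simp
  have h1 : Φ 1 = C.index := by
    have h2 := congrFun (classInner_self_eq_zero h0) 1
    have h3 : r 1 = C.index := if_pos C.one_mem
    rw [Pi.sub_apply, h3, Pi.zero_apply, sub_eq_zero] at h2
    exact h2
  have h4 : Φ 1 = (Nat.card P : ℂ)⁻¹ * ∑ x : P, ψ x * conj (ψ x) := by
    show (Nat.card P : ℂ)⁻¹ * ∑ x : P, ψ (x * 1) * conj (ψ (x * 1)) = _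
    simp only [mul_one]
  rw [h4, S.sum_P_eq hψ hind] at h1
  obtain ⟨m, hm, hm'⟩ := S.inner_P hψ hθ hlam hind ht
  rw [hm'] at h1
  have h5 : (C.index : ℂ) ≠ 0 := by exact_mod_cast C.index_ne_zero_of_finite
  have h6 : (m : ℂ) = 1 := mul_left_cancel₀ h5 (h1.trans (mul_one _).symm)
  have h7 : m = 1 := by exact_mod_cast h6
  obtain ⟨t', ht'0, ht'⟩ := isIrr_apply_one hθ
  rw [ht] at ht'
  have h8 : t = t' := by exact_mod_cast ht'
  subst h8
  rw [h7] at hm
  nlinarith

end Setup

end Cfsg.Agent.H665.LeonN
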