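import Mathlib
import Cfsg.Agent.H665.LeonNB

/-!
# Small faithful characters and TI subgroups with semiregular automizer

`card_lt` : `H ≤ G`, `P` a normal `p`-subgroup of `H` as in `Setup`, `p`-singular elements of `H` move
no coset of `H` except `H` itself, `χ ∈ Irr(G)` with `χ|H` irreducible, of degree `d > 1`; no
nonprincipal irreducible character of `G` has `P` in its kernel.  Then `#P < (d + 1) ^ 2`.
-/

set_option autoImplicit false
set_option linter.style.haveILetI false
set_option linter.unusedSectionVars false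

namespace Cfsg.Agent.H665.LeonG

open Cfsg Cfsg.Agent.Characters.Core Cfsg.Agent.H665.LeonN
open scoped ComplexConjugate

universe u

variable {G : Type u} [Group G]

/-- The restriction of the induced function. -/
theorem ind_apply [Fintype G] (p : ℕ) (H : Subgroup G)
    (hTI : ∀ h : H, p ∣ orderOf h → ∀ g : G, g⁻¹ * h * g ∈ H → g ∈ H) {α : H → ℂ}
    (hα : IsClassFunction H α) (h0 : ∀ h : H, ¬ p ∣ orderOf h → α h = 0) (h : H) :
    indFun H α h = α h := by
  classical
  have hH : (Nat.card H : ℂ) ≠ 0 := by exact_mod_cast Nat.card_pos.ne'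
  rw [Cfsg.Agent.Characters.Brauer.indFun_apply]
  by_cases hp : p ∣ orderOf h
  · have h1 : ∀ g : G, extendByZero H α (g⁻¹ * h * g) = if g ∈ H then α h else 0 := by
      intro g
      split_ifs with hg
      · have h2 : g⁻¹ * h * g = (((⟨g, hg⟩ : H)⁻¹ * h * (⟨g, hg⟩ : H)⁻¹⁻¹ : H) : G) := by simp
        rw [h2, Cfsg.Agent.Characters.Brauer.extendByZero_coe]
        exact hα h _
      · rw [Cfsg.Agent.Characters.Brauer.extendByZero_notMem]
        exact fun h2 => hg (hTI h hp g h2)
    simp only [h1]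
    rw [Finset.sum_ite, Finset.sum_const_zero, add_zero, Finset.sum_const, nsmul_eq_mul]
    have h3 : (Finset.univ.filter fun n : G => n ∈ H).card = Nat.card H := by
      rw [Nat.card_eq_fintype_card, Fintype.card_subtype]
    rw [h3, ← mul_assoc, inv_mul_cancel₀ hH, one_mul]
  · rw [h0 h hp, Finset.sum_eq_zero, mul_zero]
    intro g _
    by_cases hg : g⁻¹ * (h : G) * g ∈ H
    · rw [Cfsg.Agent.Characters.Brauer.extendByZero_mem H _ hg]
      apply h0
      rwa [← Subgroup.orderOf_coe, Subgroup.coe_mk, show orderOf (g⁻¹ * (h : G) * g) = orderOf h by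
        have := (MulAut.conj g⁻¹).orderOf_eq (h : G)
        rw [MulAut.conj_apply, inv_inv] at this
        rw [this, Subgroup.orderOf_coe]]
    · rw [Cfsg.Agent.Characters.Brauer.extendByZero_notMem H _ hg]

/-- The characters of `G` with the same values on `p`-regular elements. -/
theorem exists_lift [Fintype G] (p : ℕ) (H : Subgroup G) [Fintype H] (hp1 : p ≠ 1)
    (hTI : ∀ h : H, p ∣ orderOf h → ∀ g : G, g⁻¹ * h * g ∈ H → g ∈ H) {χ : G → ℂ}
    (hχ : IsIrrCharacter G χ) (hres : IsIrrCharacter H (fun h : H => χ h)) {Ψ : H → ℂ}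
    (hΨ : IsIrrCharacter H Ψ) (hreg : ∀ h : H, ¬ p ∣ orderOf h → Ψ h = χ h) {F : G → ℂ}
    (hF : IsCharacter G F) :
    ∃ n : ℕ, classInner (fun h : H => F h) Ψ + classInner F χ =
      n + classInner (fun h : H => F h) (fun h : H => χ h) := by
  classical
  let α : H → ℂ := Ψ - fun h : H => χ h
  have hα : IsClassFunction H α := by
    intro g h
    show Ψ _ - χ _ = _
    rw [isIrr_isClassFunction hΨ g h]
    exact congrArg _ (isIrr_isClassFunction hres g h)
  have hα0 : ∀ h : H, ¬ p ∣ orderOf h → α h = 0 := fun h hh => by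
    show Ψ h - χ h = 0
    rw [hreg h hh, sub_self]
  let Φ : G → ℂ := indFun H α
  have hΦH : (fun h : H => Φ h) = α := funext fun h => ind_apply p H hTI hα hα0 h
  have hΦcl : IsClassFunction G Φ := Cfsg.Agent.Characters.Brauer.indFun_isClassFunction H α
  have hΦχ : classInner Φ χ = classInner Ψ (fun h : H => χ h) - 1 := by
    rw [Cfsg.Agent.Characters.Brauer.classInner_indFun H _ α χ (isIrr_isClassFunction hχ)]
    show classInner (Ψ - fun h : H => χ h) _ = _
    rw [classInner_sub_left, classInner_irr_self hres]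
  have hΦΦ : classInner Φ Φ = 2 - 2 * classInner Ψ (fun h : H => χ h) := by
    rw [Cfsg.Agent.Characters.Brauer.classInner_indFun H _ α Φ hΦcl, hΦH]
    show classInner (Ψ - fun h : H => χ h) (Ψ - fun h : H => χ h) = _
    rw [classInner_sub_left, classInner_sub_right, classInner_sub_right, classInner_irr_self hres,
      classInner_irr_self hΨ]
    have h1 : classInner (fun h : H => χ h) Ψ = classInner Ψ (fun h : H => χ h) := by
      rw [classInner_irr hres hΨ, classInner_irr hΨ hres]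
      simp only [eq_comm]
    rw [h1]; ring
  have hχΦ : classInner χ Φ = classInner Φ χ := by
    rw [← classInner_conj_symm, hΦχ, classInner_irr hΨ hres]
    split_ifs <;> simp
  have hone : classInner (χ + Φ) (χ + Φ) = 1 := by
    rw [classInner_add_left, classInner_add_right, classInner_add_right, hχΦ, hΦχ, hΦΦ,
      classInner_irr_self hχ]
    ring
  have hgen : IsGeneralizedCharacter G (χ + Φ) := by
    refine Cfsg.Agent.Characters.Brauer.isGeneralizedCharacter_add
      (Cfsg.Agent.Characters.Brauer.isGeneralizedCharacter_of_isCharacter (isIrr_isCharacter hχ)) ?_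
    exact Cfsg.Agent.Characters.Brauer.isGeneralizedCharacter_indFun H
      ⟨_, _, isIrr_isCharacter hΨ, isIrr_isCharacter hres, rfl⟩
  have hΦ1 : Φ 1 = 0 := by
    have h1 := congrFun hΦH 1
    have h2 : α 1 = 0 := hα0 1 (by rw [orderOf_one]; exact fun h => hp1 (Nat.dvd_one.mp h))
    rw [h2] at h1
    exact h1
  have hirr : IsIrrCharacter G (χ + Φ) := by
    rcases isIrr_of_generalized hgen hone with h | h
    · exact h
    · exfalso
      obtain ⟨n, hn, h1⟩ := isIrr_apply_one h
      obtain ⟨m, hm, h2⟩ := isIrr_apply_one hχ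
      rw [Pi.neg_apply, Pi.add_apply, hΦ1, add_zero, h2] at h1
      have h3 : ((n + m : ℕ) : ℂ) = 0 := by push_cast; rw [← h1]; ring
      have h4 : n + m = 0 := by exact_mod_cast h3
      omega
  obtain ⟨n, hn⟩ := classInner_isNat hF (isIrr_isCharacter hirr)
  refine ⟨n, ?_⟩
  rw [classInner_add_right] at hn
  have h1 : classInner F Φ = classInner (fun h : H => F h) Ψ -
      classInner (fun h : H => F h) (fun h : H => χ h) := by
    rw [← classInner_conj_symm,
      Cfsg.Agent.Characters.Brauer.classInner_indFun H _ α F (isCharacter_isClassFunction hF),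
      classInner_conj_symm]
    show classInner _ (Ψ - fun h : H => χ h) = _
    rw [classInner_sub_right]
  rw [h1] at hn
  rw [← hn]; ring

/-- The double count. -/
theorem count {I J : Type*} [Fintype I] [Fintype J] [DecidableEq I] (a : I → ℕ) (b : I → J → ℕ)
    (K : J → Prop) [DecidablePred K] (i₀ : I) (h0 : a i₀ = 1)
    (hb : ∀ i, i ≠ i₀ → ∃ j, ¬ K j ∧ b i j ≠ 0) :
    ∑ j ∈ Finset.univ.filter K, (∑ i, a i * b i j) ^ 2 + ∑ i, a i ^ 2 ≤
      ∑ j, (∑ i, a i * b i j) ^ 2 + 1 := by
  have h1 : ∑ j, (∑ i, a i * b i j) ^ 2 = ∑ j ∈ Finset.univ.filter K, (∑ i, a i * b i j) ^ 2 +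
      ∑ j ∈ Finset.univ.filter (fun j => ¬ K j), (∑ i, a i * b i j) ^ 2 :=
    (Finset.sum_filter_add_sum_filter_not _ _ _).symm
  have h2 : ∑ i, a i ^ 2 = 1 + ∑ i ∈ Finset.univ.erase i₀, a i ^ 2 := by
    rw [← Finset.add_sum_erase _ _ (Finset.mem_univ i₀), h0, one_pow]
  have h3 : ∑ i ∈ Finset.univ.erase i₀, a i ^ 2 ≤
      ∑ j ∈ Finset.univ.filter (fun j => ¬ K j), (∑ i, a i * b i j) ^ 2 := by
    calc ∑ i ∈ Finset.univ.erase i₀, a i ^ 2
        ≤ ∑ i ∈ Finset.univ.erase i₀, ∑ j ∈ Finset.univ.filter (fun j => ¬ K j),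
            (a i * b i j) ^ 2 := by
          refine Finset.sum_le_sum fun i hi => ?_
          obtain ⟨j, hj, hne⟩ := hb i (Finset.ne_of_mem_erase hi)
          calc a i ^ 2 ≤ (a i * b i j) ^ 2 :=
                Nat.pow_le_pow_left (Nat.le_mul_of_pos_right _ (Nat.pos_of_ne_zero hne)) 2
            _ ≤ _ := Finset.single_le_sum (f := fun j => (a i * b i j) ^ 2)
                (fun _ _ => Nat.zero_le _) (Finset.mem_filter.mpr ⟨Finset.mem_univ _, hj⟩)
      _ ≤ ∑ i, ∑ j ∈ Finset.univ.filter (fun j => ¬ K j), (a i * b i j) ^ 2 :=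
          Finset.sum_le_sum_of_subset (Finset.erase_subset _ _)
      _ = ∑ j ∈ Finset.univ.filter (fun j => ¬ K j), ∑ i, (a i * b i j) ^ 2 := Finset.sum_comm
      _ ≤ _ := by
          refine Finset.sum_le_sum fun j _ => ?_
          exact Finset.sum_sq_le_sq_sum_of_nonneg fun _ _ => Nat.zero_le _
  omega

/-- The final inequality. -/
theorem final_ineq {e t P A : ℕ} (ht : 1 ≤ t) (he : 1 ≤ e) (hd : 2 ≤ e * t) (hA : e ≤ A)
    (hA' : t ≠ 1 → e + 1 ≤ A) (h : ((P - 1) * (A - 1) + 2) * t ≤ (e * t) ^ 3) :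
    P < (e * t + 1) ^ 2 := by
  by_contra hP
  push Not at hP
  obtain ⟨Q, rfl⟩ : ∃ Q, P = Q + 1 := ⟨P - 1, by
    have : 0 < (e * t + 1) ^ 2 := by positivity
    omega⟩
  obtain ⟨B, rfl⟩ : ∃ B, A = B + 1 := ⟨A - 1, by omega⟩
  simp only [Nat.add_sub_cancel] at h
  have hQ : e ^ 2 * t ^ 2 + 2 * (e * t) ≤ Q := by nlinarith
  have h2 : (Q * B + 2) * t ≤ (e ^ 3 * t ^ 2) * t := by
    calc _ ≤ (e * t) ^ 3 := h
      _ = _ := by ring
  have h3 : Q * B + 2 ≤ e ^ 3 * t ^ 2 := Nat.le_of_mul_le_mul_right h2 (by omega)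
  by_cases ht1 : t = 1
  · subst ht1
    obtain ⟨f, rfl⟩ : ∃ f, e = f + 1 := ⟨e - 1, by omega⟩
    have hfB : f ≤ B := by omega
    have h4 : (((f + 1) ^ 2 + 2 * (f + 1)) * f + 2 : ℕ) ≤ (f + 1) ^ 3 := by
      calc ((f + 1) ^ 2 + 2 * (f + 1)) * f + 2 ≤ Q * B + 2 := by
            have : ((f + 1) ^ 2 + 2 * (f + 1)) ≤ Q := by nlinarith
            have := Nat.mul_le_mul this hfB
            omega
        _ ≤ (f + 1) ^ 3 * 1 ^ 2 := h3
        _ = _ := by ring
    nlinarith
  · have h5 : e ≤ B := by have := hA' ht1; omega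
    have h6 : (e ^ 2 * t ^ 2 + 2 * (e * t)) * e ≤ Q * B := Nat.mul_le_mul hQ h5
    nlinarith [Nat.zero_le (e * t * e)]

open scoped Classical in
/-- The main theorem. -/
theorem card_lt [Fintype G] {p k : ℕ} (hp1 : p ≠ 1) (H : Subgroup G) {P C : Subgroup H}
    (S : Setup p k P C)
    (hTI : ∀ h : H, p ∣ orderOf h → ∀ g : G, g⁻¹ * h * g ∈ H → g ∈ H) {χ : G → ℂ}
    (hχ : IsIrrCharacter G χ) (hres : IsIrrCharacter H (fun h : H => χ h)) {d : ℕ}
    (hd : χ 1 = d) (hd2 : 2 ≤ d) (hP : ∃ x ∈ P, χ x ≠ χ 1)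
    (hgen : ∀ η : G → ℂ, IsIrrCharacter G η → η ≠ 1 → ∃ x ∈ P, η x ≠ η 1) :
    Nat.card P < (d + 1) ^ 2 := by
  have : Fintype H := Fintype.ofFinite H
  have : Finite (IrrCharacter G) := finite_irr
  have : Fintype (IrrCharacter G) := Fintype.ofFinite _
  have : Finite (IrrCharacter H) := finite_irr
  have : Fintype (IrrCharacter H) := Fintype.ofFinite _
  have hfinhom : Finite (P →* ℂˣ) := by
    have : Finite (IrrCharacter P) := finite_irr
    exact Finite.of_injective
      (fun f : P →* ℂˣ => (⟨_, Cfsg.Agent.Characters.Linear.isIrrCharacter_hom f⟩ : IrrCharacter P))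
      (fun f g h => by
        ext x
        exact congrFun (congrArg Subtype.val h) x)
  have : Fintype (P →* ℂˣ) := Fintype.ofFinite _
  have hcardP : Fintype.card (P →* ℂˣ) = Nat.card P := by
    rw [← Nat.card_eq_fintype_card, Cfsg.Agent.Characters.Linear.card_hom_eq_index_commutator]
    have h1 : commutator P = ⊥ := by
      rw [commutator_def, Subgroup.commutator_eq_bot_iff_le_centralizer]
      intro x _
      rw [Subgroup.mem_centralizer_iff]
      intro y _
      exact Subtype.ext (S.cent y y.2 x (S.le x.2))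
    rw [h1, Subgroup.index_bot]
  let ψ : H → ℂ := fun h => χ h
  obtain ⟨θ, lam, hθ, hlam1, hlam, hind⟩ := S.exists_theta hres (by
    obtain ⟨x, hx, hne⟩ := hP
    exact ⟨x, hx, hne⟩)
  obtain ⟨t, ht0, ht⟩ := isIrr_apply_one hθ
  have hdet : d = C.index * t := by
    have h1 := S.ind_one θ
    rw [hind, ht] at h1
    have h2 : (d : ℂ) = (C.index : ℂ) * t := by
      rw [← hd, ← h1]; rfl
    exact_mod_cast h2
  -- `χ χ̄`
  let q : G → ℂ := fun g => χ g * conj (χ g)
  have hq : IsCharacter G q :=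
    isCharacter_mul (isIrr_isCharacter hχ) (isCharacter_conj (isIrr_isCharacter hχ))
  obtain ⟨a, ha⟩ := exists_nat_comb hq
  choose b hb using fun (η : IrrCharacter G) (ζ : IrrCharacter H) =>
    classInner_isNat (Cfsg.Agent.Characters.Brauer.isCharacter_restrict (isIrr_isCharacter η.2) H)
      (isIrr_isCharacter ζ.2)
  have haη : ∀ η : IrrCharacter G, classInner q η.1 = a η := fun η => by
    rw [ha]; exact classInner_sum_nsmul_irr a η
  have hqH : (fun h : H => ψ h * conj (ψ h)) =
      ∑ η : IrrCharacter G, (a η : ℂ) • (fun h : H => η.1 h) := by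
    funext h
    have h1 := congrFun ha (h : G)
    rw [Finset.sum_apply] at h1 ⊢
    refine h1.trans (Finset.sum_congr rfl fun η _ => ?_)
    rw [Pi.smul_apply, Pi.smul_apply, nsmul_eq_mul, smul_eq_mul]
  have hc : ∀ ζ : IrrCharacter H, classInner (fun h : H => ψ h * conj (ψ h)) ζ.1 =
      ((∑ η, a η * b η ζ : ℕ) : ℂ) := by
    intro ζ
    rw [hqH, classInner_sum_left]
    push_cast
    refine Finset.sum_congr rfl fun η _ => ?_
    rw [classInner_smul_left, hb]
  obtain ⟨hA1, hA2⟩ := S.index_le_sum hres hθ hlam hind ht (fun ζ => ∑ η, a η * b η ζ) hc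
  set A := ∑ ζ ∈ Finset.univ.filter (fun ζ : IrrCharacter H => ∀ x ∈ P, ζ.1 x = ζ.1 1),
    (∑ η, a η * b η ζ) ^ 2 with hA
  -- the norms
  let F : G → ℂ := fun g => q g * χ g
  have hF : IsCharacter G F := isCharacter_mul hq (isIrr_isCharacter hχ)
  have hFχ : classInner F χ = ((∑ η, a η ^ 2 : ℕ) : ℂ) := by
    have h1 : classInner F χ = classInner q q := by
      rw [classInner_def, classInner_def]
      congr 1
      refine Finset.sum_congr rfl fun g _ => ?_
      show χ g * conj (χ g) * χ g * conj (χ g) = χ g * conj (χ g) * conj (χ g * conj (χ g))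
      rw [map_mul, Complex.conj_conj]; ring
    rw [h1, classInner_eq_sum (isCharacter_isClassFunction hq) (isCharacter_isClassFunction hq)]
    push_cast
    refine Finset.sum_congr rfl fun η _ => ?_
    rw [haη, Complex.conj_natCast, pow_two]
  have hqHcl : IsClassFunction H (fun h : H => ψ h * conj (ψ h)) := fun g h =>
    isCharacter_isClassFunction hq g h
  have hFψ : classInner (fun h : H => F h) ψ = ((∑ ζ, (∑ η, a η * b η ζ) ^ 2 : ℕ) : ℂ) := by
    have h1 : classInner (fun h : H => F h) ψ =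
        classInner (fun h : H => ψ h * conj (ψ h)) (fun h : H => ψ h * conj (ψ h)) := by
      rw [classInner_def, classInner_def]
      congr 1
      refine Finset.sum_congr rfl fun g _ => ?_
      show ψ g * conj (ψ g) * ψ g * conj (ψ g) = ψ g * conj (ψ g) * conj (ψ g * conj (ψ g))
      rw [map_mul, Complex.conj_conj]; ring
    rw [h1, classInner_eq_sum hqHcl hqHcl]
    push_cast
    refine Finset.sum_congr rfl fun ζ _ => ?_
    rw [hc]
    push_cast
    simp only [map_sum, map_mul, Complex.conj_natCast]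
    rw [pow_two]
  -- the count
  let η₁ : IrrCharacter G := ⟨1, isIrr_one⟩
  have ha1 : a η₁ = 1 := by
    have h1 := haη η₁
    have h2 : classInner q (1 : G → ℂ) = 1 := by
      rw [← classInner_irr_self hχ, classInner_def, classInner_def]
      congr 1
      refine Finset.sum_congr rfl fun g _ => ?_
      rw [Pi.one_apply, map_one, mul_one]
    rw [h2] at h1
    exact_mod_cast h1.symm
  have hcount := count a b (fun ζ : IrrCharacter H => ∀ x ∈ P, ζ.1 x = ζ.1 1) η₁ ha1 (by
    intro η hη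
    obtain ⟨x, hx, hne⟩ := hgen η.1 η.2 (fun h => hη (Subtype.ext h))
    by_contra hcon
    push Not at hcon
    apply hne
    have hηH := Cfsg.Agent.Characters.Brauer.isCharacter_restrict (isIrr_isCharacter η.2) H
    obtain ⟨m, hm⟩ := exists_nat_comb hηH
    have hmb : ∀ ζ, b η ζ = m ζ := by
      intro ζ
      have h1 := hb η ζ
      rw [hm, classInner_sum_nsmul_irr] at h1
      exact_mod_cast h1.symm
    have h1 : ∀ ζ : IrrCharacter H, (m ζ • (ζ : H → ℂ)) x = (m ζ • (ζ : H → ℂ)) 1 := by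
      intro ζ
      by_cases hk : ∀ x ∈ P, ζ.1 x = ζ.1 1
      · rw [Pi.smul_apply, Pi.smul_apply, hk x hx]
      · have h2 : m ζ = 0 := by
          rw [← hmb]
          exact hcon ζ (by push Not at hk; exact hk)
        rw [h2, zero_smul]; rfl
    have h2 := congrFun hm x
    have h3 := congrFun hm 1
    rw [Finset.sum_apply] at h2 h3
    rw [Finset.sum_congr rfl fun ζ _ => h1 ζ, ← h3] at h2
    exact h2)
  rw [← hA] at hcount
  -- the multiplicities
  have hF1 : F 1 = ((d ^ 3 : ℕ) : ℂ) := by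
    show χ 1 * conj (χ 1) * χ 1 = _
    rw [hd, Complex.conj_natCast]
    push_cast; ring
  obtain ⟨M, hM, hMsum⟩ := S.sum_le hθ hlam
    (Cfsg.Agent.Characters.Brauer.isCharacter_restrict hF H) (D := d ^ 3) hF1 ht
  have hMμ : ∀ μ : P →* ℂˣ, μ ≠ 1 → A ≤ M μ + 1 := by
    intro μ hμ
    obtain ⟨n, hn⟩ := exists_lift p H hp1 hTI hχ hres
      (S.isIrr_ind hμ (S.isIrr_tw lam μ hθ) (S.tw_mul μ hlam))
      (fun h hh => by rw [S.ind_tw_of_regular lam μ θ hh, hind]) hF
    rw [hM μ, hFχ] at hn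
    have h1 : classInner (fun h : H => F h) (fun h : H => χ h) =
      ((∑ ζ, (∑ η, a η * b η ζ) ^ 2 : ℕ) : ℂ) := hFψ
    rw [h1] at hn
    have h2 : M μ + ∑ η, a η ^ 2 = n + ∑ ζ, (∑ η, a η * b η ζ) ^ 2 := by exact_mod_cast hn
    omega
  have hMlam : A + 1 ≤ M lam := by
    have h1 : (M lam : ℂ) = ((∑ ζ, (∑ η, a η * b η ζ) ^ 2 : ℕ) : ℂ) := by
      rw [← hM lam, ← hFψ, S.tw_self, hind]
    have h2 : M lam = ∑ ζ, (∑ η, a η * b η ζ) ^ 2 := by exact_mod_cast h1
    have h3 : 2 ≤ ∑ η, a η ^ 2 := by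
      by_contra hlt
      have h4 : ∑ η, a η ^ 2 = 1 + ∑ η ∈ Finset.univ.erase η₁, a η ^ 2 := by
        rw [← Finset.add_sum_erase _ _ (Finset.mem_univ η₁), ha1, one_pow]
      have h5 : ∑ η ∈ Finset.univ.erase η₁, a η ^ 2 = 0 := by omega
      rw [Finset.sum_eq_zero_iff] at h5
      have h6 : q = 1 := by
        rw [ha, ← Finset.add_sum_erase _ _ (Finset.mem_univ η₁), ha1, one_smul,
          Finset.sum_eq_zero, add_zero]
        intro η hη
        have := h5 η hη
        rw [pow_eq_zero_iff (by norm_num)] at this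
        rw [this, zero_smul]
      have h7 := congrFun h6 1
      have h8 : ((d * d : ℕ) : ℂ) = 1 := by
        push_cast
        rw [← hd]
        have : χ 1 * conj (χ 1) = 1 := h7
        rw [hd, Complex.conj_natCast] at this
        rw [hd]; exact this
      have h9 : d * d = 1 := by exact_mod_cast h8
      nlinarith
    omega
  have hsum : (Nat.card P - 1) * (A - 1) + 2 ≤ ∑ μ, M μ := by
    rw [← hcardP]
    have h1 : ∑ μ ∈ (Finset.univ.erase (1 : P →* ℂˣ)), M μ ≤ ∑ μ, M μ :=
      Finset.sum_le_sum_of_subset (Finset.erase_subset _ _)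
    refine le_trans ?_ h1
    have hmem : lam ∈ Finset.univ.erase (1 : P →* ℂˣ) :=
      Finset.mem_erase.mpr ⟨hlam1, Finset.mem_univ _⟩
    rw [← Finset.add_sum_erase _ _ hmem]
    have h2 : (((Finset.univ.erase (1 : P →* ℂˣ)).erase lam).card) * (A - 1) ≤
        ∑ μ ∈ (Finset.univ.erase (1 : P →* ℂˣ)).erase lam, M μ := by
      rw [← smul_eq_mul]
      refine Finset.card_nsmul_le_sum _ _ _ fun μ hμ => ?_
      have := hMμ μ (Finset.ne_of_mem_erase (Finset.mem_of_mem_erase hμ))
      omega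
    rw [Finset.card_erase_of_mem hmem, Finset.card_erase_of_mem (Finset.mem_univ _),
      Finset.card_univ] at h2
    have h3 : 1 ≤ Fintype.card (P →* ℂˣ) - 1 := by
      rw [← Finset.card_univ, ← Finset.card_erase_of_mem (Finset.mem_univ (1 : P →* ℂˣ))]
      exact Finset.card_pos.mpr ⟨lam, hmem⟩
    obtain ⟨s, hs⟩ : ∃ s, Fintype.card (P →* ℂˣ) - 1 = s + 1 := ⟨_, (Nat.sub_add_cancel h3).symm⟩
    rw [hs] at h2 ⊢
    simp only [Nat.add_sub_cancel] at h2
    have h4 : (s + 1) * (A - 1) = s * (A - 1) + (A - 1) := by ring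
    rw [h4]
    have hA0 : 1 ≤ A := le_trans (Nat.pos_of_ne_zero C.index_ne_zero_of_finite) hA1
    omega
  rw [hdet]
  refine final_ineq ht0 (Nat.pos_of_ne_zero C.index_ne_zero_of_finite) (by rw [← hdet]; exact hd2)
    hA1 hA2 ?_
  rw [← hdet]
  exact (Nat.mul_le_mul_right t hsum).trans hMsum

end Cfsg.Agent.H665.LeonG
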