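import Mathlib
import Cfsg.Agent.S4750
import Cfsg.Agent.H665.LeonG

/-!
# Restriction of small characters to the normalizer of a TI Sylow subgroup
-/

set_option autoImplicit false
set_option linter.style.haveILetI false
set_option linter.unusedSectionVars false
open scoped Pointwise

namespace Cfsg.Agent.H665.LeonA

open Cfsg Cfsg.Agent.Characters.Core Module

universe u

variable {G : Type u} [Group G]

/-- `P` is a TI set. -/
def TI {p : ℕ} (P : Sylow p G) : Prop :=
  ∀ g : G, g ∉ Subgroup.normalizer ((P : Subgroup G) : Set G) →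
    (P : Subgroup G) ⊓ (MulAut.conj g • (P : Subgroup G)) = ⊥

/-- Inner products of small characters are the same over `G` and over `H ≥ N_G(P)`. -/
theorem inner_eq [Fintype G] {p : ℕ} [Fact p.Prime] (P : Sylow p G) (hTI : TI P) (H : Subgroup G)
    [Fintype H] (hH : Subgroup.normalizer ((P : Subgroup G) : Set G) ≤ H) {α β : G → ℂ}
    (hα : IsCharacter G α) (hβ : IsCharacter G β) {a b : ℕ} (ha : α 1 = a) (hb : β 1 = b)
    (hab : a * b < Nat.card (P : Subgroup G)) :
    classInner (fun h : H => α h) (fun h : H => β h) = classInner α β := by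
  obtain ⟨n, ρ, rfl⟩ := hα
  obtain ⟨m, σ, rfl⟩ := hβ
  have hPH : (P : Subgroup G) ≤ H := le_trans Subgroup.le_normalizer hH
  have hn : n = a := by
    rw [Representation.char_one] at ha
    simpa using ha
  have hm : m = b := by
    rw [Representation.char_one] at hb
    simpa using hb
  subst hn hm
  have hfree := Cfsg.Agent.H666.free_of_ti p P hTI H hH
  let ρ' : Representation ℂ H (Fin n → ℂ) := ρ.comp H.subtype
  let σ' : Representation ℂ H (Fin m → ℂ) := σ.comp H.subtype
  have hρ' : (fun h : ↥H => ρ.character h) = ρ'.character := rfl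
  have hσ' : (fun h : ↥H => σ.character h) = σ'.character := rfl
  rw [hρ', hσ', classInner_character, classInner_character]
  congr 1
  have h1 := LinearEquiv.finrank_eq (Representation.invariantsEquivIntertwiningMap σ ρ)
  have h2 := LinearEquiv.finrank_eq (Representation.invariantsEquivIntertwiningMap σ' ρ')
  rw [← h1, ← h2]
  have hdim : finrank ℂ ((Fin m → ℂ) →ₗ[ℂ] (Fin n → ℂ)) < Nat.card (P : Subgroup G) +
      finrank ℂ (Representation.invariants (Representation.linHom σ ρ)) := by
    rw [Module.finrank_linearMap]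
    simp only [Module.finrank_fin_fun]
    rw [mul_comm m n]
    omega
  have h3 : (Representation.linHom σ ρ).invariants = (Representation.linHom σ' ρ').invariants := by
    ext f
    constructor
    · intro h g
      exact h g.1
    · intro h g
      exact Cfsg.Agent.H666.fixed_of_fixed p P H P.isPGroup' hPH hfree (Representation.linHom σ ρ)
        hdim f (fun h' hh' => h ⟨h', hh'⟩) g
  rw [h3]

/-- An irreducible character of small degree stays irreducible on `H ≥ N_G(P)`. -/
theorem isIrr_restrict [Fintype G] {p : ℕ} [Fact p.Prime] (P : Sylow p G) (hTI : TI P)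
    (H : Subgroup G) (hH : Subgroup.normalizer ((P : Subgroup G) : Set G) ≤ H) {χ : G → ℂ}
    (hχ : IsIrrCharacter G χ) {d : ℕ} (hd : χ 1 = d) (hP : d * d < Nat.card (P : Subgroup G)) :
    IsIrrCharacter H (fun h : H => χ h) := by
  classical
  have : Fintype H := Fintype.ofFinite H
  refine isIrr_of_classInner_self
    (Cfsg.Agent.Characters.Brauer.isCharacter_restrict (isIrr_isCharacter hχ) H) ?_
  rw [inner_eq P hTI H hH (isIrr_isCharacter hχ) (isIrr_isCharacter hχ) hd hd hP,
    classInner_irr_self hχ]

/-- An element centralizing `H ≥ N_G(P)` acts as a scalar in a faithful representation. -/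
theorem mem_center [Finite G] {p : ℕ} [Fact p.Prime] (P : Sylow p G) (hTI : TI P)
    (H : Subgroup G) (hH : Subgroup.normalizer ((P : Subgroup G) : Set G) ≤ H) {χ : G → ℂ}
    (hχ : IsCharacter G χ) (hfaith : ∀ g, χ g = χ 1 → g = 1) {d : ℕ} (hd : χ 1 = d)
    (hP : d ^ 2 ≤ Nat.card (P : Subgroup G)) {z : G} (hz : ∀ h ∈ H, z * h = h * z) :
    z ∈ Subgroup.center G := by
  obtain ⟨n, ρ, rfl⟩ := hχ
  have hn : n = d := by
    rw [Representation.char_one] at hd
    simpa using hd
  subst hn
  have hPH : (P : Subgroup G) ≤ H := le_trans Subgroup.le_normalizer hH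
  have hfree := Cfsg.Agent.H666.free_of_ti p P hTI H hH
  rw [Subgroup.mem_center_iff]
  intro g
  have h1 := Cfsg.Agent.H666.comm_of_comm p P H P.isPGroup' hPH hfree ρ (by simpa using hP) (ρ z)
    (fun h hh => by
      rw [← Module.End.mul_eq_comp, ← Module.End.mul_eq_comp, ← map_mul, ← map_mul, hz h hh]) g
  rw [← Module.End.mul_eq_comp, ← Module.End.mul_eq_comp, ← map_mul, ← map_mul] at h1
  have h2 : ρ ((g * z) * (z * g)⁻¹) = 1 := by
    rw [map_mul ρ (g * z), ← h1, ← map_mul, mul_inv_cancel, map_one]
  have h3 := hfaith ((g * z) * (z * g)⁻¹) (by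
    unfold Representation.character
    rw [h2, map_one ρ])
  exact mul_inv_eq_one.mp h3

end Cfsg.Agent.H665.LeonA
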