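import Mathlib
import Cfsg.Agent.H665.LeonA
import Cfsg.Agent.S4748
import Cfsg.Agent.S4620

/-!
# Minimal counterexamples to Leonard's conjecture: first reductions
-/

set_option autoImplicit false
set_option linter.style.haveILetI false
set_option linter.unusedSectionVars false
open scoped Pointwise

namespace Cfsg.Agent.H665.LeonB

open Cfsg Cfsg.Agent.Characters.Core Module Cfsg.Agent.H665.LeonA Subgroup

universe u

/-- A counterexample. -/
structure Bad {G : Type u} [Group G] {p : ℕ} (P : Sylow p G) (χ : G → ℂ) (d : ℕ) : Prop where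
  ti : TI P
  char : IsCharacter G χ
  faith : ∀ g, χ g = χ 1 → g = 1
  deg : χ 1 = d
  le : (d + 1) ^ 2 ≤ Nat.card (P : Subgroup G)
  nn : ¬ (P : Subgroup G).Normal

/-- No smaller counterexamples. -/
def Min (p : ℕ) (n : ℕ) : Prop :=
  ∀ (H : Type u) [Group H] [Finite H], Nat.card H < n → ∀ (Q : Sylow p H) (χ : H → ℂ) (d : ℕ),
    ¬ Bad Q χ d

variable {G : Type u} [Group G] {p : ℕ}

theorem ti_subgroupOf {P : Sylow p G} (hTI : TI P) (H : Subgroup G) (T : Sylow p H)
    (hT : (T : Subgroup H) = (P : Subgroup G).subgroupOf H) : TI T := by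
  intro h hh
  have h1 : (h : G) ∉ normalizer ((P : Subgroup G) : Set G) := by
    intro h2
    apply hh
    rw [mem_normalizer_iff] at h2 ⊢
    intro x
    rw [hT, mem_subgroupOf, mem_subgroupOf]
    exact h2 x
  have h3 := hTI h h1
  rw [eq_bot_iff]
  rintro x ⟨hx1, hx2⟩
  obtain ⟨y, hy, hyx⟩ := hx2
  rw [mem_bot]
  apply Subtype.ext
  have h4 : (x : G) ∈ (P : Subgroup G) ⊓ (MulAut.conj (h : G) • (P : Subgroup G)) := by
    refine ⟨?_, ?_⟩
    · have : x ∈ (T : Subgroup H) := hx1
      rw [hT, mem_subgroupOf] at this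
      exact this
    · refine ⟨(y : G), ?_, ?_⟩
      · have : y ∈ (T : Subgroup H) := hy
        rw [hT, mem_subgroupOf] at this
        exact this
      · exact congrArg Subtype.val hyx
  rw [h3, mem_bot] at h4
  exact h4

variable [Finite G] [Fact p.Prime] {P : Sylow p G} {χ : G → ℂ} {d : ℕ}

namespace Bad

theorem mem_normalizer (hB : Bad P χ d) {x g : G} (hx : x ∈ (P : Subgroup G)) (hx1 : x ≠ 1)
    (hg : g⁻¹ * x * g ∈ normalizer ((P : Subgroup G) : Set G)) :
    g ∈ normalizer ((P : Subgroup G) : Set G) :=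
  Cfsg.Agent.H666.free_of_ti p P hB.ti _ le_rfl x hx hx1 g hg

theorem normalizer_ne_top (hB : Bad P χ d) : normalizer ((P : Subgroup G) : Set G) ≠ ⊤ := fun h =>
  hB.nn (normalizer_eq_top_iff.mp h)

theorem ne_bot (hB : Bad P χ d) : (P : Subgroup G) ≠ ⊥ := by
  intro h
  apply hB.nn
  rw [h]; infer_instance

/-- `p`-elements of the normalizer are in `P`. -/
theorem mem_of_pgroup (P : Sylow p G) {x : G} (hx : ∃ k, orderOf x = p ^ k)
    (hN : x ∈ normalizer ((P : Subgroup G) : Set G)) : x ∈ (P : Subgroup G) := by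
  obtain ⟨k, hk⟩ := hx
  have h1 : IsPGroup p (zpowers x) := by
    rw [IsPGroup.iff_card]
    exact ⟨k, by rw [Nat.card_zpowers, hk]⟩
  have h2 := h1.inf_normalizer_sylow P
  exact (h2.le ⟨mem_zpowers x, hN⟩).2

theorem orderOf_mem (P : Sylow p G) {x : G} (hx : x ∈ (P : Subgroup G)) :
    ∃ k, orderOf x = p ^ k := by
  obtain ⟨k, hk⟩ := (IsPGroup.iff_orderOf.mp P.isPGroup') ⟨x, hx⟩
  exact ⟨k, by rw [← hk, Subgroup.orderOf_mk]⟩

variable (hB : Bad P χ d) (hM : Min.{u} p (Nat.card G))
include hB hM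

theorem le_normalizer_of_lt {H : Subgroup G} (hPH : (P : Subgroup G) ≤ H) (hH : H ≠ ⊤) :
    H ≤ normalizer ((P : Subgroup G) : Set G) := by
  have hlt : Nat.card H < Nat.card G := by
    refine lt_of_le_of_ne (Subgroup.card_le_card_group H) fun h => hH ?_
    exact Subgroup.eq_top_of_card_eq H h
  have h1 := hM H hlt (P.subtype hPH) (fun h => χ h) d
  have h2 : ((P.subtype hPH : Sylow p H) : Subgroup H).Normal := by
    by_contra hcon
    apply h1
    refine ⟨ti_subgroupOf hB.ti H _ rfl,
      Cfsg.Agent.Characters.Brauer.isCharacter_restrict hB.char H, ?_, hB.deg, ?_, hcon⟩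
    · intro h hh
      exact Subtype.ext (hB.faith h hh)
    · rw [Sylow.coe_subtype, Nat.card_congr (subgroupOfEquivOfLe hPH).toEquiv]
      exact hB.le
  rw [Sylow.coe_subtype] at h2
  exact (normal_subgroupOf_iff_le_normalizer hPH).mp h2

theorem normalClosure_eq : normalClosure ((P : Subgroup G) : Set G) = ⊤ := by
  by_contra h
  have h1 := hB.le_normalizer_of_lt hM (H := normalClosure ((P : Subgroup G) : Set G))
    le_normalClosure h
  apply hB.normalizer_ne_top
  rw [eq_top_iff]
  intro g _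
  obtain ⟨x, hx, hx1⟩ := (P : Subgroup G).bot_or_exists_ne_one.resolve_left hB.ne_bot
  refine hB.mem_normalizer hx hx1 (h1 ?_)
  have h2 := (normalClosure_normal (s := ((P : Subgroup G) : Set G))).conj_mem x
    (subset_normalClosure hx) g⁻¹
  rwa [inv_inv] at h2

/-- Normal subgroups. -/
theorem normal_cases {K : Subgroup G} (hK : K.Normal) (hKP : K ⊔ (P : Subgroup G) ≠ ⊤) :
    K ≤ center G ∧ (Nat.card K).Coprime p := by
  have h1 := hB.le_normalizer_of_lt hM (H := K ⊔ (P : Subgroup G)) le_sup_right hKP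
  have hKN : K ≤ normalizer ((P : Subgroup G) : Set G) := le_sup_left.trans h1
  have hKi : ∀ x ∈ K, x ∈ (P : Subgroup G) → x = 1 := by
    intro x hx hxP
    by_contra hx1
    apply hB.normalizer_ne_top
    rw [eq_top_iff]
    intro g _
    refine hB.mem_normalizer hxP hx1 (hKN ?_)
    have h2 := hK.conj_mem x hx g⁻¹
    rwa [inv_inv] at h2
  have hcomm : ∀ k ∈ K, ∀ x ∈ (P : Subgroup G), k * x = x * k := by
    intro k hk x hx
    have e1 : k * x * k⁻¹ * x⁻¹ ∈ (P : Subgroup G) :=
      (P : Subgroup G).mul_mem ((mem_normalizer_iff.mp (hKN hk) x).mp hx)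
        ((P : Subgroup G).inv_mem hx)
    have e2 : k * x * k⁻¹ * x⁻¹ ∈ K := by
      have : k * x * k⁻¹ * x⁻¹ = k * (x * k⁻¹ * x⁻¹) := by group
      rw [this]
      exact K.mul_mem hk (hK.conj_mem _ (K.inv_mem hk) x)
    have e3 : k * x * k⁻¹ = x := mul_inv_eq_one.mp (hKi _ e2 e1)
    exact mul_inv_eq_iff_eq_mul.mp e3
  constructor
  · intro k hk
    have h3 : normalClosure ((P : Subgroup G) : Set G) ≤ centralizer (K : Set G) := by
      have : (centralizer (K : Set G)).Normal := inferInstance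
      refine normalClosure_le_normal ?_
      intro x hx
      rw [SetLike.mem_coe, mem_centralizer_iff]
      intro k hk
      exact hcomm k hk x hx
    rw [hB.normalClosure_eq hM] at h3
    rw [mem_center_iff]
    intro g
    exact ((mem_centralizer_iff.mp (h3 (mem_top g))) k hk).symm
  · rw [Nat.coprime_comm, (Fact.out : p.Prime).coprime_iff_not_dvd]
    intro hd
    obtain ⟨x, hx⟩ := exists_prime_orderOf_dvd_card' (G := K) p hd
    have h4 : (x : G) ∈ (P : Subgroup G) := by
      refine mem_of_pgroup P ⟨1, ?_⟩ (hKN x.2)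
      rw [Subgroup.orderOf_coe, hx, pow_one]
    have h5 := hKi x x.2 h4
    have h6 : orderOf x = 1 := by
      rw [orderOf_eq_one_iff]
      exact Subtype.ext h5
    rw [h6] at hx
    exact (Fact.out : p.Prime).one_lt.ne hx

end Bad

end Cfsg.Agent.H665.LeonB
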