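import Mathlib
import Cfsg.Agent.H665.LeonB

/-!
# Central `p'`-quotients of TI situations; reduction to irreducible characters
-/

set_option autoImplicit false
set_option linter.style.haveILetI false
set_option linter.unusedSectionVars false
open scoped Pointwise

namespace Cfsg.Agent.H665.LeonQ

open Cfsg Cfsg.Agent.Characters.Core Module Cfsg.Agent.H665.LeonA Subgroup
open Cfsg.Agent.H665.LeonB

universe u

variable {G : Type u} [Group G] [Finite G] {p : ℕ} [Fact p.Prime]

/-- Two `p`-elements which differ by a central `p'`-element are equal. -/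
theorem eq_of_inv_mul_mem {K : Subgroup G} (hKc : K ≤ center G) (hKp : (Nat.card K).Coprime p)
    {x y : G} (hx : ∃ k, orderOf x = p ^ k) (hy : ∃ k, orderOf y = p ^ k) (h : x⁻¹ * y ∈ K) :
    x = y := by
  obtain ⟨a, ha⟩ := hx
  obtain ⟨b, hb⟩ := hy
  have hc := mem_center_iff.mp (hKc h)
  have h1 : y = x * (x⁻¹ * y) := by group
  have hcomm : Commute x (x⁻¹ * y) := hc x
  have h2 : y ^ p ^ (a + b) = x ^ p ^ (a + b) * (x⁻¹ * y) ^ p ^ (a + b) := by
    conv_lhs => rw [h1]
    exact hcomm.mul_pow _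
  have h3 : x ^ p ^ (a + b) = 1 := by
    rw [← orderOf_dvd_iff_pow_eq_one, ha]
    exact pow_dvd_pow p (Nat.le_add_right a b)
  have h4 : y ^ p ^ (a + b) = 1 := by
    rw [← orderOf_dvd_iff_pow_eq_one, hb]
    exact pow_dvd_pow p (Nat.le_add_left b a)
  rw [h3, h4, one_mul] at h2
  have h5 : orderOf (x⁻¹ * y) ∣ p ^ (a + b) := orderOf_dvd_of_pow_eq_one h2.symm
  have h6 : orderOf (x⁻¹ * y) ∣ Nat.card K := by
    rw [← Subgroup.orderOf_mk _ h]; exact orderOf_dvd_natCard _
  have h7 : orderOf (x⁻¹ * y) ∣ 1 := by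
    have := Nat.dvd_gcd h6 h5
    rwa [(Nat.Coprime.pow_right (a + b) hKp)] at this
  exact inv_mul_eq_one.mp (orderOf_eq_one_iff.mp (Nat.dvd_one.mp h7))

theorem orderOf_conj (x g : G) : orderOf (g * x * g⁻¹) = orderOf x := by
  have := (MulAut.conj g).orderOf_eq x
  rwa [MulAut.conj_apply] at this

variable (P : Sylow p G) (K : Subgroup G) [hK : K.Normal]

/-- The image of `P` in `G ⧸ K`. -/
noncomputable abbrev quo : Sylow p (G ⧸ K) :=
  P.mapSurjective (f := QuotientGroup.mk' K) (QuotientGroup.mk'_surjective K)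

variable {P K}
variable (hKc : K ≤ center G) (hKp : (Nat.card K).Coprime p)

include hKc hKp

theorem ti_quo (hTI : TI P) : TI (quo P K) := by
  intro g
  induction g using QuotientGroup.induction_on with
  | H g =>
  intro hg
  have hgN : g ∉ normalizer ((P : Subgroup G) : Set G) := by
    intro h
    apply hg
    rw [mem_normalizer_iff]
    intro y
    induction y using QuotientGroup.induction_on with
    | H y =>
    have key : ∀ u v : G, v ∈ normalizer ((P : Subgroup G) : Set G) →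
        (QuotientGroup.mk' K u) ∈ (P : Subgroup G).map (QuotientGroup.mk' K) →
        (QuotientGroup.mk' K (v * u * v⁻¹)) ∈ (P : Subgroup G).map (QuotientGroup.mk' K) := by
      rintro u v hv ⟨w, hw, hwu⟩
      refine ⟨v * w * v⁻¹, (mem_normalizer_iff.mp hv w).mp hw, ?_⟩
      rw [map_mul, map_mul, hwu, ← map_mul, ← map_mul]
    constructor
    · intro h1
      exact key y g h h1
    · intro h1
      have h2 := key (g * y * g⁻¹) g⁻¹ (inv_mem h) h1
      have h3 : g⁻¹ * (g * y * g⁻¹) * g⁻¹⁻¹ = y := by group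
      rw [h3] at h2
      exact h2
  have h1 := hTI g hgN
  rw [eq_bot_iff]
  rintro z ⟨hz1, hz2⟩
  obtain ⟨x, hx, rfl⟩ := hz1
  obtain ⟨w, hw, hwz⟩ := hz2
  obtain ⟨y, hy, rfl⟩ := hw
  have h2 : (QuotientGroup.mk' K) (g * y * g⁻¹) = QuotientGroup.mk' K x := hwz
  have h3 : x⁻¹ * (g * y * g⁻¹) ∈ K := by
    rw [← QuotientGroup.eq]
    exact h2.symm
  have h4 : x = g * y * g⁻¹ := by
    refine eq_of_inv_mul_mem hKc hKp (Bad.orderOf_mem P hx) ?_ h3
    rw [orderOf_conj]
    exact Bad.orderOf_mem P hy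
  have h5 : x ∈ (P : Subgroup G) ⊓ (MulAut.conj g • (P : Subgroup G)) := by
    refine ⟨hx, y, hy, ?_⟩
    rw [h4]; rfl
  rw [h1, mem_bot] at h5
  rw [mem_bot, h5, map_one]

theorem normal_of_quo (h : ((quo P K : Sylow p (G ⧸ K)) : Subgroup (G ⧸ K)).Normal) :
    (P : Subgroup G).Normal := by
  refine ⟨fun x hx g => ?_⟩
  have h1 := h.conj_mem (QuotientGroup.mk' K x) ⟨x, hx, rfl⟩ (QuotientGroup.mk' K g)
  obtain ⟨y, hy, hyz⟩ := h1
  have h2 : (QuotientGroup.mk' K) y = QuotientGroup.mk' K (g * x * g⁻¹) := by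
    rw [hyz, map_mul, map_mul, map_inv]
  have h3 : y⁻¹ * (g * x * g⁻¹) ∈ K := by
    rw [← QuotientGroup.eq]
    exact h2
  have h4 : y = g * x * g⁻¹ := by
    refine eq_of_inv_mul_mem hKc hKp (Bad.orderOf_mem P hy) ?_ h3
    rw [orderOf_conj]
    exact Bad.orderOf_mem P hx
  rw [← h4]
  exact hy

theorem card_quo : Nat.card ((quo P K : Sylow p (G ⧸ K)) : Subgroup (G ⧸ K)) =
    Nat.card (P : Subgroup G) := by
  have h : Function.Injective ((QuotientGroup.mk' K).domRestrict (P : Subgroup G)) := by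
    intro x y hxy
    have h1 : (QuotientGroup.mk' K) (x : G) = QuotientGroup.mk' K y := hxy
    exact Subtype.ext (eq_of_inv_mul_mem hKc hKp (Bad.orderOf_mem P x.2) (Bad.orderOf_mem P y.2)
      (QuotientGroup.eq.mp h1))
  show Nat.card ((P : Subgroup G).map (QuotientGroup.mk' K)) = _
  have e : (P : Subgroup G).map (QuotientGroup.mk' K) =
      ((QuotientGroup.mk' K).domRestrict (P : Subgroup G)).range := by
    ext z
    constructor
    · rintro ⟨x, hx, rfl⟩
      exact ⟨⟨x, hx⟩, rfl⟩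
    · rintro ⟨x, rfl⟩
      exact ⟨x, x.2, rfl⟩
  rw [e]
  exact (Nat.card_congr (MonoidHom.ofInjective h).toEquiv).symm

omit hKc hKp

/-- The kernel of an irreducible constituent. -/
theorem bad_quo {χ : G → ℂ} {d : ℕ} (hB : Bad P χ d) {η : G → ℂ} (hη : IsIrrCharacter G η) {e : ℕ}
    (he : η 1 = e) (hed : e ≤ d) (hker : ∀ g, η g = η 1 ↔ g ∈ K) (hKc : K ≤ center G)
    (hKp : (Nat.card K).Coprime p) :
    ∃ η' : G ⧸ K → ℂ, Bad (quo P K) η' e := by
  obtain ⟨n, ρ, hρ, rfl⟩ := hη
  have hK' : K ≤ MonoidHom.ker ρ := by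
    intro x hx
    have h1 := (hker x).mpr hx
    rw [Representation.char_one] at h1
    exact (Characters.Values.character_eq_finrank_iff ρ x).1 h1
  let σ : Representation ℂ (G ⧸ K) (Fin n → ℂ) := QuotientGroup.lift K ρ hK'
  have hσ : ∀ g : G, σ.character (g : G ⧸ K) = ρ.character g := fun g => rfl
  refine ⟨σ.character, ti_quo hKc hKp hB.ti, ⟨n, σ, rfl⟩, ?_, ?_, ?_, ?_⟩
  · intro g
    induction g using QuotientGroup.induction_on with
    | H g =>
    intro hg
    rw [hσ, show (1 : G ⧸ K) = ((1 : G) : G ⧸ K) from rfl, hσ] at hg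
    exact (QuotientGroup.eq_one_iff g).mpr ((hker g).mp hg)
  · rw [show (1 : G ⧸ K) = ((1 : G) : G ⧸ K) from rfl, hσ, he]
  · rw [card_quo hKc hKp]
    exact le_trans (Nat.pow_le_pow_left (by omega) 2) hB.le
  · intro h
    exact hB.nn (normal_of_quo hKc hKp h)

/-- Reduction to irreducible characters. -/
theorem exists_irr {χ : G → ℂ} {d : ℕ} (hB : Bad P χ d) (hM : Min.{u} p (Nat.card G)) :
    ∃ (η : G → ℂ) (e : ℕ), IsIrrCharacter G η ∧ Bad P η e := by
  classical
  have : Finite (IrrCharacter G) := finite_irr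
  have : Fintype (IrrCharacter G) := Fintype.ofFinite _
  obtain ⟨m, hm⟩ := exists_nat_comb hB.char
  -- an element of prime order `q ≠ p`
  obtain ⟨q, hq, hqp, hqG⟩ : ∃ q : ℕ, q.Prime ∧ q ≠ p ∧ q ∣ Nat.card G := by
    by_contra hcon
    push Not at hcon
    apply hB.nn
    have h1 : IsPGroup p G := by
      rw [IsPGroup.iff_card]
      refine ⟨_, Nat.eq_prime_pow_of_unique_prime_dvd Nat.card_pos.ne' ?_⟩
      intro q hq hqG
      by_contra hne
      exact hcon q hq hne hqG
    have h2 : (P : Subgroup G) = ⊤ := by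
      have h3 : IsPGroup p (⊤ : Subgroup G) := h1.to_subgroup ⊤
      exact (P.3 h3 le_top).symm
    rw [h2]; infer_instance
  haveI : Fact q.Prime := ⟨hq⟩
  obtain ⟨g, hg⟩ := exists_prime_orderOf_dvd_card' (G := G) q hqG
  have hg1 : g ≠ 1 := by
    rintro rfl
    rw [orderOf_one] at hg
    exact hq.one_lt.ne hg
  obtain ⟨η, hη0, hηg⟩ : ∃ η : IrrCharacter G, m η ≠ 0 ∧ η.1 g ≠ η.1 1 := by
    by_contra hcon
    push Not at hcon
    apply hg1
    apply hB.faith
    have h1 := congrFun hm g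
    have h2 := congrFun hm 1
    rw [Finset.sum_apply] at h1 h2
    rw [h1, h2]
    refine Finset.sum_congr rfl fun η _ => ?_
    rw [Pi.smul_apply, Pi.smul_apply]
    by_cases h0 : m η = 0
    · rw [h0, zero_smul, zero_smul]
    · rw [hcon η h0]
  obtain ⟨e, he0, he⟩ := isIrr_apply_one η.2
  have hed : e ≤ d := by
    choose f hf0 hf using fun ζ : IrrCharacter G => isIrr_apply_one ζ.2
    have h1 : d = ∑ ζ : IrrCharacter G, m ζ * f ζ := by
      have h2 := congrFun hm 1
      rw [hB.deg, Finset.sum_apply] at h2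
      have h4 : (d : ℂ) = ((∑ ζ : IrrCharacter G, m ζ * f ζ : ℕ) : ℂ) := by
        rw [h2]
        push_cast
        refine Finset.sum_congr rfl fun ζ _ => ?_
        rw [Pi.smul_apply, hf, nsmul_eq_mul]
      exact_mod_cast h4
    have h5 : f η = e := by
      have h6 := hf η
      rw [he] at h6
      exact_mod_cast h6.symm
    rw [h1]
    calc e ≤ m η * f η := by rw [h5]; exact Nat.le_mul_of_pos_left _ (Nat.pos_of_ne_zero hη0)
      _ ≤ _ := Finset.single_le_sum (f := fun ζ => m ζ * f ζ) (fun _ _ => Nat.zero_le _)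
        (Finset.mem_univ _)
  obtain ⟨n, ρ, hρ, hρη⟩ := id η.2
  let K : Subgroup G := MonoidHom.ker ρ
  have hker : ∀ x, η.1 x = η.1 1 ↔ x ∈ K := by
    intro x
    rw [← hρη, Representation.char_one]
    exact Characters.Values.character_eq_finrank_iff ρ x
  have hKn : K.Normal := inferInstance
  have hKP : K ⊔ (P : Subgroup G) ≠ ⊤ := by
    intro htop
    apply hηg
    rw [hker]
    have h1 : IsPGroup p (G ⧸ K) := by
      intro y
      induction y using QuotientGroup.induction_on with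
      | H y =>
      have hy : y ∈ K ⊔ (P : Subgroup G) := by rw [htop]; exact mem_top y
      obtain ⟨k, hk, x, hx, rfl⟩ := mem_sup_of_normal_left.mp hy
      obtain ⟨j, hj⟩ := Bad.orderOf_mem P hx
      refine ⟨j, ?_⟩
      have h2 : ((k * x : G) : G ⧸ K) = (x : G ⧸ K) := by
        rw [QuotientGroup.mk_mul, (QuotientGroup.eq_one_iff k).mpr hk, one_mul]
      rw [h2, ← QuotientGroup.mk_pow, ← hj, pow_orderOf_eq_one]
      rfl
    obtain ⟨j, hj⟩ := h1 (g : G ⧸ K)
    rw [← QuotientGroup.mk_pow, QuotientGroup.eq_one_iff] at hj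
    have h3 : (orderOf g).Coprime (p ^ j) := by
      rw [hg]
      exact Nat.Coprime.pow_right _ ((Nat.coprime_primes hq Fact.out).mpr hqp)
    have h4 : g ∈ zpowers (g ^ p ^ j) := by
      rw [Nat.coprime_comm] at h3
      obtain ⟨l, hl⟩ := exists_pow_eq_self_of_coprime h3
      exact ⟨l, by show (g ^ p ^ j) ^ ((l : ℕ) : ℤ) = g; rw [zpow_natCast]; exact hl⟩
    exact (zpowers_le.mpr hj) h4
  obtain ⟨hKc, hKp⟩ := hB.normal_cases hM hKn hKP
  by_cases hKb : K = ⊥
  · refine ⟨η.1, e, η.2, hB.ti, isIrr_isCharacter η.2, ?_, he, ?_, hB.nn⟩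
    · intro x hx
      have := (hker x).mp hx
      rwa [hKb, mem_bot] at this
    · exact le_trans (Nat.pow_le_pow_left (by omega) 2) hB.le
  · exfalso
    obtain ⟨η', hη'⟩ := bad_quo (K := K) hB η.2 he hed hker hKc hKp
    refine hM (G ⧸ K) ?_ (quo P K) η' e hη'
    have h1 := Subgroup.card_eq_card_quotient_mul_card_subgroup K
    have h2 : 1 < Nat.card K := by
      rw [Subgroup.one_lt_card_iff_ne_bot]
      exact hKb
    have h3 : 0 < Nat.card (G ⧸ K) := Nat.card_pos
    rw [h1]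
    nlinarith

end Cfsg.Agent.H665.LeonQ
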