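import Mathlib
import Cfsg.Agent.H665.LeonQ
import Cfsg.Agent.Lib.PSolvable
import Cfsg.Agent.PLocal.PSolvable

/-!
# The structure of a minimal counterexample to Leonard's conjecture
-/

set_option autoImplicit false
set_option linter.style.haveILetI false
set_option linter.unusedSectionVars false
open scoped Pointwise commutatorElement

namespace Cfsg.Agent.H665.LeonS

open Cfsg Cfsg.Agent.Characters.Core Module Cfsg.Agent.H665.LeonA Subgroup
open Cfsg.Agent.H665.LeonB Cfsg.Agent.H665.LeonQ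

universe u

variable {G : Type u} [Group G] [Finite G] {p : ℕ} [Fact p.Prime]

theorem isPGroup_quotient (P : Sylow p G) {K : Subgroup G} [K.Normal]
    (h : K ⊔ (P : Subgroup G) = ⊤) : IsPGroup p (G ⧸ K) := by
  intro y
  induction y using QuotientGroup.induction_on with
  | H y =>
  have hy : y ∈ K ⊔ (P : Subgroup G) := by rw [h]; exact mem_top y
  obtain ⟨k, hk, x, hx, rfl⟩ := mem_sup_of_normal_left.mp hy
  obtain ⟨j, hj⟩ := Bad.orderOf_mem P hx
  refine ⟨j, ?_⟩
  have h2 : ((k * x : G) : G ⧸ K) = (x : G ⧸ K) := by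
    rw [QuotientGroup.mk_mul, (QuotientGroup.eq_one_iff k).mpr hk, one_mul]
  rw [h2, ← QuotientGroup.mk_pow, ← hj, pow_orderOf_eq_one]
  rfl

variable {P : Sylow p G} {χ : G → ℂ} {d : ℕ}

theorem not_pSolvable (hB : Bad P χ d) : ¬ IsPSolvable p G := by
  intro h
  apply hB.nn
  refine Cfsg.Agent.S4748.result p h P hB.ti χ hB.char hB.faith ?_
  have h1 : charDegree χ = d := by
    unfold charDegree
    rw [hB.deg]
    simp
  rw [h1]
  exact le_trans (Nat.pow_le_pow_left (by omega) 2) hB.le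

theorem center_coprime (hB : Bad P χ d) (hM : Min.{u} p (Nat.card G)) :
    (Nat.card (center G)).Coprime p := by
  refine (hB.normal_cases hM (K := center G) inferInstance ?_).2
  intro h
  apply hB.nn
  refine ⟨fun y hy g => ?_⟩
  obtain ⟨z, hz, x, hx, rfl⟩ := mem_sup_of_normal_left.mp
    (show g ∈ center G ⊔ (P : Subgroup G) by rw [h]; exact mem_top g)
  have hz' := mem_center_iff.mp hz
  have e1 : z * x * y * (z * x)⁻¹ = z * (x * y * x⁻¹) * z⁻¹ := by group
  have e2 : z * (x * y * x⁻¹) * z⁻¹ = x * y * x⁻¹ := by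
    rw [← hz' (x * y * x⁻¹)]; group
  rw [e1, e2]
  exact (P : Subgroup G).mul_mem ((P : Subgroup G).mul_mem hx hy) ((P : Subgroup G).inv_mem hx)

/-- The structure of a minimal counterexample. -/
structure Str (P : Sylow p G) (K : Subgroup G) (S : Subgroup (G ⧸ center G)) : Prop where
  nK : K.Normal
  top : K ⊔ (P : Subgroup G) = ⊤
  perf : ⁅K, K⁆ = K
  cent : centralizer (K : Set G) = center G
  nS : S.Normal
  simple : IsSimpleGroup S
  ncomm : ¬ IsMulCommutative S
  centS : centralizer (S : Set (G ⧸ center G)) = ⊥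
  map : K.map (QuotientGroup.mk' (center G)) = S
  syl : ∀ Q : Sylow p S, (Q : Subgroup S) ≠ ⊥ ∧ TI Q
  cop : (Nat.card (center G)).Coprime p

theorem exists_str (hB : Bad P χ d) (hM : Min.{u} p (Nat.card G)) :
    ∃ (K : Subgroup G) (S : Subgroup (G ⧸ center G)), Str P K S := by
  classical
  have hcop := center_coprime hB hM
  have hnp := not_pSolvable hB
  let π := QuotientGroup.mk' (center G)
  have hπ : Function.Surjective π := QuotientGroup.mk'_surjective _
  -- nontrivial normal subgroups of the quotient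
  have key : ∀ L : Subgroup (G ⧸ center G), L.Normal → L ≠ ⊥ →
      L ⊔ ((quo P (center G) : Sylow p _) : Subgroup (G ⧸ center G)) = ⊤ := by
    intro L hL hL1
    have h1 : (L.comap π) ⊔ (P : Subgroup G) = ⊤ := by
      by_contra h
      have h2 := (hB.normal_cases hM (K := L.comap π) inferInstance h).1
      apply hL1
      rw [eq_bot_iff]
      intro y hy
      obtain ⟨x, rfl⟩ := hπ y
      rw [mem_bot]
      exact (QuotientGroup.eq_one_iff x).mpr (h2 hy)
    have h3 := congrArg (Subgroup.map π) h1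
    rw [Subgroup.map_sup, map_comap_eq_self_of_surjective hπ,
      Subgroup.map_top_of_surjective _ hπ] at h3
    exact h3
  have hno : ∀ L : Subgroup (G ⧸ center G), L.Normal →
      ((∃ m : ℕ, Nat.card L = p ^ m) ∨ (Nat.card L).Coprime p) → L = ⊥ := by
    intro L hL hLp
    by_contra hL1
    have h1 := isPGroup_quotient (quo P (center G)) (key L hL hL1)
    have h2 : IsPSolvable p (G ⧸ center G) := Cfsg.Agent.Lib.PSolvable.IsPSolvable_of_quotient p L hLp
      (Cfsg.Agent.PLocal.PSolvable.isPSolvable_of_isPGroup h1)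
    exact hnp (Cfsg.Agent.Lib.PSolvable.IsPSolvable_of_quotient p (center G) (Or.inr hcop) h2)
  have hO : pCore p (G ⧸ center G) = ⊥ := by
    refine hno _ (Cfsg.Agent.Lib.Cores.pCore_normal p) (Or.inl ?_)
    exact IsPGroup.iff_card.mp (Cfsg.Agent.Lib.Cores.pCore_isPGroup p)
  have hO' : pPrimeCore p (G ⧸ center G) = ⊥ :=
    hno _ (Cfsg.Agent.Lib.Cores.pPrimeCore_normal p)
      (Or.inr (Cfsg.Agent.Lib.Cores.pPrimeCore_coprime p))
  have hQ1 : ((quo P (center G) : Sylow p _) : Subgroup (G ⧸ center G)) ≠ ⊥ := by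
    intro h
    have h1 := card_quo (P := P) (K := center G) le_rfl hcop
    rw [h, Subgroup.card_bot] at h1
    exact hB.ne_bot ((Subgroup.card_eq_one).mp h1.symm)
  obtain ⟨S, hSn, hS1, hSmin, hSs, hSnc, hSc, hSQ⟩ := Cfsg.Agent.S4620.result p hO hO'
    (quo P (center G)) hQ1 (ti_quo le_rfl hcop hB.ti)
  let L : Subgroup G := S.comap π
  have hLmap : L.map π = S := map_comap_eq_self_of_surjective hπ S
  have hLn : L.Normal := inferInstance
  let K : Subgroup G := ⁅L, L⁆
  have hKn : K.Normal := inferInstance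
  have hSS : ⁅S, S⁆ = S := by
    have h1 : ⁅S, S⁆ ≤ S := Subgroup.commutator_le_right S S
    have h2 : (⁅S, S⁆ : Subgroup (G ⧸ center G)).Normal := inferInstance
    refine le_antisymm h1 (hSmin _ h2 ?_)
    intro h3
    apply hSnc
    refine ⟨⟨fun a b => ?_⟩⟩
    have h4 := Subgroup.commutator_eq_bot_iff_le_centralizer.mp h3
    exact Subtype.ext ((mem_centralizer_iff.mp (h4 b.2)) a a.2)
  have hKmap : K.map π = S := by
    show (⁅L, L⁆ : Subgroup G).map π = S
    rw [Subgroup.map_commutator, hLmap, hSS]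
  have hLKZ : L ≤ K ⊔ center G := by
    intro x hx
    have h1 : π x ∈ K.map π := by rw [hKmap]; exact hx
    obtain ⟨k, hk, hkx⟩ := h1
    have h2 : k⁻¹ * x ∈ center G := QuotientGroup.eq.mp hkx
    have h3 : x = k * (k⁻¹ * x) := by group
    rw [h3]
    exact mul_mem_sup hk h2
  have hKperf : ⁅K, K⁆ = K := by
    refine le_antisymm (Subgroup.commutator_le_right K K) ?_
    show (⁅L, L⁆ : Subgroup G) ≤ ⁅K, K⁆
    rw [Subgroup.commutator_le]
    intro a ha b hb
    obtain ⟨k, hk, z, hz, rfl⟩ := mem_sup_of_normal_left.mp (hLKZ ha)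
    obtain ⟨l, hl, w, hw, rfl⟩ := mem_sup_of_normal_left.mp (hLKZ hb)
    have hz' := mem_center_iff.mp hz
    have hw' := mem_center_iff.mp hw
    have h1 : ⁅k * z, l * w⁆ = ⁅k, l⁆ := by
      rw [commutatorElement_def, commutatorElement_def, mul_inv_rev, mul_inv_rev]
      have e1 : k * z * (l * w) * (z⁻¹ * k⁻¹) * (w⁻¹ * l⁻¹) =
        k * (z * (l * w) * z⁻¹) * k⁻¹ * w⁻¹ * l⁻¹ := by group
      have e2 : z * (l * w) * z⁻¹ = l * w := by
        rw [← hz' (l * w)]; group
      have e3 : k * (l * w) * k⁻¹ * w⁻¹ * l⁻¹ = k * l * (w * k⁻¹ * w⁻¹) * l⁻¹ := by group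
      have e4 : w * k⁻¹ * w⁻¹ = k⁻¹ := by
        rw [← hw' k⁻¹]; group
      rw [e1, e2, e3, e4]
    rw [h1]
    exact Subgroup.commutator_mem_commutator hk hl
  have hKtop : K ⊔ (P : Subgroup G) = ⊤ := by
    by_contra h
    have h1 := (hB.normal_cases hM hKn h).1
    apply hS1
    rw [← hKmap, eq_bot_iff]
    rintro _ ⟨x, hx, rfl⟩
    rw [mem_bot]
    exact (QuotientGroup.eq_one_iff x).mpr (h1 hx)
  have hKc : centralizer (K : Set G) = center G := by
    refine le_antisymm ?_ (Subgroup.center_le_centralizer _)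
    intro c hc
    have h1 : π c ∈ centralizer (S : Set (G ⧸ center G)) := by
      rw [mem_centralizer_iff]
      intro s hs
      have hs' : s ∈ K.map π := by rw [hKmap]; exact hs
      obtain ⟨k, hk, rfl⟩ := hs'
      rw [← map_mul, ← map_mul, mem_centralizer_iff.mp hc k hk]
    rw [hSc, mem_bot] at h1
    exact (QuotientGroup.eq_one_iff c).mp h1
  exact ⟨K, S, hKn, hKtop, hKperf, hKc, hSn, hSs, hSnc, hSc, hKmap, hSQ, hcop⟩

end Cfsg.Agent.H665.LeonS
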