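import Mathlib
import Cfsg.Agent.H665.LeonS

/-!
# Minimal counterexamples to Leonard's conjecture: linear characters of `G / K`
-/

set_option autoImplicit false
set_option linter.style.haveILetI false
set_option linter.unusedSectionVars false
open scoped Pointwise commutatorElement

namespace Cfsg.Agent.H665.LeonT

open Cfsg Cfsg.Agent.Characters.Core Module Cfsg.Agent.H665.LeonA Subgroup
open Cfsg.Agent.H665.LeonB Cfsg.Agent.H665.LeonQ Cfsg.Agent.H665.LeonS
open scoped ComplexConjugate

universe u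

variable {G : Type u} [Group G] [Finite G] {p : ℕ} [Fact p.Prime]

/-- If `χ` vanishes off a normal subgroup of prime index `p`, its restriction has a constituent of
degree `χ(1) / p`, and each constituent has this degree and multiplicity one. -/
theorem exists_constituent_index {χ : G → ℂ} {d : ℕ} (hχ : IsIrrCharacter G χ) (hd : χ 1 = d)
    (N : Subgroup G) [N.Normal] (hidx : N.index = p) (hvan : ∀ g, g ∉ N → χ g = 0) :
    ∃ (θ : N → ℂ) (e : ℕ), IsIrrCharacter N θ ∧ θ 1 = e ∧ d = p * e ∧
      (∀ x : N, (∀ g : G, θ (MulAut.conjNormal g x) = θ 1) → χ x = χ 1) := by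
  classical
  have := Fintype.ofFinite G
  have : Fintype N := Fintype.ofFinite N
  have : Finite (IrrCharacter N) := finite_irr
  have : Fintype (IrrCharacter N) := Fintype.ofFinite _
  have hχN := Cfsg.Agent.Characters.Brauer.isCharacter_restrict (isIrr_isCharacter hχ) N
  obtain ⟨m, hm⟩ := exists_nat_comb hχN
  have hG : (Nat.card G : ℂ) ≠ 0 := card_ne_zero_complex
  have hN0 : (Nat.card N : ℂ) ≠ 0 := card_ne_zero_complex
  have hnorm : classInner (fun x : N => χ x) (fun x : N => χ x) = p := by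
    have h1 := classInner_irr_self hχ
    rw [classInner_def, inv_mul_eq_iff_eq_mul₀ hG, mul_one] at h1
    have h2 : ∑ x : N, χ x * conj (χ x) = ∑ g : G, χ g * conj (χ g) := by
      rw [← Finset.sum_filter_add_sum_filter_not Finset.univ (fun g => g ∈ N)
        (fun g => χ g * conj (χ g))]
      rw [Finset.sum_eq_zero (s := Finset.univ.filter (fun g => ¬ g ∈ N)), add_zero]
      · exact (Finset.sum_subtype (Finset.univ.filter (fun g => g ∈ N)) (by simp)
          (fun g => χ g * conj (χ g))).symm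
      · intro g hg
        rw [hvan g (by simpa using hg), zero_mul]
    rw [classInner_def, h2, h1, ← N.card_mul_index, hidx]
    push_cast
    field_simp
  have hmη : ∀ η : IrrCharacter N, classInner (fun x : N => χ x) η.1 = m η := fun η => by
    rw [hm]; exact classInner_sum_nsmul_irr m η
  obtain ⟨θ, hθ, hθ0⟩ := Cfsg.Agent.H665.LeonN.exists_constituent hχN
    (isIrr_apply_one_ne_zero hχ)
  obtain ⟨e, he0, he⟩ := isIrr_apply_one hθ
  -- all constituents are conjugate
  have hconj : ∀ η : IrrCharacter N, m η ≠ 0 → ∃ g : G, η.1 = θ ∘ (MulAut.conjNormal g : MulAut N) := by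
    intro η hη
    refine Cfsg.Agent.Characters.Clifford.exists_conj_of_constituents N hχ hθ η.2 hθ0 ?_
    rw [hmη]
    exact_mod_cast hη
  let Θ : IrrCharacter N := ⟨θ, hθ⟩
  have hmm : ∀ η : IrrCharacter N, m η ≠ 0 → m η = m Θ := by
    intro η hη
    obtain ⟨g, hg⟩ := hconj η hη
    have h1 := hmη η
    rw [hg, Cfsg.Agent.Characters.Clifford.classInner_restrict_conjNormal
      (isIrr_isClassFunction hχ), hmη Θ] at h1
    exact_mod_cast h1.symm
  have hdeg : ∀ η : IrrCharacter N, m η ≠ 0 → η.1 1 = e := by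
    intro η hη
    obtain ⟨g, hg⟩ := hconj η hη
    rw [hg, Function.comp, map_one, he]
  set I := Finset.univ.filter (fun η : IrrCharacter N => m η ≠ 0) with hI
  have hsq : I.card * m Θ ^ 2 = p := by
    have hcl := isCharacter_isClassFunction hχN
    rw [classInner_eq_sum hcl hcl] at hnorm
    have h1 : ∑ η : IrrCharacter N, m η ^ 2 = p := by
      have h2 : ((∑ η : IrrCharacter N, m η ^ 2 : ℕ) : ℂ) = p := by
        rw [← hnorm]
        push_cast
        refine Finset.sum_congr rfl fun η _ => ?_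
        rw [hmη, Complex.conj_natCast, pow_two]
      exact_mod_cast h2
    rw [← h1, ← Finset.sum_filter_add_sum_filter_not Finset.univ
      (fun η : IrrCharacter N => m η ≠ 0), ← hI]
    rw [Finset.sum_congr rfl (g := fun _ => m Θ ^ 2)
      (fun η hη => by rw [hmm η (Finset.mem_filter.mp hη).2]),
      Finset.sum_const, smul_eq_mul, Finset.sum_eq_zero, add_zero]
    intro η hη
    have h3 : m η = 0 := by
      have := (Finset.mem_filter.mp hη).2
      push Not at this
      exact this
    rw [h3]; norm_num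
  have hp : p.Prime := Fact.out
  have hm1 : m Θ = 1 := by
    have h1 : m Θ ∣ p := ⟨I.card * m Θ, by rw [← hsq]; ring⟩
    rcases (Nat.dvd_prime hp).mp h1 with h2 | h2
    · exact h2
    · exfalso
      rw [h2] at hsq
      have h3 : I.card * p = 1 := by
        have : I.card * p * p = 1 * p := by rw [one_mul, mul_assoc, ← pow_two]; exact hsq
        exact Nat.eq_of_mul_eq_mul_right hp.pos this
      have h4 := Nat.eq_one_of_mul_eq_one_left h3
      exact hp.one_lt.ne' h4
  have hIp : I.card = p := by rw [hm1, one_pow, mul_one] at hsq; exact hsq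
  have hval : ∀ x : N, χ x = ∑ η ∈ I, η.1 x := by
    intro x
    have h1 := congrFun hm x
    rw [Finset.sum_apply] at h1
    rw [h1, ← Finset.sum_filter_add_sum_filter_not Finset.univ
      (fun η : IrrCharacter N => m η ≠ 0), ← hI]
    rw [Finset.sum_eq_zero (s := Finset.univ.filter (fun η : IrrCharacter N => ¬ m η ≠ 0)),
      add_zero]
    · refine Finset.sum_congr rfl fun η hη => ?_
      rw [Pi.smul_apply, hmm η (Finset.mem_filter.mp hη).2, hm1, one_smul]
    · intro η hη
      have h3 : m η = 0 := by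
        have := (Finset.mem_filter.mp hη).2
        push Not at this
        exact this
      rw [Pi.smul_apply, h3, zero_smul]
  refine ⟨θ, e, hθ, he, ?_, ?_⟩
  · have h1 := hval 1
    have h2 : (d : ℂ) = ((p * e : ℕ) : ℂ) := by
      rw [← hd]
      have h3 : χ ((1 : N) : G) = ∑ η ∈ I, (e : ℂ) := by
        rw [h1]
        exact Finset.sum_congr rfl fun η hη => hdeg η (Finset.mem_filter.mp hη).2
      rw [Finset.sum_const, hIp, nsmul_eq_mul] at h3
      push_cast
      exact h3
    exact_mod_cast h2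
  · intro x hx
    have h1 := hval x
    have h2 := hval 1
    rw [h1]
    have h3 : χ 1 = ∑ η ∈ I, η.1 1 := h2
    rw [h3]
    refine Finset.sum_congr rfl fun η hη => ?_
    obtain ⟨g, hg⟩ := hconj η (Finset.mem_filter.mp hη).2
    rw [hg, Function.comp, Function.comp, hx g, map_one]

variable {P : Sylow p G} {χ : G → ℂ} {d : ℕ}

theorem inf_ne_bot (hB : Bad P χ d) {K : Subgroup G} (hK : K.Normal)
    (htop : K ⊔ (P : Subgroup G) = ⊤) : K ⊓ (P : Subgroup G) ≠ ⊥ := by
  intro h
  obtain ⟨T, hT⟩ := S0542.result p K (Normal.isSubnormal hK) P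
  have hT1 : (T : Subgroup K) = ⊥ := by
    rw [hT, subgroupOf_eq_bot]
    exact disjoint_iff.mpr (by rw [inf_comm]; exact h)
  apply not_pSolvable hB
  have h1 := isPGroup_quotient P htop
  refine Cfsg.Agent.Lib.PSolvable.IsPSolvable_of_quotient p K (Or.inr ?_)
    (Cfsg.Agent.PLocal.PSolvable.isPSolvable_of_isPGroup h1)
  rw [Nat.coprime_comm, (Fact.out : p.Prime).coprime_iff_not_dvd]
  intro hd
  have h2 := T.ne_bot_of_dvd_card hd
  exact h2 hT1

/-- A character vanishing off a normal subgroup of index `p` containing `K` gives a smaller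
counterexample. -/
theorem not_vanish (hB : Bad P χ d) (hM : Min.{u} p (Nat.card G)) (hχ : IsIrrCharacter G χ)
    {K : Subgroup G} {S : Subgroup (G ⧸ center G)} (hS : Str P K S) (N : Subgroup G)
    [hN : N.Normal] (hidx : N.index = p) (hKN : K ≤ N) : ¬ ∀ g, g ∉ N → χ g = 0 := by
  classical
  intro hvan
  have hp : p.Prime := Fact.out
  have hKn := hS.nK
  obtain ⟨θ, e, hθ, he, hde, hker⟩ := exists_constituent_index (p := p) hχ hB.deg N hidx hvan
  obtain ⟨T, hT⟩ := S0542.result p N (Normal.isSubnormal hN) P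
  -- the kernel of `θ`
  obtain ⟨n, ρ, hρ, hρθ⟩ := id hθ
  have hkerθ : ∀ x, θ x = θ 1 ↔ x ∈ MonoidHom.ker ρ := by
    intro x
    rw [← hρθ, Representation.char_one]
    exact Characters.Values.character_eq_finrank_iff ρ x
  let L : Subgroup G := (MonoidHom.ker ρ).map N.subtype
  have hLmem : ∀ x : N, (x : G) ∈ L ↔ θ x = θ 1 := by
    intro x
    rw [hkerθ]
    constructor
    · rintro ⟨y, hy, hyx⟩
      rw [← Subtype.ext hyx]; exact hy
    · intro hx
      exact ⟨x, hx, rfl⟩
  have hLN : L ≤ N := by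
    rintro _ ⟨y, _, rfl⟩
    exact y.2
  have hLconj : ∀ g ∈ N, ∀ x ∈ L, g * x * g⁻¹ ∈ L := by
    rintro g hg _ ⟨y, hy, rfl⟩
    exact ⟨⟨g, hg⟩ * y * ⟨g, hg⟩⁻¹, (inferInstance : (MonoidHom.ker ρ).Normal).conj_mem y hy _, rfl⟩
  -- central elements
  have hLc : ∀ z ∈ L, z ∈ center G → z = 1 := by
    intro z hz hzc
    apply hB.faith
    have h1 := hker ⟨z, hLN hz⟩ (fun g => by
      have h2 : (MulAut.conjNormal g (⟨z, hLN hz⟩ : N)) = ⟨z, hLN hz⟩ := by
        apply Subtype.ext
        rw [MulAut.conjNormal_apply]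
        show g * z * g⁻¹ = z
        rw [mem_center_iff.mp hzc g]; group
      rw [h2]
      exact (hLmem ⟨z, hLN hz⟩).mp hz)
    exact h1
  -- `L` does not contain `K`
  have hKL : ¬ K ≤ L := by
    intro hKL
    have h1 : K = ⊥ := by
      rw [eq_bot_iff]
      intro k hk
      rw [mem_bot]
      apply hB.faith
      refine hker ⟨k, hKN hk⟩ (fun g => ?_)
      rw [← hLmem, MulAut.conjNormal_apply]
      exact hKL (hKn.conj_mem k hk g)
    apply inf_ne_bot hB hKn hS.top
    rw [h1, bot_inf_eq]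
  -- `L ⊓ K` is central
  let π := QuotientGroup.mk' (center G)
  have hLKc : L ⊓ K ≤ center G := by
    have hsimp := hS.simple
    have hn : (((L ⊓ K).map π).subgroupOf S).Normal := by
      refine ⟨fun x hx s => ?_⟩
      rw [mem_subgroupOf] at hx ⊢
      obtain ⟨y, hy, hyx⟩ := hx
      have hs : (s : G ⧸ center G) ∈ K.map π := by rw [hS.map]; exact s.2
      obtain ⟨k, hk, hks⟩ := hs
      refine ⟨k * y * k⁻¹, ⟨hLconj k (hKN hk) y hy.1, K.mul_mem (K.mul_mem hk hy.2) (K.inv_mem hk)⟩, ?_⟩
      rw [map_mul, map_mul, map_inv, hyx, hks]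
      rfl
    rcases hn.eq_bot_or_eq_top with h | h
    · rw [subgroupOf_eq_bot, disjoint_iff] at h
      have hle : (L ⊓ K).map π ≤ S := by
        rw [← hS.map]
        exact Subgroup.map_mono inf_le_right
      rw [inf_eq_left.mpr hle] at h
      intro x hx
      have : π x ∈ (L ⊓ K).map π := ⟨x, hx, rfl⟩
      rw [h, mem_bot] at this
      exact (QuotientGroup.eq_one_iff x).mp this
    · exfalso
      apply hKL
      rw [subgroupOf_eq_top] at h
      have h1 : K ≤ (L ⊓ K) ⊔ center G := by
        intro k hk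
        have h2 : π k ∈ (L ⊓ K).map π := h (by rw [← hS.map]; exact ⟨k, hk, rfl⟩)
        obtain ⟨y, hy, hyk⟩ := h2
        have h3 : y⁻¹ * k ∈ center G := QuotientGroup.eq.mp hyk
        have h4 : k = y * (y⁻¹ * k) := by group
        rw [h4]
        exact mul_mem_sup hy h3
      rw [← hS.perf, Subgroup.commutator_le]
      intro a ha b hb
      obtain ⟨k, hk, z, hz, rfl⟩ := (mem_sup_of_normal_right.mp (h1 ha))
      obtain ⟨l, hl, w, hw, rfl⟩ := (mem_sup_of_normal_right.mp (h1 hb))
      have hz' := mem_center_iff.mp hz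
      have hw' := mem_center_iff.mp hw
      have h1 : ⁅k * z, l * w⁆ = ⁅k, l⁆ := by
        rw [commutatorElement_def, commutatorElement_def, mul_inv_rev, mul_inv_rev]
        have e1 : k * z * (l * w) * (z⁻¹ * k⁻¹) * (w⁻¹ * l⁻¹) =
          k * (z * (l * w) * z⁻¹) * k⁻¹ * w⁻¹ * l⁻¹ := by group
        have e2 : z * (l * w) * z⁻¹ = l * w := by
          rw [← hz' (l * w)]; group
        have e3 : k * (l * w) * k⁻¹ * w⁻¹ * l⁻¹ = k * l * (w * k⁻¹ * w⁻¹) * l⁻¹ := by group
        have e4 : w * k⁻¹ * w⁻¹ = k⁻¹ := by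
          rw [← hw' k⁻¹]; group
        rw [e1, e2, e3, e4]
      rw [h1, commutatorElement_def]
      exact L.mul_mem (L.mul_mem (L.mul_mem hk.1 hl.1) (L.inv_mem hk.1)) (L.inv_mem hl.1)
  have hL1 : ∀ x ∈ L, x = 1 := by
    intro x hx
    apply hLc x hx
    rw [← hS.cent, mem_centralizer_iff]
    intro k hk
    have e1 : k * x * k⁻¹ * x⁻¹ ∈ L := L.mul_mem (hLconj k (hKN hk) x hx) (L.inv_mem hx)
    have e2 : k * x * k⁻¹ * x⁻¹ ∈ K := by
      have : k * x * k⁻¹ * x⁻¹ = k * (x * k⁻¹ * x⁻¹) := by group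
      rw [this]
      exact K.mul_mem hk (hKn.conj_mem _ (K.inv_mem hk) x)
    have e3 := hLc _ e1 (hLKc ⟨e1, e2⟩)
    exact mul_inv_eq_iff_eq_mul.mp (mul_inv_eq_one.mp e3)
  -- orders
  have hNP : N ⊔ (P : Subgroup G) = ⊤ := by
    rw [eq_top_iff, ← hS.top]
    exact sup_le_sup_right hKN _
  have hcardT : Nat.card (P : Subgroup G) = p * Nat.card (T : Subgroup N) := by
    have h1 : (N ⊓ (P : Subgroup G)).relIndex (P : Subgroup G) = p := by
      rw [inf_relIndex_right, ← relIndex_sup_left, hNP, relIndex_top_right, hidx]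
    have h2 : Nat.card (T : Subgroup N) = Nat.card (N ⊓ (P : Subgroup G) : Subgroup G) := by
      rw [hT]
      have h3 : ((P : Subgroup G).subgroupOf N).map N.subtype = N ⊓ (P : Subgroup G) := by
        rw [subgroupOf_map_subtype, inf_comm]
      rw [← h3]
      exact (Nat.card_congr ((((P : Subgroup G).subgroupOf N).equivMapOfInjective _
        N.subtype_injective).toEquiv))
    have h4 : (N ⊓ (P : Subgroup G)).relIndex (P : Subgroup G) *
        Nat.card (N ⊓ (P : Subgroup G) : Subgroup G) = Nat.card (P : Subgroup G) := by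
      have h5 := relIndex_mul_relIndex ⊥ (N ⊓ (P : Subgroup G)) (P : Subgroup G) bot_le inf_le_right
      rw [relIndex_bot_left, relIndex_bot_left] at h5
      rw [mul_comm]
      exact h5
    rw [h2]
    rw [h1] at h4
    exact h4.symm
  have hlt : Nat.card N < Nat.card G := by
    rw [← N.card_mul_index, hidx]
    have h1 : 0 < Nat.card N := Nat.card_pos
    have h2 := hp.two_le
    nlinarith
  refine hM N hlt T θ e ⟨ti_subgroupOf hB.ti N T hT, isIrr_isCharacter hθ, ?_, he, ?_, ?_⟩
  · intro x hx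
    exact Subtype.ext (hL1 x ((hLmem x).mpr hx))
  · have h1 := hB.le
    rw [hcardT, hde] at h1
    obtain ⟨e', he'0, he'⟩ := isIrr_apply_one hθ
    rw [he] at he'
    have he1 : 1 ≤ e := by
      have : e = e' := by exact_mod_cast he'
      omega
    have h2 : p * (e + 1) ^ 2 ≤ (p * e + 1) ^ 2 := by
      obtain ⟨r, rfl⟩ : ∃ r, p = r + 2 := ⟨p - 2, by have := hp.two_le; omega⟩
      obtain ⟨s, rfl⟩ : ∃ s, e = s + 1 := ⟨e - 1, by omega⟩
      nlinarith [Nat.zero_le (r * s), Nat.zero_le (r * s * s), Nat.zero_le (r * r), Nat.zero_le (r * r * s), Nat.zero_le (r * r * s * s), Nat.zero_le (s * s)]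
    exact Nat.le_of_mul_le_mul_left (h2.trans h1) hp.pos
  · intro hTn
    -- `K` normalizes `P`
    obtain ⟨x, hx, hx1⟩ := (K ⊓ (P : Subgroup G)).bot_or_exists_ne_one.resolve_left
      (inf_ne_bot hB hKn hS.top)
    have hKnorm : K ≤ normalizer ((P : Subgroup G) : Set G) := by
      intro k hk
      refine hB.mem_normalizer hx.2 hx1 ?_
      have h1 := hTn.conj_mem ⟨x, hKN hx.1⟩ (by rw [hT, mem_subgroupOf]; exact hx.2)
        (⟨k, hKN hk⟩⁻¹ : N)
      rw [hT, mem_subgroupOf] at h1
      have h2 : k⁻¹ * x * k⁻¹⁻¹ ∈ (P : Subgroup G) := h1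
      rw [inv_inv] at h2
      exact Subgroup.le_normalizer h2
    apply hB.normalizer_ne_top
    rw [eq_top_iff, ← hS.top]
    exact sup_le hKnorm Subgroup.le_normalizer

end Cfsg.Agent.H665.LeonT
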