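import Mathlib
import Cfsg.Agent.H665.LeonT
import Cfsg.Agent.KantorSeitz.OfBase
import Cfsg.Agent.Lib.CoprimeAbelian
import Cfsg.Agent.Lib.CoprimeStab
import Cfsg.Agent.Characters.CNBasic

/-!
# Minimal counterexamples to Leonard's conjecture: `K ∩ P` cyclic
-/

set_option autoImplicit false
set_option linter.style.haveILetI false
set_option linter.unusedSectionVars false
open scoped Pointwise commutatorElement

namespace Cfsg.Agent.H665.LeonU

open Cfsg Cfsg.Agent.Characters.Core Module Cfsg.Agent.H665.LeonA Subgroup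
open Cfsg.Agent.H665.LeonB Cfsg.Agent.H665.LeonQ Cfsg.Agent.H665.LeonS Cfsg.Agent.H665.LeonT
open scoped ComplexConjugate

universe u

/-- In a cyclic group the elements of prime order `p` are in one subgroup. -/
theorem mem_zpowers_of_cyclic {R : Type*} [Group R] [Finite R] [IsCyclic R] {p : ℕ}
    (hp : p.Prime) {x v : R} (hx : orderOf x = p) (hv : orderOf v = p) : v ∈ zpowers x := by
  classical
  have := Fintype.ofFinite R
  have h1 := IsCyclic.card_pow_eq_one_le (α := R) (n := p) hp.pos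
  have h2 : (Finset.univ.filter fun y : R => y ∈ zpowers x) ⊆
      Finset.univ.filter fun y : R => y ^ p = 1 := by
    intro y hy
    rw [Finset.mem_filter] at hy ⊢
    refine ⟨Finset.mem_univ _, ?_⟩
    obtain ⟨i, rfl⟩ := mem_zpowers_iff.mp hy.2
    rw [← zpow_natCast, ← zpow_mul, mul_comm, zpow_mul, zpow_natCast, ← hx, pow_orderOf_eq_one,
      one_zpow]
  have h3 : (Finset.univ.filter fun y : R => y ∈ zpowers x).card = p := by
    rw [← hx, ← Nat.card_zpowers, Nat.card_eq_fintype_card, Fintype.card_subtype]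
  have h4 := Finset.eq_of_subset_of_card_le h2 (by rw [h3]; exact h1)
  have h5 : v ∈ Finset.univ.filter fun y : R => y ^ p = 1 := by
    rw [Finset.mem_filter]
    exact ⟨Finset.mem_univ _, by rw [← hv, pow_orderOf_eq_one]⟩
  rw [← h4, Finset.mem_filter] at h5
  exact h5.2

variable {G : Type u} [Group G] [Finite G] {p : ℕ} [Fact p.Prime]
variable {P : Sylow p G} {χ : G → ℂ} {d : ℕ}

/-- A coprime group of automorphisms of a cyclic `p`-group with a nontrivial fixed point is
trivial. -/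
theorem le_centralizer_of_cyclic {A R : Subgroup G} (hcyc : IsCyclic R) (hR : IsPGroup p R)
    (hAR : A ≤ normalizer (R : Set G)) (hcop : (Nat.card A).Coprime p) {x : G} (hx : x ∈ R)
    (hx1 : x ≠ 1) (hfix : ∀ a ∈ A, a * x = x * a) : A ≤ centralizer (R : Set G) := by
  have hp : p.Prime := Fact.out
  have hcomm : ∀ y ∈ R, ∀ z ∈ R, y * z = z * y := by
    intro y hy z hz
    have := hcyc.commGroup.mul_comm (⟨y, hy⟩ : R) ⟨z, hz⟩
    exact congrArg Subtype.val this
  obtain ⟨n, hn⟩ := IsPGroup.iff_card.mp hR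
  refine Cfsg.Agent.Lib.CoprimeAbelian.le_centralizer_of_prime_order A R hcomm hAR
    (by rw [hn]; exact Nat.Coprime.pow_right _ hcop) ?_
  intro v hv hvp a ha
  have hvo : orderOf v = p := by
    have h1 : orderOf v ∣ p ^ n := by
      rw [← hn, ← Subgroup.orderOf_mk v hv]; exact orderOf_dvd_natCard _
    exact (Nat.prime_dvd_prime_iff_eq hvp hp).mp (hvp.dvd_of_dvd_pow h1)
  obtain ⟨k, hk⟩ := (IsPGroup.iff_orderOf.mp hR) ⟨x, hx⟩
  have hk0 : k ≠ 0 := by
    rintro rfl
    rw [pow_zero, orderOf_eq_one_iff] at hk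
    exact hx1 (congrArg Subtype.val hk)
  have hxo : orderOf ((⟨x, hx⟩ : R) ^ p ^ (k - 1)) = p := by
    have h1 : p ^ (k - 1) ∣ orderOf (⟨x, hx⟩ : R) := by
      rw [hk]; exact pow_dvd_pow p (Nat.sub_le k 1)
    rw [orderOf_pow_of_dvd (pow_ne_zero _ hp.ne_zero) h1, hk]
    obtain ⟨j, rfl⟩ := Nat.exists_eq_succ_of_ne_zero hk0
    rw [Nat.succ_sub_one, pow_succ]
    exact Nat.mul_div_cancel_left p (pow_pos hp.pos j)
  have hvo' : orderOf (⟨v, hv⟩ : R) = p := by rw [Subgroup.orderOf_mk]; exact hvo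
  obtain ⟨i, hi⟩ := mem_zpowers_iff.mp (mem_zpowers_of_cyclic hp hxo hvo')
  have hi' : (x ^ p ^ (k - 1)) ^ i = v := congrArg Subtype.val hi
  have hc : Commute a x := hfix a ha
  rw [← hi']
  exact ((hc.pow_right _).zpow_right i).eq

/-- Central elements of the normalizer. -/
theorem eq_one_of_central (hB : Bad P χ d) (hM : Min.{u} p (Nat.card G)) {z : G}
    (hz : z ∈ (P : Subgroup G)) (hc : ∀ h ∈ normalizer ((P : Subgroup G) : Set G), z * h = h * z) :
    z = 1 := by
  have h1 := mem_center P hB.ti _ le_rfl hB.char hB.faith hB.deg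
    (le_trans (Nat.pow_le_pow_left (by omega) 2) hB.le) hc
  have h2 := center_coprime hB hM
  obtain ⟨k, hk⟩ := Bad.orderOf_mem P hz
  have h3 : orderOf z ∣ Nat.card (center G) := by
    rw [← Subgroup.orderOf_mk z h1]; exact orderOf_dvd_natCard _
  have h4 : orderOf z ∣ p ^ k := by rw [hk]
  have h5 : orderOf z ∣ 1 := by
    have := Nat.dvd_gcd h3 h4
    rwa [(Nat.Coprime.pow_right k h2)] at this
  exact orderOf_eq_one_iff.mp (Nat.dvd_one.mp h5)

/-- `p'`-elements are in `K`. -/
theorem mem_K_of_coprime {K : Subgroup G} (hK : K.Normal) (htop : K ⊔ (P : Subgroup G) = ⊤) {g : G}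
    (hg : (orderOf g).Coprime p) : g ∈ K := by
  obtain ⟨j, hj⟩ := isPGroup_quotient P htop (g : G ⧸ K)
  rw [← QuotientGroup.mk_pow, QuotientGroup.eq_one_iff] at hj
  have h3 : (p ^ j).Coprime (orderOf g) := (Nat.Coprime.pow_right _ hg).symm
  obtain ⟨l, hl⟩ := exists_pow_eq_self_of_coprime h3
  rw [← hl]
  exact K.pow_mem hj l

/-- A complement of `P` in its normalizer. -/
theorem exists_complement (P : Sylow p G) :
    ∃ A : Subgroup G, A ≤ normalizer ((P : Subgroup G) : Set G) ∧ (Nat.card A).Coprime p ∧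
      ∀ h ∈ normalizer ((P : Subgroup G) : Set G), ∃ x ∈ (P : Subgroup G), ∃ a ∈ A, h = x * a := by
  let H := normalizer ((P : Subgroup G) : Set G)
  have hPH : (P : Subgroup G) ≤ H := Subgroup.le_normalizer
  let P' : Sylow p H := P.subtype hPH
  have hn : ((P' : Sylow p H) : Subgroup H).Normal := normal_in_normalizer
  have hcop : Nat.Coprime (Nat.card (P' : Subgroup H)) (P' : Subgroup H).index :=
    P'.card_coprime_index
  obtain ⟨A', hA'⟩ := exists_right_complement'_of_coprime hcop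
  refine ⟨A'.map H.subtype, map_subtype_le A', ?_, ?_⟩
  · have h1 : Nat.card (A'.map H.subtype) = Nat.card A' :=
      (Nat.card_congr (A'.equivMapOfInjective _ H.subtype_injective).toEquiv).symm
    rw [h1, ← hA'.symm.index_eq_card, Nat.coprime_comm, (Fact.out : p.Prime).coprime_iff_not_dvd]
    exact P'.not_dvd_index
  · intro h hh
    obtain ⟨⟨x, a⟩, hxa⟩ := hA'.2 ⟨h, hh⟩
    refine ⟨x.1.1, x.2, a.1.1, ⟨a.1, a.2, rfl⟩, ?_⟩
    exact (congrArg Subtype.val hxa).symm

/-- If `R = K ∩ P` is cyclic then `C_P(R) ≤ K`. -/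
theorem cent_le (hB : Bad P χ d) (hM : Min.{u} p (Nat.card G)) {K : Subgroup G} (hK : K.Normal)
    (htop : K ⊔ (P : Subgroup G) = ⊤) (hcyc : IsCyclic (K ⊓ (P : Subgroup G) : Subgroup G)) {y : G}
    (hy : y ∈ (P : Subgroup G)) (hyc : ∀ x ∈ K ⊓ (P : Subgroup G), x * y = y * x) : y ∈ K := by
  by_contra hyK
  obtain ⟨A, hAN, hAp, hdec⟩ := exists_complement P
  set R := K ⊓ (P : Subgroup G) with hR
  have hAK : A ≤ K := by
    intro a ha
    refine mem_K_of_coprime (P := P) hK htop ?_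
    refine Nat.Coprime.coprime_dvd_left ?_ hAp
    rw [← Subgroup.orderOf_mk a ha]; exact orderOf_dvd_natCard _
  have hRp : IsPGroup p R := P.isPGroup'.to_le inf_le_right
  obtain ⟨n, hn⟩ := IsPGroup.iff_card.mp P.isPGroup'
  have hAP : (Nat.card A).Coprime (Nat.card (P : Subgroup G)) := by
    rw [hn]; exact Nat.Coprime.pow_right _ hAp
  have hAR : A ≤ normalizer (R : Set G) := by
    intro a ha
    rw [mem_normalizer_iff]
    intro x
    have h1 := mem_normalizer_iff.mp (hAN ha) x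
    constructor
    · rintro ⟨hx1, hx2⟩
      exact ⟨hK.conj_mem x hx1 a, h1.mp hx2⟩
    · rintro ⟨hx1, hx2⟩
      refine ⟨?_, h1.mpr hx2⟩
      have := hK.conj_mem _ hx1 a⁻¹
      have h2 : a⁻¹ * (a * x * a⁻¹) * a⁻¹⁻¹ = x := by group
      rwa [h2] at this
  have hcommR : ⁅(P : Subgroup G), A⁆ ≤ R := by
    rw [Subgroup.commutator_le]
    intro x hx a ha
    constructor
    · show ⁅x, a⁆ ∈ K
      rw [commutatorElement_def]
      have : x * a * x⁻¹ * a⁻¹ = (x * a * x⁻¹) * a⁻¹ := by group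
      rw [this]
      exact K.mul_mem (hK.conj_mem a (hAK ha) x) (K.inv_mem (hAK ha))
    · show ⁅x, a⁆ ∈ (P : Subgroup G)
      rw [commutatorElement_def]
      have : x * a * x⁻¹ * a⁻¹ = x * (a * x⁻¹ * a⁻¹) := by group
      rw [this]
      exact (P : Subgroup G).mul_mem hx
        ((mem_normalizer_iff.mp (hAN ha) _).mp ((P : Subgroup G).inv_mem hx))
  -- `A` does not centralize `P`
  have hs1 : ¬ A ≤ centralizer ((P : Subgroup G) : Set G) := by
    intro hA
    haveI : Nontrivial (P : Subgroup G) := (Subgroup.nontrivial_iff_ne_bot _).mpr hB.ne_bot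
    haveI := P.isPGroup'.center_nontrivial
    obtain ⟨⟨z, hzc⟩, hz1⟩ := exists_ne (1 : Subgroup.center (P : Subgroup G))
    apply hz1
    have h1 : (z : G) = 1 := by
      refine eq_one_of_central hB hM z.2 ?_
      intro h hh
      obtain ⟨x, hx, a, ha, rfl⟩ := hdec h hh
      have e1 : (z : G) * x = x * z :=
        (congrArg Subtype.val (Subgroup.mem_center_iff.mp hzc ⟨x, hx⟩)).symm
      have e2 : (z : G) * a = a * z := mem_centralizer_iff.mp (hA ha) z z.2
      rw [← mul_assoc, e1, mul_assoc, e2, mul_assoc]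
    exact Subtype.ext (Subtype.ext h1)
  have hs3 : ¬ A ≤ centralizer (R : Set G) := fun h =>
    hs1 (Cfsg.Agent.Lib.CoprimeStab.le_centralizer_of_commutator_le hAP inf_le_right hcommR h)
  have hs4 : ∀ x ∈ R, (∀ a ∈ A, a * x = x * a) → x = 1 := by
    intro x hx hfix
    by_contra hx1
    exact hs3 (le_centralizer_of_cyclic hcyc hRp hAR hAp hx hx1 hfix)
  have hRcomm : ∀ y ∈ R, ∀ z ∈ R, y * z = z * y := by
    intro y hy z hz
    have := hcyc.commGroup.mul_comm (⟨y, hy⟩ : R) ⟨z, hz⟩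
    exact congrArg Subtype.val this
  have hPs : Group.IsSolvable (P : Subgroup G) := by
    have := P.isPGroup'.isNilpotent
    infer_instance
  obtain ⟨r, hr, c, hc, hcA, hrc⟩ := Cfsg.Agent.KantorSeitz.exists_commutator_mul hAN hAP hPs hy
  have hrR : r ∈ R := hcommR hr
  have hcR : ∀ x ∈ R, x * c = c * x := by
    intro x hx
    have h1 : c = r⁻¹ * y := by rw [hrc]; group
    have h2 : Commute x r⁻¹ := (show Commute x r from hRcomm x hx r hrR).inv_right
    have h3 : Commute x y := hyc x hx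
    rw [h1]
    exact (h2.mul_right h3).eq
  have hcK : c ∉ K := by
    intro h
    apply hyK
    rw [hrc]
    exact K.mul_mem hrR.1 h
  let T : Subgroup G := (P : Subgroup G) ⊓ centralizer (A : Set G)
  let D : Subgroup G := T ⊓ centralizer (R : Set G)
  have hcD : c ∈ D := by
    exact ⟨⟨hc, mem_centralizer_iff.mpr hcA⟩, mem_centralizer_iff.mpr hcR⟩
  have hD1 : D ≠ ⊥ := by
    intro h
    rw [h, mem_bot] at hcD
    exact hcK (by rw [hcD]; exact K.one_mem)
  have hTp : IsPGroup p T := P.isPGroup'.to_le inf_le_left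
  have hDp : IsPGroup p D := hTp.to_le inf_le_left
  obtain ⟨w, hw, hw1, hwT⟩ := Cfsg.Agent.Characters.CNBasic.exists_mem_center_of_normal T hTp D hDp
    hD1 (by
      intro t ht e he
      refine ⟨T.mul_mem (T.mul_mem ht he.1) (T.inv_mem ht), mem_centralizer_iff.mpr ?_⟩
      intro x hx
      have h1 : t⁻¹ * x * t ∈ R := by
        have h2 := hK.conj_mem x hx.1 t⁻¹
        rw [inv_inv] at h2
        exact ⟨h2, (P : Subgroup G).mul_mem ((P : Subgroup G).mul_mem
          ((P : Subgroup G).inv_mem ht.1) hx.2) ht.1⟩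
      have h3 := mem_centralizer_iff.mp he.2 _ h1
      calc x * (t * e * t⁻¹) = t * ((t⁻¹ * x * t) * e) * t⁻¹ := by group
        _ = t * (e * (t⁻¹ * x * t)) * t⁻¹ := by rw [h3]
        _ = (t * e * t⁻¹) * x := by group)
  apply hw1
  refine eq_one_of_central hB hM hw.1.1 ?_
  intro h hh
  obtain ⟨x, hx, a, ha, rfl⟩ := hdec h hh
  obtain ⟨r', hr', c', hc', hc'A, hrc'⟩ :=
    Cfsg.Agent.KantorSeitz.exists_commutator_mul hAN hAP hPs hx
  have e1 : Commute w r' := (mem_centralizer_iff.mp hw.2 r' (hcommR hr')).symm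
  have e2 : Commute w c' := (hwT c' ⟨hc', mem_centralizer_iff.mpr hc'A⟩).symm
  have e3 : Commute w a := (mem_centralizer_iff.mp hw.1.2 a ha).symm
  rw [hrc']
  exact ((e1.mul_right e2).mul_right e3).eq

end Cfsg.Agent.H665.LeonU
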