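import Mathlib
import Cfsg.Agent.H665.LeonU

/-!
# Minimal counterexamples to Leonard's conjecture: the case `K ∩ P` cyclic
-/

set_option autoImplicit false
set_option linter.style.haveILetI false
set_option linter.unusedSectionVars false
open scoped Pointwise commutatorElement

namespace Cfsg.Agent.H665.LeonV

open Cfsg Cfsg.Agent.Characters.Core Module Cfsg.Agent.H665.LeonA Subgroup
open Cfsg.Agent.H665.LeonB Cfsg.Agent.H665.LeonQ Cfsg.Agent.H665.LeonS Cfsg.Agent.H665.LeonT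
open Cfsg.Agent.H665.LeonU
open scoped ComplexConjugate

universe u

variable {G : Type u} [Group G] [Finite G] {p : ℕ} [Fact p.Prime]
variable {P : Sylow p G} {χ : G → ℂ} {d : ℕ}

theorem sq_lt (hB : Bad P χ d) : d * d < Nat.card (P : Subgroup G) := by
  have := hB.le
  nlinarith

theorem isIrr_norm (hB : Bad P χ d) (hχ : IsIrrCharacter G χ) :
    IsIrrCharacter (normalizer ((P : Subgroup G) : Set G))
      (fun h : normalizer ((P : Subgroup G) : Set G) => χ h) := by
  have := Fintype.ofFinite G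
  exact isIrr_restrict P hB.ti _ le_rfl hχ hB.deg (sq_lt hB)

/-- `χ` vanishes on the elements of `N_G(P)` not centralizing `R = K ∩ P` when `R` is cyclic. -/
theorem vanish_of_not_cent (hB : Bad P χ d) (hχ : IsIrrCharacter G χ) {K : Subgroup G}
    (hK : K.Normal) (hcyc : IsCyclic (K ⊓ (P : Subgroup G) : Subgroup G)) {n : G}
    (hn : n ∈ normalizer ((P : Subgroup G) : Set G))
    (hnc : n ∉ centralizer ((K ⊓ (P : Subgroup G) : Subgroup G) : Set G)) : χ n = 0 := by
  classical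
  set H := normalizer ((P : Subgroup G) : Set G) with hH
  set R := K ⊓ (P : Subgroup G) with hR
  obtain ⟨⟨c, hc⟩, hgen⟩ := hcyc.exists_generator
  have hgen' : ∀ x ∈ R, ∃ i : ℤ, c ^ i = x := by
    intro x hx
    obtain ⟨i, hi⟩ := mem_zpowers_iff.mp (hgen ⟨x, hx⟩)
    exact ⟨i, congrArg Subtype.val hi⟩
  have hRn : ∀ m ∈ H, ∀ x ∈ R, m * x * m⁻¹ ∈ R := fun m hm x hx =>
    ⟨hK.conj_mem x hx.1 m, (mem_normalizer_iff.mp hm x).mp hx.2⟩
  obtain ⟨a, ha⟩ := hgen' _ (hRn n⁻¹ (inv_mem hn) c hc)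
  rw [inv_inv] at ha
  -- `r = c ^ (a - 1)`
  let r : G := c ^ (a - 1)
  have hrR : r ∈ R := R.zpow_mem hc _
  have hr1 : r ≠ 1 := by
    intro h
    apply hnc
    have h1 : n⁻¹ * c * n = c := by
      rw [← ha]
      have : c ^ a = c ^ (a - 1) * c := by rw [← zpow_add_one]; congr 1; ring
      rw [this]
      show r * c = c
      rw [h, one_mul]
    have h2 : Commute n c := by
      show n * c = c * n
      calc n * c = n * (n⁻¹ * c * n) := by rw [h1]
        _ = c * n := by group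
    rw [mem_centralizer_iff]
    intro x hx
    obtain ⟨i, rfl⟩ := hgen' x hx
    exact ((h2.zpow_right i).eq).symm
  have hconj : ∀ i : ℤ, χ (n * r ^ i) = χ n := by
    intro i
    have h1 : n * r ^ i = c ^ i * n * (c ^ i)⁻¹ := by
      have e1 : c ^ i * n = n * (n⁻¹ * c * n) ^ i := by
        have : (n⁻¹ * c * n) ^ i = n⁻¹ * c ^ i * n := by
          have := conj_zpow (i := i) (a := n⁻¹) (b := c)
          rwa [inv_inv] at this
        rw [this]; group
      rw [e1, ← ha]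
      show n * (c ^ (a - 1)) ^ i = n * (c ^ a) ^ i * (c ^ i)⁻¹
      rw [mul_assoc, ← zpow_neg, ← zpow_mul, ← zpow_mul, ← zpow_add]
      congr 2
      ring
    rw [h1]
    exact isIrr_isClassFunction hχ n _
  let R₁ : Subgroup H := (zpowers r).subgroupOf H
  have hrH : r ∈ H := Subgroup.le_normalizer hrR.2
  have hR₁n : R₁.Normal := by
    refine ⟨fun x hx m => ?_⟩
    rw [mem_subgroupOf] at hx ⊢
    obtain ⟨j, hj⟩ := mem_zpowers_iff.mp hx
    obtain ⟨k, hk⟩ := hgen' _ (hRn m m.2 c hc)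
    have h1 : (m : G) * r * (m : G)⁻¹ = r ^ k := by
      show (m : G) * c ^ (a - 1) * (m : G)⁻¹ = (c ^ (a - 1)) ^ k
      rw [← conj_zpow, ← hk, ← zpow_mul, ← zpow_mul, mul_comm]
    show (m : G) * x * (m : G)⁻¹ ∈ zpowers r
    rw [← hj, ← conj_zpow, h1]
    exact (zpowers r).zpow_mem ((zpowers r).zpow_mem (mem_zpowers r) k) j
  have : Fintype R₁ := Fintype.ofFinite _
  have hsum := Cfsg.Agent.H665.LeonN.sum_eq_zero (isIrr_norm hB hχ) R₁ (by
    refine ⟨⟨r, hrH⟩, ?_, ?_⟩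
    · rw [mem_subgroupOf]; exact mem_zpowers r
    · exact fun h => hr1 (hB.faith r h)) ⟨n, hn⟩
  have hval : ∀ x : R₁, χ (((x : H) * ⟨n, hn⟩ : H) : G) = χ n := by
    intro x
    obtain ⟨j, hj⟩ := mem_zpowers_iff.mp (mem_subgroupOf.mp x.2)
    show χ (((x : H) : G) * n) = χ n
    rw [← hj, ← hconj j, ← isIrr_isClassFunction hχ (n * r ^ j) (r ^ j)]
    congr 1
    group
  rw [Finset.sum_congr rfl fun x _ => hval x, Finset.sum_const, Finset.card_univ, nsmul_eq_mul,
    mul_eq_zero] at hsum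
  rcases hsum with h | h
  · exfalso
    have : (Fintype.card R₁ : ℂ) ≠ 0 := by exact_mod_cast Fintype.card_ne_zero
    exact this h
  · exact h

/-- If `R = K ∩ P` is cyclic then `χ` vanishes on `N_G(P) \ K`. -/
theorem vanish_of_cyclic (hB : Bad P χ d) (hM : Min.{u} p (Nat.card G)) (hχ : IsIrrCharacter G χ)
    {K : Subgroup G} (hK : K.Normal) (htop : K ⊔ (P : Subgroup G) = ⊤)
    (hcyc : IsCyclic (K ⊓ (P : Subgroup G) : Subgroup G)) {n : G}
    (hn : n ∈ normalizer ((P : Subgroup G) : Set G)) (hnK : n ∉ K) : χ n = 0 := by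
  have hp : p.Prime := Fact.out
  refine vanish_of_not_cent hB hχ hK hcyc hn fun hnc => hnK ?_
  rw [mem_centralizer_iff] at hnc
  -- the order of `n`
  obtain ⟨e, b, hb, hnb⟩ := Nat.exists_eq_pow_mul_and_not_dvd (orderOf_pos n).ne' p hp.ne_one
  have hcop : (p ^ e).Coprime b := (Nat.Coprime.pow_left e (hp.coprime_iff_not_dvd.mpr hb))
  have h1 : n ^ b ∈ (P : Subgroup G) := by
    refine Bad.mem_of_pgroup P ⟨e, ?_⟩ (Subgroup.pow_mem _ hn b)
    rw [orderOf_pow_of_dvd (by rintro rfl; simp at hb) (Dvd.intro_left _ hnb.symm), hnb]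
    exact Nat.mul_div_cancel _ (Nat.pos_of_ne_zero (by rintro rfl; simp at hb))
  have h2 : n ^ b ∈ K := by
    refine cent_le hB hM hK htop hcyc h1 ?_
    intro x hx
    exact ((show Commute x n from hnc x hx).pow_right b).eq
  have h3 : n ^ p ^ e ∈ K := by
    refine mem_K_of_coprime hK htop ?_
    rw [orderOf_pow_of_dvd (pow_ne_zero _ hp.ne_zero) (Dvd.intro _ hnb.symm), hnb,
      Nat.mul_div_cancel_left _ (pow_pos hp.pos e), Nat.coprime_comm, hp.coprime_iff_not_dvd]
    exact hb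
  have h4 : (n : G) ^ (1 : ℤ) ∈ K := by
    have h5 : ((p ^ e : ℕ) : ℤ) * Int.gcdA (p ^ e : ℕ) b + (b : ℤ) * Int.gcdB (p ^ e : ℕ) b = 1 := by
      rw [← Int.gcd_eq_gcd_ab]
      norm_cast
    rw [← h5, zpow_add, zpow_mul, zpow_mul, zpow_natCast, zpow_natCast]
    exact K.mul_mem (K.zpow_mem h3 _) (K.zpow_mem h2 _)
  rwa [zpow_one] at h4

end Cfsg.Agent.H665.LeonV
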