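import Mathlib
import Cfsg.Agent.H665.LeonV
import Cfsg.Agent.Characters.Linear

/-!
# Minimal counterexamples to Leonard's conjecture: `K ∩ P` is not cyclic
-/

set_option autoImplicit false
set_option linter.style.haveILetI false
set_option linter.unusedSectionVars false
open scoped Pointwise commutatorElement

namespace Cfsg.Agent.H665.LeonW

open Cfsg Cfsg.Agent.Characters.Core Module Cfsg.Agent.H665.LeonA Subgroup
open Cfsg.Agent.H665.LeonB Cfsg.Agent.H665.LeonQ Cfsg.Agent.H665.LeonS Cfsg.Agent.H665.LeonT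
open Cfsg.Agent.H665.LeonU Cfsg.Agent.H665.LeonV
open scoped ComplexConjugate

universe u

/-- A nontrivial finite `p`-group has a linear character of order `p`. -/
theorem exists_hom {Q : Type u} [Group Q] [Finite Q] [Nontrivial Q] {p : ℕ} [Fact p.Prime]
    (hQ : IsPGroup p Q) : ∃ μ : Q →* ℂˣ, μ ≠ 1 ∧ μ ^ p = 1 := by
  have hp : p.Prime := Fact.out
  have h1 : Nat.card (Q →* ℂˣ) = (commutator Q).index :=
    Cfsg.Agent.Characters.Linear.card_hom_eq_index_commutator Q
  have h2 : commutator Q ≠ ⊤ := by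
    have hnil := hQ.isNilpotent
    have hs : Group.IsSolvable Q := inferInstance
    intro h
    have h3 := Group.IsSolvable.commutator_lt_top_of_nontrivial Q
    rw [h] at h3
    exact lt_irrefl _ h3
  have hfin : Finite (Q →* ℂˣ) := by
    have : Finite (IrrCharacter Q) := finite_irr
    exact Finite.of_injective
      (fun f : Q →* ℂˣ => (⟨_, Cfsg.Agent.Characters.Linear.isIrrCharacter_hom f⟩ : IrrCharacter Q))
      (fun f g h => by
        ext x
        exact congrFun (congrArg Subtype.val h) x)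
  have hdvd : p ∣ Nat.card (Q →* ℂˣ) := by
    rw [h1]
    obtain ⟨n, hn⟩ := IsPGroup.iff_card.mp hQ
    have h4 : (commutator Q).index ∣ p ^ n := by rw [← hn]; exact index_dvd_card _
    obtain ⟨j, -, hj⟩ := (Nat.dvd_prime_pow hp).mp h4
    rw [hj]
    refine dvd_pow_self p ?_
    rintro rfl
    rw [pow_zero, index_eq_one] at hj
    exact h2 hj
  obtain ⟨μ, hμ⟩ := exists_prime_orderOf_dvd_card' (G := Q →* ℂˣ) p hdvd
  refine ⟨μ, ?_, ?_⟩
  · rintro rfl
    rw [orderOf_one] at hμ
    exact hp.one_lt.ne hμ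
  · rw [← hμ, pow_orderOf_eq_one]

variable {G : Type u} [Group G] [Finite G] {p : ℕ} [Fact p.Prime]
variable {P : Sylow p G} {χ : G → ℂ} {d : ℕ}

theorem exists_index {K : Subgroup G} (hK : K.Normal) (htop : K ⊔ (P : Subgroup G) = ⊤)
    (hne : K ≠ ⊤) :
    ∃ μ : G →* ℂˣ, μ.ker.index = p ∧ K ≤ μ.ker := by
  have hp : p.Prime := Fact.out
  have : Nontrivial (G ⧸ K) := by
    rw [QuotientGroup.nontrivial_iff]
    exact hne
  obtain ⟨μ, hμ1, hμp⟩ := exists_hom (isPGroup_quotient P htop)
  let ν : G →* ℂˣ := μ.comp (QuotientGroup.mk' K)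
  refine ⟨ν, ?_, ?_⟩
  · rw [index_ker]
    have h1 : Nat.card ν.range ∣ p := by
      -- the range is a finite cyclic group of exponent dividing `p`
      have hfin : Finite ν.range := Finite.of_surjective ν.rangeRestrict ν.rangeRestrict_surjective
      have hcyc : IsCyclic ν.range := inferInstance
      obtain ⟨g, hg⟩ := hcyc.exists_generator
      rw [← orderOf_eq_card_of_forall_mem_zpowers hg]
      apply orderOf_dvd_of_pow_eq_one
      obtain ⟨_, ⟨x, rfl⟩⟩ := g
      apply Subtype.ext
      show ν x ^ p = 1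
      have : (μ ^ p) (QuotientGroup.mk' K x) = 1 := by rw [hμp]; rfl
      exact this
    rcases (Nat.dvd_prime hp).mp h1 with h2 | h2
    · exfalso
      apply hμ1
      rw [Subgroup.card_eq_one] at h2
      ext y
      have h3 : ν y ∈ ν.range := ⟨y, rfl⟩
      rw [h2, mem_bot] at h3
      exact congrArg Units.val h3
    · exact h2
  · intro k hk
    rw [MonoidHom.mem_ker]
    show μ (QuotientGroup.mk' K k) = 1
    rw [show QuotientGroup.mk' K k = 1 from (QuotientGroup.eq_one_iff k).mpr hk, map_one]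

/-- `χ` does not vanish on `N_G(P) \ K` if `K ≠ G`. -/
theorem exists_ne_zero (hB : Bad P χ d) (hM : Min.{u} p (Nat.card G)) (hχ : IsIrrCharacter G χ)
    {K : Subgroup G} {S : Subgroup (G ⧸ center G)} (hS : Str P K S) (hne : K ≠ ⊤) :
    ∃ n ∈ normalizer ((P : Subgroup G) : Set G), n ∉ K ∧ χ n ≠ 0 := by
  classical
  have := Fintype.ofFinite G
  set H := normalizer ((P : Subgroup G) : Set G) with hH
  have : Fintype H := Fintype.ofFinite H
  by_contra hcon
  push Not at hcon
  obtain ⟨μ, hidx, hKμ⟩ := exists_index hS.nK hS.top hne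
  have hnv := not_vanish hB hM hχ hS μ.ker hidx hKμ
  let α : G → ℂ := fun g => (μ g : ℂ) * χ g
  have hαc : IsCharacter G α :=
    isCharacter_mul (Cfsg.Agent.Characters.Linear.isCharacter_hom μ) (isIrr_isCharacter hχ)
  have hα : IsIrrCharacter G α := by
    refine isIrr_of_classInner_self hαc ?_
    rw [← classInner_irr_self hχ, classInner_def, classInner_def]
    congr 1
    refine Finset.sum_congr rfl fun c _ => ?_
    have hn := Cfsg.Agent.Characters.Linear.norm_hom_apply μ c
    show _ * χ c * conj (_ * χ c) = _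
    rw [map_mul]
    have h2 : ((μ c : ℂˣ) : ℂ) * conj ((μ c : ℂˣ) : ℂ) = 1 := by
      rw [Complex.mul_conj, Complex.normSq_eq_norm_sq, hn]; norm_num
    linear_combination (χ c * conj (χ c)) * h2
  have hne' : α ≠ χ := by
    intro h
    apply hnv
    intro g hg
    have h1 : (μ g : ℂ) * χ g = χ g := congrFun h g
    by_contra h0
    apply hg
    rw [MonoidHom.mem_ker]
    have h2 : (μ g : ℂ) = 1 := mul_right_cancel₀ h0 (h1.trans (one_mul _).symm)
    exact Units.ext h2
  have h1 : α 1 = d := by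
    show (μ 1 : ℂ) * χ 1 = d
    rw [map_one, Units.val_one, one_mul, hB.deg]
  have h2 := inner_eq P hB.ti H le_rfl hαc (isIrr_isCharacter hχ) h1 hB.deg (sq_lt hB)
  rw [classInner_irr_ne hα hχ hne'] at h2
  have h3 : (fun h : H => α h) = fun h : H => χ h := by
    funext h
    show (μ h : ℂ) * χ h = χ h
    by_cases hhK : (h : G) ∈ K
    · have : μ h = 1 := hKμ hhK
      rw [this, Units.val_one, one_mul]
    · rw [hcon h h.2 hhK, mul_zero]
  rw [h3, classInner_irr_self (isIrr_norm hB hχ)] at h2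
  exact one_ne_zero h2

theorem eq_top_of_cyclic (hB : Bad P χ d) (hM : Min.{u} p (Nat.card G)) (hχ : IsIrrCharacter G χ)
    {K : Subgroup G} {S : Subgroup (G ⧸ center G)} (hS : Str P K S)
    (hcyc : IsCyclic (K ⊓ (P : Subgroup G) : Subgroup G)) : K = ⊤ := by
  by_contra hne
  obtain ⟨n, hn, hnK, h0⟩ := exists_ne_zero hB hM hχ hS hne
  exact h0 (vanish_of_cyclic hB hM hχ hS.nK hS.top hcyc hn hnK)

/-- Centralizers of nonidentity elements of a cyclic Sylow subgroup in its normalizer. -/
theorem mem_centralizer_of_commute (hcyc : IsCyclic (P : Subgroup G)) {x : G}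
    (hx : x ∈ (P : Subgroup G)) (hx1 : x ≠ 1) {n : G}
    (hn : n ∈ normalizer ((P : Subgroup G) : Set G)) (hc : n * x = x * n) :
    n ∈ centralizer ((P : Subgroup G) : Set G) := by
  have hp : p.Prime := Fact.out
  have hcomm : ∀ y ∈ (P : Subgroup G), ∀ z ∈ (P : Subgroup G), y * z = z * y := by
    intro y hy z hz
    have := hcyc.commGroup.mul_comm (⟨y, hy⟩ : (P : Subgroup G)) ⟨z, hz⟩
    exact congrArg Subtype.val this
  obtain ⟨e, b, hb, hnb⟩ := Nat.exists_eq_pow_mul_and_not_dvd (orderOf_pos n).ne' p hp.ne_one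
  have hcop : (p ^ e).Coprime b := (Nat.Coprime.pow_left e (hp.coprime_iff_not_dvd.mpr hb))
  have h1 : n ^ b ∈ centralizer ((P : Subgroup G) : Set G) := by
    have h2 : n ^ b ∈ (P : Subgroup G) := by
      refine Bad.mem_of_pgroup P ⟨e, ?_⟩ (Subgroup.pow_mem _ hn b)
      rw [orderOf_pow_of_dvd (by rintro rfl; simp at hb) (Dvd.intro_left _ hnb.symm), hnb]
      exact Nat.mul_div_cancel _ (Nat.pos_of_ne_zero (by rintro rfl; simp at hb))
    rw [mem_centralizer_iff]
    exact fun y hy => hcomm y hy _ h2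
  have h3 : n ^ p ^ e ∈ centralizer ((P : Subgroup G) : Set G) := by
    have h4 : zpowers (n ^ p ^ e) ≤ centralizer ((P : Subgroup G) : Set G) := by
      refine le_centralizer_of_cyclic hcyc P.isPGroup' ?_ ?_ hx hx1 ?_
      · rw [zpowers_le]
        exact Subgroup.pow_mem _ hn _
      · rw [Nat.card_zpowers, orderOf_pow_of_dvd (pow_ne_zero _ hp.ne_zero)
          (Dvd.intro _ hnb.symm), hnb, Nat.mul_div_cancel_left _ (pow_pos hp.pos e),
          Nat.coprime_comm, hp.coprime_iff_not_dvd]
        exact hb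
      · intro a ha
        obtain ⟨i, rfl⟩ := mem_zpowers_iff.mp ha
        exact (((show Commute n x from hc).pow_left _).zpow_left i).eq
    exact h4 (mem_zpowers _)
  have h4 : (n : G) ^ (1 : ℤ) ∈ centralizer ((P : Subgroup G) : Set G) := by
    have h5 : ((p ^ e : ℕ) : ℤ) * Int.gcdA (p ^ e : ℕ) b + (b : ℤ) * Int.gcdB (p ^ e : ℕ) b = 1 := by
      rw [← Int.gcd_eq_gcd_ab]
      norm_cast
    rw [← h5, zpow_add, zpow_mul, zpow_mul, zpow_natCast, zpow_natCast]
    exact Subgroup.mul_mem _ (Subgroup.zpow_mem _ h3 _) (Subgroup.zpow_mem _ h1 _)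
  rwa [zpow_one] at h4

end Cfsg.Agent.H665.LeonW
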