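import Mathlib

/-!
# A four-group in the centralizer of an element of order 5
-/

set_option autoImplicit false

namespace Cfsg.Agent.H665.TIFour

open Subgroup

variable {C : Type*} [Group C] [Finite C]

/-- A group of order 240 with elementary abelian Sylow 2-subgroups and a central involution `u`: an element of order 5
commutes with another involution. -/
theorem exists_four (hC : Nat.card C = 240) {E : Subgroup C} (hE : Nat.card E = 16) (hsq : ∀ x ∈ E, x * x = 1)
    {u : C} (hu : u * u = 1) (hu1 : u ≠ 1) (hc : ∀ c, c * u = u * c) :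
    ∃ x v : C, x ^ 5 = 1 ∧ x ≠ 1 ∧ v * v = 1 ∧ v ≠ 1 ∧ v ≠ u ∧ x * v = v * x := by
  classical
  have f5 : Fact (Nat.Prime 5) := ⟨Nat.prime_five⟩
  have f2 : Fact (Nat.Prime 2) := ⟨Nat.prime_two⟩
  obtain ⟨P⟩ : Nonempty (Sylow 5 C) := inferInstance
  obtain ⟨m, hm⟩ := IsPGroup.iff_card.mp P.isPGroup'
  have hP : Nat.card (P : Subgroup C) = 5 := by
    have h1 : 5 ^ 1 ∣ Nat.card (P : Subgroup C) := P.pow_dvd_card_of_pow_dvd_card (by rw [hC]; norm_num)
    have h2 : Nat.card (P : Subgroup C) ∣ 240 := hC ▸ Subgroup.card_subgroup_dvd_card _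
    rw [hm] at h1 h2 ⊢
    have h3 : 1 ≤ m := (Nat.pow_dvd_pow_iff_le_right (by norm_num)).mp h1
    have h4 : m < 2 := by
      by_contra h
      have : 5 ^ 2 ∣ 240 := (pow_dvd_pow 5 (by omega)).trans h2
      norm_num at this
    have : m = 1 := by omega
    rw [this, pow_one]
  set N := normalizer ((P : Subgroup C) : Set C) with hN
  have hidx : (P : Subgroup C).index = 48 := by
    have := (P : Subgroup C).card_mul_index
    rw [hP, hC] at this
    omega
  have hn1 : Nat.card (Sylow 5 C) ≡ 1 [MOD 5] := card_sylow_modEq_one 5 C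
  have hn2 : Nat.card (Sylow 5 C) ∣ 48 := hidx ▸ P.card_dvd_index
  have hn3 : Nat.card N * Nat.card (Sylow 5 C) = 240 := by
    rw [P.card_eq_index_normalizer, ← hC]
    exact N.card_mul_index
  have huN : u ∈ N := by
    rw [hN, mem_normalizer_iff]
    intro h
    rw [← hc, mul_inv_cancel_right]
  have hou : orderOf u = 2 := orderOf_eq_prime (by rw [pow_two, hu]) hu1
  have h8 : 2 ^ 3 ∣ Nat.card N := by
    have h2 : 2 ∣ Nat.card N := hou ▸ Subgroup.orderOf_dvd_natCard N huN
    generalize Nat.card (Sylow 5 C) = n at hn1 hn2 hn3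
    have hle : n ≤ 48 := Nat.le_of_dvd (by norm_num) hn2
    have h5 : n % 5 = 1 := hn1
    have key : ∀ n ≤ 48, n ∣ 48 → n % 5 = 1 → n = 1 ∨ n = 6 ∨ n = 16 := by decide
    rcases key n hle hn2 h5 with rfl | rfl | rfl
    · have : Nat.card N = 240 := by omega
      rw [this]; norm_num
    · have : Nat.card N = 40 := by omega
      rw [this]; norm_num
    · have : Nat.card N = 15 := by omega
      rw [this] at h2
      omega
  obtain ⟨S, hS⟩ := Sylow.exists_subgroup_card_pow_prime 2 h8
  -- all elements of `S` are involutions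
  have hES : ∃ T : Sylow 2 C, (T : Subgroup C) = E := by
    have h1 : IsPGroup 2 E := IsPGroup.of_card (n := 4) hE
    obtain ⟨T, hT⟩ := h1.exists_le_sylow
    refine ⟨T, (Subgroup.eq_of_le_of_card_ge hT ?_).symm⟩
    obtain ⟨k, hk⟩ := IsPGroup.iff_card.mp T.isPGroup'
    have h2 : Nat.card (T : Subgroup C) ∣ 240 := hC ▸ Subgroup.card_subgroup_dvd_card _
    rw [hk] at h2 ⊢
    have h4 : k < 5 := by
      by_contra h
      have : 2 ^ 5 ∣ 240 := (pow_dvd_pow 2 (by omega)).trans h2
      norm_num at this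
    rw [hE]
    calc 2 ^ k ≤ 2 ^ 4 := Nat.pow_le_pow_right (by norm_num) (by omega)
      _ = 16 := by norm_num
  obtain ⟨T, hT⟩ := hES
  have hSsq : ∀ s ∈ S, (s : C) * s = 1 := by
    intro s hs
    have h1 : IsPGroup 2 (S.map N.subtype) := (IsPGroup.of_card (n := 3) hS).map _
    obtain ⟨T', hT'⟩ := h1.exists_le_sylow
    obtain ⟨g, hg⟩ := MulAction.exists_smul_eq C T T'
    have h2 : (s : C) ∈ (T' : Subgroup C) := hT' ⟨s, hs, rfl⟩
    rw [← hg, Sylow.coe_subgroup_smul, hT] at h2
    obtain ⟨e, he, h3⟩ := h2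
    have h3' : g * e * g⁻¹ = (s : C) := h3
    rw [← h3']
    calc g * e * g⁻¹ * (g * e * g⁻¹) = g * (e * e) * g⁻¹ := by group
      _ = 1 := by rw [hsq e he]; group
  -- a generator of `P`
  have hP1 : (P : Subgroup C) ≠ ⊥ := by
    intro h
    rw [h, Subgroup.card_bot] at hP
    omega
  obtain ⟨x, hx, hx1⟩ := (Subgroup.bot_or_exists_ne_one _).resolve_left hP1
  have hx5 : x ^ 5 = 1 := by
    have := pow_card_eq_one' (x := (⟨x, hx⟩ : (P : Subgroup C)))
    rw [hP] at this
    exact congrArg Subtype.val this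
  have hox : orderOf x = 5 := orderOf_eq_prime hx5 hx1
  have hzp : zpowers x = P := by
    apply Subgroup.eq_of_le_of_card_ge (zpowers_le.2 hx)
    rw [hP, Nat.card_zpowers, hox]
  have hact : ∀ s ∈ S, (s : C) * x * (s : C)⁻¹ = x ∨ (s : C) * x * (s : C)⁻¹ = x⁻¹ := by
    intro s hs
    have h1 : (s : C) * x * (s : C)⁻¹ ∈ (P : Subgroup C) := (mem_normalizer_iff.mp s.2 x).mp hx
    rw [← hzp] at h1
    obtain ⟨k, hk⟩ := (mem_powers_iff_mem_zpowers.mpr h1)
    have hk' : x ^ k = (s : C) * x * (s : C)⁻¹ := hk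
    have hss := hSsq s hs
    have h2 : x ^ (k * k) = x := by
      calc x ^ (k * k) = ((s : C) * x * (s : C)⁻¹) ^ k := by rw [pow_mul, hk']
        _ = (s : C) * x ^ k * (s : C)⁻¹ := by rw [conj_pow]
        _ = (s : C) * ((s : C) * x * (s : C)⁻¹) * (s : C)⁻¹ := by rw [hk']
        _ = ((s : C) * s) * x * ((s : C) * s)⁻¹ := by group
        _ = x := by rw [hss]; group
    have h3 : k * k ≡ 1 [MOD 5] := by
      rw [← hox]
      exact (pow_eq_pow_iff_modEq (x := x)).mp (by rw [h2, pow_one])
    have h4 : k % 5 = 1 ∨ k % 5 = 4 := by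
      have h5 : (k * k) % 5 = 1 := h3
      rw [Nat.mul_mod] at h5
      have h6 : k % 5 < 5 := Nat.mod_lt _ (by norm_num)
      generalize k % 5 = j at h5 h6
      interval_cases j <;> omega
    rw [← hk', pow_mod_orderOf x k |>.symm, hox]
    rcases h4 with h4 | h4
    · left; rw [h4, pow_one]
    · right
      rw [h4]
      apply eq_inv_of_mul_eq_one_left
      rw [← pow_succ, hx5]
  by_contra hno
  push Not at hno
  have key : ∀ s ∈ S, (s : C) * x * (s : C)⁻¹ = x → (s : C) = 1 ∨ (s : C) = u := by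
    intro s hs h
    by_contra hcon
    rw [not_or] at hcon
    exact hno x s hx5 hx1 (hSsq s hs) hcon.1 hcon.2 (by rw [mul_inv_eq_iff_eq_mul] at h; exact h.symm)
  have h8' : Nat.card (S.map N.subtype) = 8 := by
    rw [Subgroup.card_map_of_injective N.subtype_injective, hS]; norm_num
  by_cases hall : ∀ s ∈ S, (s : C) * x * (s : C)⁻¹ = x
  · have h1 : ((S.map N.subtype : Subgroup C) : Set C) ⊆ (({1, u} : Finset C) : Set C) := by
      rintro _ ⟨s, hs, rfl⟩
      rcases key s hs (hall s hs) with h | h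
      · simp [h]
      · simp [h]
    have h2 := Set.ncard_le_ncard h1 (Finset.finite_toSet _)
    rw [Set.ncard_coe_finset, ← Nat.card_coe_set_eq] at h2
    have h3 : ({1, u} : Finset C).card ≤ 2 := Finset.card_le_two
    have h4 : Nat.card ↥(S.map N.subtype) ≤ 2 := h2.trans h3
    omega
  · push Not at hall
    obtain ⟨s, hs, hsx⟩ := hall
    have hsi := (hact s hs).resolve_left hsx
    have hss := hSsq s hs
    have h1 : ((S.map N.subtype : Subgroup C) : Set C) ⊆ (({1, u, (s : C), (s : C) * u} : Finset C) : Set C) := by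
      rintro _ ⟨t, ht, rfl⟩
      show (t : C) ∈ (({1, u, (s : C), (s : C) * u} : Finset C) : Set C)
      rcases hact t ht with h | h
      · rcases key t ht h with h' | h'
        · simp [h']
        · simp [h']
      · have h5 : ((s * t : N) : C) * x * ((s * t : N) : C)⁻¹ = x := by
          show ((s : C) * t) * x * ((s : C) * t)⁻¹ = x
          calc ((s : C) * t) * x * ((s : C) * t)⁻¹ = (s : C) * ((t : C) * x * (t : C)⁻¹) * (s : C)⁻¹ := by group
            _ = ((s : C) * x * (s : C)⁻¹)⁻¹ := by rw [h]; group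
            _ = x := by rw [hsi, inv_inv]
        have h6 : (t : C) = (s : C) * ((s * t : N) : C) := by
          show (t : C) = (s : C) * ((s : C) * t)
          rw [← mul_assoc, hss, one_mul]
        rcases key (s * t) (S.mul_mem hs ht) h5 with h' | h'
        · rw [h', mul_one] at h6
          simp [h6]
        · rw [h'] at h6
          simp [h6]
    have h2 := Set.ncard_le_ncard h1 (Finset.finite_toSet _)
    rw [Set.ncard_coe_finset, ← Nat.card_coe_set_eq] at h2
    have h3 : ({1, u, (s : C), (s : C) * u} : Finset C).card ≤ 4 := Finset.card_le_four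
    have h4 : Nat.card ↥(S.map N.subtype) ≤ 4 := h2.trans h3
    omega

end Cfsg.Agent.H665.TIFour
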