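import Cfsg.Agent.H665.TIB
import Cfsg.Agent.H665.TIFour
import Cfsg.Agent.KFacts.J2.Basic

/-!
# The Sylow 3- and 5-subgroups of the Hall–Janko group are not TI
-/

set_option autoImplicit false

namespace Cfsg.Agent.H665.SporJ2

open Subgroup Cfsg Cfsg.Agent.H666.TI Cfsg.Agent.H665.TIA Cfsg.Agent.H665.TIB Cfsg.Agent.KFacts.J2.Basic
open Cfsg.Agent.J2Type.Model Cfsg.Agent.J2Type.SPFacts Cfsg.Agent.J2Type.CStruct

section

variable {X : Type*} [Group X] [Finite X] {t u : X} {Q : Subgroup (centralizer ({t} : Set X))}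
  {v : Fin 5 → centralizer ({t} : Set X)} {ρ : centralizer ({t} : Set X) →* SP}

/-- every involution has centralizer of order 1920 or 240 -/
theorem card_cent (D : Dat t u Q v ρ) {x : X} (hx : x * x = 1) (hx1 : x ≠ 1) :
    Nat.card (centralizer ({x} : Set X)) = 1920 ∨ Nat.card (centralizer ({x} : Set X)) = 240 := by
  rcases D.F.cover x (orderOf_two hx hx1) with h | h
  · left; rw [← card_cent_isConj h, D.cardC]
  · right; rw [← card_cent_isConj h, D.card_cent_u]

theorem not_dvd_three (D : Dat t u Q v ρ) {x : X} (hx : x * x = 1) (hx1 : x ≠ 1) :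
    ¬ 3 ^ (1 + 1) ∣ Nat.card (centralizer ({x} : Set X)) := by
  rcases card_cent D hx hx1 with h | h <;> rw [h] <;> norm_num

theorem not_dvd_five (D : Dat t u Q v ρ) {x : X} (hx : x * x = 1) (hx1 : x ≠ 1) :
    ¬ 5 ^ (1 + 1) ∣ Nat.card (centralizer ({x} : Set X)) := by
  rcases card_cent D hx hx1 with h | h <;> rw [h] <;> norm_num

/-- the 3-cycle `(0 1 2)` -/
def cyc : SP := ⟨Equiv.swap 0 1 * Equiv.swap 1 2, fun _ => 0⟩

theorem cyc_pow : cyc ^ 4 = cyc := by decide +kernel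
theorem cyc_pow3 : cyc ^ 3 = 1 := by decide +kernel
theorem cyc_ne : cyc ≠ 1 := by decide +kernel

theorem not_three (D : Dat t u Q v ρ) : ¬ IsTI 3 X := by
  have : Fact (Nat.Prime 3) := ⟨Nat.prime_three⟩
  obtain ⟨c, hc⟩ := (D.M.range cyc).2 (by
    constructor
    · show Equiv.Perm.sign (Equiv.swap (0 : Fin 5) 1 * Equiv.swap 1 2) = 1
      decide +kernel
    · show ∑ i : Fin 5, (0 : ZMod 2) = 0
      simp)
  have h3 : (c ^ 3) ^ 2 = 1 := by
    have h1 : ρ (c ^ 3) = 1 := by rw [map_pow, hc, cyc_pow3]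
    rcases (D.M.ker _).1 h1 with h | h
    · rw [h, one_pow]
    · rw [h, pow_two]; exact D.M.z_sq
  have hd3 : (c ^ 4) ^ 3 = 1 := by
    rw [← pow_mul]
    have : c ^ (4 * 3) = ((c ^ 3) ^ 2) ^ 2 := by rw [← pow_mul, ← pow_mul]
    rw [this, h3, one_pow]
  have hρ : ρ (c ^ 4) = cyc := by rw [map_pow, hc, cyc_pow]
  have hd1 : c ^ 4 ≠ 1 := by
    intro h
    rw [h, map_one] at hρ
    exact cyc_ne hρ.symm
  have hconj : c ^ 4 * v 3 = v 3 * c ^ 4 := by
    have h1 := D.M.conj (c ^ 4) 3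
    rw [hρ] at h1
    have h2 : cyc.σ 3 = 3 := by decide +kernel
    have h4 : cyc.s 3 = 0 := rfl
    rw [h2, h4, zp_zero, one_mul] at h1
    exact mul_inv_eq_iff_eq_mul.1 h1
  set d : X := ((c ^ 4 : centralizer ({t} : Set X)) : X) with hd
  have hdt : d * t = t * d := mem_cent.1 (c ^ 4).2
  have hdv : d * v 3 = v 3 * d := congrArg Subtype.val hconj
  have hd3' : d ^ 3 = 1 := congrArg Subtype.val hd3
  have hd1' : d ≠ 1 := fun h => hd1 (Subtype.ext h)
  have htv : t * v 3 * (t * v 3) = 1 := by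
    calc t * v 3 * (t * v 3) = t * (v 3 * t) * v 3 := by group
      _ = (t * t) * (v 3 * v 3) := by rw [D.vt]; group
      _ = 1 := by rw [D.tt, D.vv, one_mul]
  have htv1 : t * (v 3 : X) ≠ 1 := by
    intro h
    apply D.v_ne_t 3
    have h5 : t * (t * (v 3 : X)) = t * 1 := by rw [h]
    rw [← mul_assoc, D.tt, one_mul, mul_one] at h5
    exact h5
  have hcomm : ∀ w : X, d * w = w * d → ∀ r ∈ zpowers d, r * w = w * r := by
    rintro w hw _ ⟨k, rfl⟩
    exact (show Commute d w from hw).zpow_left k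
  refine not_of_four (p := 3) (by norm_num) (u := t) (v := v 3) D.tt (D.vv 3) D.t_ne (D.v_ne 3) (D.vt 3).symm
    (fun h => D.v_ne_t 3 h.symm) (R := zpowers d) (b := 1) ?_ one_ne_zero (hcomm _ hdt) (hcomm _ hdv)
    (not_dvd_three D D.tt D.t_ne) (not_dvd_three D (D.vv 3) (D.v_ne 3)) (not_dvd_three D htv htv1) ?_
  · rw [Nat.card_zpowers, pow_one, orderOf_eq_prime hd3' hd1']
  · rw [D.card]; norm_num

theorem not_five (D : Dat t u Q v ρ) : ¬ IsTI 5 X := by
  have : Fact (Nat.Prime 5) := ⟨Nat.prime_five⟩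
  have huC : u ∈ centralizer ({u} : Set X) := mem_cent.2 rfl
  have hle : centralizer ({t} : Set X) ⊓ centralizer ({u} : Set X) ≤ centralizer ({u} : Set X) := inf_le_right
  obtain ⟨x, w, hx5, hx1, hw, hw1, hwu, hxw⟩ := TIFour.exists_four D.card_cent_u
    (E := (centralizer ({t} : Set X) ⊓ centralizer ({u} : Set X)).subgroupOf (centralizer ({u} : Set X)))
    (by rw [← D.F.cardE]; exact Nat.card_congr (Subgroup.subgroupOfEquivOfLe hle).toEquiv)
    (by
      intro y hy
      have h1 := mem_subgroupOf.mp hy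
      exact Subtype.ext (D.F.sqE y (mem_cent.1 h1.1) (mem_cent.1 h1.2)))
    (u := ⟨u, huC⟩) (Subtype.ext D.uu) (fun h => D.u_ne (congrArg Subtype.val h))
    (fun c => Subtype.ext (mem_cent.1 c.2))
  have hx5' : (x : X) ^ 5 = 1 := congrArg Subtype.val hx5
  have hx1' : (x : X) ≠ 1 := fun h => hx1 (Subtype.ext h)
  have hww : (w : X) * w = 1 := congrArg Subtype.val hw
  have hw1' : (w : X) ≠ 1 := fun h => hw1 (Subtype.ext h)
  have hwu' : (w : X) ≠ u := fun h => hwu (Subtype.ext h)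
  have hxw' : (x : X) * w = w * x := congrArg Subtype.val hxw
  have hxu : (x : X) * u = u * x := mem_cent.1 x.2
  have hwu2 : (w : X) * u = u * w := mem_cent.1 w.2
  have huw : u * (w : X) * (u * w) = 1 := by
    calc u * (w : X) * (u * w) = u * (w * u) * w := by group
      _ = (u * u) * (w * w) := by rw [hwu2]; group
      _ = 1 := by rw [D.uu, hww, one_mul]
  have huw1 : u * (w : X) ≠ 1 := by
    intro h
    apply hwu'
    have h5 : u * (u * (w : X)) = u * 1 := by rw [h]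
    rw [← mul_assoc, D.uu, one_mul, mul_one] at h5
    exact h5
  have hcomm : ∀ y : X, (x : X) * y = y * x → ∀ r ∈ zpowers (x : X), r * y = y * r := by
    rintro y hy _ ⟨k, rfl⟩
    exact (show Commute (x : X) y from hy).zpow_left k
  refine not_of_four (p := 5) (by norm_num) (u := u) (v := w) D.uu hww D.u_ne hw1' hwu2.symm
    (fun h => hwu' h.symm) (R := zpowers (x : X)) (b := 1) ?_ one_ne_zero (hcomm _ hxu) (hcomm _ hxw')
    (not_dvd_five D D.uu D.u_ne) (not_dvd_five D hww hw1') (not_dvd_five D huw huw1) ?_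
  · rw [Nat.card_zpowers, pow_one, orderOf_eq_prime hx5' hx1']
  · rw [D.card]; norm_num

end

theorem finite_J2 : Finite Spor.J2 :=
  Nat.finite_of_card_ne_zero (by rw [Cfsg.Agent.S1619.result.2.2.2]; norm_num)

theorem not_j2_three : ¬ IsTI 3 Spor.J2 := by
  have := finite_J2
  obtain ⟨t, u, Q, v, ρ, D⟩ := exists_dat
  exact not_three D

theorem not_j2_five : ¬ IsTI 5 Spor.J2 := by
  have := finite_J2
  obtain ⟨t, u, Q, v, ρ, D⟩ := exists_dat
  exact not_five D

end Cfsg.Agent.H665.SporJ2
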