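import Mathlib
import Cfsg.Agent.H665.LeonG
import Cfsg.Agent.H665.LeonW

/-!
# Minimal counterexamples to Leonard's conjecture: the Sylow subgroup is not cyclic
-/

set_option autoImplicit false
set_option linter.style.haveILetI false
set_option linter.unusedSectionVars false
open scoped Pointwise commutatorElement

namespace Cfsg.Agent.H665.LeonX

open Cfsg Cfsg.Agent.Characters.Core Module Cfsg.Agent.H665.LeonA Subgroup
open Cfsg.Agent.H665.LeonB Cfsg.Agent.H665.LeonQ Cfsg.Agent.H665.LeonS Cfsg.Agent.H665.LeonT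
open Cfsg.Agent.H665.LeonU Cfsg.Agent.H665.LeonV Cfsg.Agent.H665.LeonW Cfsg.Agent.H665.LeonN
open scoped ComplexConjugate

universe u

/-- The data for the character computation in the normalizer. -/
theorem exists_setup {N : Type u} [Group N] [Finite N] {p : ℕ} [Fact p.Prime] {P C : Subgroup N}
    (nP : P.Normal) (nC : C.Normal) (le : P ≤ C) (cent : ∀ x ∈ P, ∀ c ∈ C, x * c = c * x)
    (semi : ∀ x ∈ P, x ≠ 1 → ∀ n : N, n * x = x * n → n ∈ C) (hPp : IsPGroup p P)
    (hidx : ¬ p ∣ P.index) : ∃ k, Setup p k P C := by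
  have hp : p.Prime := Fact.out
  obtain ⟨m, hm⟩ := IsPGroup.iff_card.mp hPp
  have hcop : Nat.Coprime (Nat.card P) P.index := by
    rw [hm]
    exact Nat.Coprime.pow_left _ (hp.coprime_iff_not_dvd.mpr hidx)
  obtain ⟨A, hA⟩ := exists_right_complement'_of_coprime hcop
  have hcA : (p ^ m).Coprime (Nat.card A) := by
    rw [← hm, ← hA.symm.index_eq_card]
    exact hcop
  let kk := Nat.chineseRemainder hcA 1 0
  obtain ⟨k, hk1, hk0⟩ := kk
  have hfix : ∀ x ∈ P, x ^ k = x := by
    intro x hx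
    have h1 : orderOf x ∣ p ^ m := by
      rw [← hm]
      exact Subgroup.orderOf_dvd_natCard P hx
    have h2 : x ^ k = x ^ 1 := pow_eq_pow_iff_modEq.mpr (hk1.of_dvd h1)
    rwa [pow_one] at h2
  have hkill : ∀ a ∈ A, a ^ k = 1 := by
    intro a ha
    have h1 : orderOf a ∣ Nat.card A := Subgroup.orderOf_dvd_natCard A ha
    rw [← orderOf_dvd_iff_pow_eq_one]
    exact h1.trans ((Nat.modEq_zero_iff_dvd).mp hk0)
  have hdec : ∀ c ∈ C, ∃ x ∈ P, ∃ a ∈ A, a ∈ C ∧ c = x * a := by
    intro c hc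
    obtain ⟨⟨x, a⟩, hxa⟩ := hA.2 c
    refine ⟨x.1, x.2, a.1, a.2, ?_, hxa.symm⟩
    have : a.1 = x.1⁻¹ * c := by rw [← hxa]; simp
    rw [this]
    exact C.mul_mem (C.inv_mem (le x.2)) hc
  have hpow : ∀ x ∈ P, ∀ a ∈ A, a ∈ C → (x * a) ^ k = x := by
    intro x hx a ha haC
    rw [(show Commute x a from cent x hx a haC).mul_pow, hfix x hx, hkill a ha, mul_one]
  refine ⟨k, nP, nC, le, cent, semi, ?_, ?_, hfix, ?_⟩
  · intro c hc c' hc'
    obtain ⟨x, hx, a, ha, haC, rfl⟩ := hdec c hc
    obtain ⟨x', hx', a', ha', haC', rfl⟩ := hdec c' hc'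
    rw [hpow x hx a ha haC, hpow x' hx' a' ha' haC']
    have h1 : x * a * (x' * a') = (x * x') * (a * a') := by
      rw [mul_assoc, ← mul_assoc a, ← cent x' hx' a haC]; group
    rw [h1, hpow _ (P.mul_mem hx hx') _ (A.mul_mem ha ha') (C.mul_mem haC haC')]
  · intro c hc
    obtain ⟨x, hx, a, ha, haC, rfl⟩ := hdec c hc
    rw [hpow x hx a ha haC]
    exact hx
  · intro c hc hpc
    obtain ⟨x, hx, a, ha, haC, rfl⟩ := hdec c hc
    have h1 := hpow x hx a ha haC
    rw [h1]
    have h2 : orderOf x ∣ orderOf (x * a) := by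
      conv_lhs => rw [← h1]
      exact orderOf_pow_dvd k
    have h3 : orderOf x ∣ p ^ m := by
      rw [← hm]
      exact Subgroup.orderOf_dvd_natCard P hx
    obtain ⟨j, -, hj⟩ := (Nat.dvd_prime_pow hp).mp h3
    rw [← orderOf_eq_one_iff, hj]
    rcases Nat.eq_zero_or_pos j with h0 | h0
    · rw [h0, pow_zero]
    · exfalso
      apply hpc
      exact (dvd_pow_self p h0.ne').trans (hj ▸ h2)

variable {G : Type u} [Group G] [Finite G] {p : ℕ} [Fact p.Prime]
variable {P : Sylow p G} {χ : G → ℂ} {d : ℕ}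

theorem two_le (hB : Bad P χ d) (hχ : IsIrrCharacter G χ) : 2 ≤ d := by
  have h1 : χ 1 ≠ 0 := isIrr_apply_one_ne_zero hχ
  rcases Nat.lt_or_ge d 2 with h | h
  · exfalso
    interval_cases d
    · apply h1
      rw [hB.deg]; simp
    · have h2 : χ 1 = 1 := by rw [hB.deg]; simp
      obtain ⟨f, hf⟩ := Cfsg.Agent.Characters.Linear.exists_hom_of_isIrrCharacter hχ h2
      apply hB.nn
      have h3 : ∀ a b : G, a * b = b * a := by
        intro a b
        have h4 : χ (a * b * (b * a)⁻¹) = χ 1 := by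
          rw [h2]
          have h5 : ∀ g, χ g = f g := fun g => congrFun hf g
          rw [h5, map_mul, map_inv, map_mul, map_mul, mul_comm (f b) (f a), mul_inv_cancel]
          rfl
        exact mul_inv_eq_one.mp (hB.faith _ h4)
      refine ⟨fun x hx g => ?_⟩
      rw [h3 g x, mul_inv_cancel_right]
      exact hx
  · exact h

/-- Nonprincipal irreducible characters of a minimal counterexample are not trivial on `P`. -/
theorem ne_on_P (hB : Bad P χ d) (hM : Min.{u} p (Nat.card G)) {η : G → ℂ}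
    (hη : IsIrrCharacter G η) (hne : η ≠ 1) : ∃ x ∈ (P : Subgroup G), η x ≠ η 1 := by
  classical
  have := Fintype.ofFinite G
  by_contra hcon
  push Not at hcon
  let K : Subgroup G :=
    { carrier := {g | ∀ n, η (g * n) = η n}
      one_mem' := fun n => by rw [one_mul]
      mul_mem' := fun {a b} ha hb n => by rw [mul_assoc, ha, hb]
      inv_mem' := fun {a} ha n => by
        have := ha (a⁻¹ * n)
        rw [mul_inv_cancel_left] at this
        exact this.symm }
  have hcl := isCharacter_isClassFunction (isIrr_isCharacter hη)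
  have hK : K.Normal := by
    refine ⟨fun a ha g n => ?_⟩
    have h1 : η (g * a * g⁻¹ * n) = η (g⁻¹ * (g * a * g⁻¹ * n) * g) := by
      have := hcl (g * a * g⁻¹ * n) g⁻¹
      rw [← this, inv_inv]
    rw [h1]
    have h2 : g⁻¹ * (g * a * g⁻¹ * n) * g = a * (g⁻¹ * n * g) := by group
    rw [h2, ha]
    have := hcl n g⁻¹
    rw [← this, inv_inv]
  have h1 : normalClosure ((P : Subgroup G) : Set G) ≤ K := by
    refine normalClosure_le_normal ?_
    intro x hx n
    exact apply_mul_of_ker (isIrr_isCharacter hη) (hcon x hx) n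
  rw [hB.normalClosure_eq hM] at h1
  have h2 : ∀ g, η g = η 1 := by
    intro g
    have := h1 (mem_top g) 1
    rwa [mul_one] at this
  have h3 := classInner_irr_ne hη isIrr_one hne
  rw [classInner_def] at h3
  have h4 : ∑ g : G, η g * conj ((1 : G → ℂ) g) = (Fintype.card G : ℂ) * η 1 := by
    rw [Finset.sum_congr rfl fun g _ => by rw [h2 g, Pi.one_apply, map_one, mul_one],
      Finset.sum_const, Finset.card_univ, nsmul_eq_mul]
  rw [h4] at h3
  have h5 : (Fintype.card G : ℂ) ≠ 0 := by exact_mod_cast Fintype.card_ne_zero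
  have h6 : η 1 ≠ 0 := isIrr_apply_one_ne_zero hη
  simp [h6] at h3

theorem cyclic_false (hB : Bad P χ d) (hM : Min.{u} p (Nat.card G)) (hχ : IsIrrCharacter G χ)
    (hcyc : IsCyclic (P : Subgroup G)) : False := by
  classical
  have := Fintype.ofFinite G
  have hp : p.Prime := Fact.out
  set H := normalizer ((P : Subgroup G) : Set G) with hH
  have hPH : (P : Subgroup G) ≤ H := le_normalizer
  have hcomm : ∀ y ∈ (P : Subgroup G), ∀ z ∈ (P : Subgroup G), y * z = z * y := by
    intro y hy z hz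
    have := hcyc.commGroup.mul_comm (⟨y, hy⟩ : (P : Subgroup G)) ⟨z, hz⟩
    exact congrArg Subtype.val this
  have hnP : ((P : Subgroup G).subgroupOf H).Normal := normal_in_normalizer
  have hnC : ((centralizer ((P : Subgroup G) : Set G)).subgroupOf H).Normal := by
    refine ⟨fun c hc g => ?_⟩
    rw [mem_subgroupOf, mem_centralizer_iff] at hc ⊢
    intro x hx
    have h1 := hc _ ((mem_normalizer_iff.mp (inv_mem g.2) x).mp hx)
    rw [inv_inv] at h1
    show x * ((g : G) * c * (g : G)⁻¹) = ((g : G) * c * (g : G)⁻¹) * x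
    calc x * ((g : G) * c * (g : G)⁻¹) = g * (((g : G)⁻¹ * x * g) * c) * (g : G)⁻¹ := by group
      _ = g * (c * ((g : G)⁻¹ * x * g)) * (g : G)⁻¹ := by rw [h1]
      _ = _ := by group
  obtain ⟨k, S⟩ := exists_setup (p := p) hnP hnC
    (fun x hx => by
      rw [mem_subgroupOf] at hx ⊢
      rw [mem_centralizer_iff]
      exact fun y hy => hcomm y hy _ hx)
    (fun x hx c hc => by
      rw [mem_subgroupOf] at hx hc
      exact Subtype.ext (mem_centralizer_iff.mp hc _ hx))
    (fun x hx hx1 n hn => by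
      rw [mem_subgroupOf] at hx ⊢
      exact mem_centralizer_of_commute hcyc hx (fun h => hx1 (Subtype.ext h)) n.2
        (congrArg Subtype.val hn))
    (P.isPGroup'.comap_subtype)
    (by
      have := (P.subtype hPH : Sylow p H).not_dvd_index
      rwa [Sylow.coe_subtype] at this)
  have hlt := LeonG.card_lt (k := k) hp.ne_one H S ?_ hχ (isIrr_norm hB hχ) hB.deg (two_le hB hχ)
    ?_ ?_
  · have hle := hB.le
    have hc : Nat.card ((P : Subgroup G).subgroupOf H) = Nat.card (P : Subgroup G) :=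
      Nat.card_congr (subgroupOfEquivOfLe hPH).toEquiv
    rw [hc] at hlt
    omega
  · intro h hph g hg
    obtain ⟨j, hj⟩ := hph
    have hj0 : j ≠ 0 := by
      rintro rfl
      rw [mul_zero] at hj
      exact (orderOf_pos h).ne' hj
    have ho : orderOf (h ^ j) = p := by
      rw [orderOf_pow_of_dvd hj0 ⟨p, by rw [hj, mul_comm]⟩, hj, Nat.mul_div_cancel _
        (Nat.pos_of_ne_zero hj0)]
    have hmem : ((h ^ j : H) : G) ∈ (P : Subgroup G) := by
      refine Bad.mem_of_pgroup P ⟨1, ?_⟩ (h ^ j).2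
      rw [Subgroup.orderOf_coe, ho, pow_one]
    have hne : ((h ^ j : H) : G) ≠ 1 := by
      intro h0
      have : h ^ j = 1 := Subtype.ext h0
      rw [this, orderOf_one] at ho
      exact hp.one_lt.ne ho
    refine hB.mem_normalizer hmem hne ?_
    have h1 : g⁻¹ * ((h ^ j : H) : G) * g = (g⁻¹ * h * g) ^ j := by
      have := conj_pow (i := j) (a := g⁻¹) (b := (h : G))
      rw [inv_inv] at this
      rw [this]
      rfl
    rw [h1]
    exact Subgroup.pow_mem _ hg j
  · obtain ⟨x, hx, hx1⟩ := (P : Subgroup G).bot_or_exists_ne_one.resolve_left hB.ne_bot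
    exact ⟨⟨x, hPH hx⟩, hx, fun h => hx1 (hB.faith x h)⟩
  · intro η hη hne
    obtain ⟨x, hx, h⟩ := ne_on_P hB hM hη hne
    exact ⟨⟨x, hPH hx⟩, hx, h⟩

/-- The subgroup `K ∩ P` is not cyclic. -/
theorem not_cyclic (hB : Bad P χ d) (hM : Min.{u} p (Nat.card G)) (hχ : IsIrrCharacter G χ)
    {K : Subgroup G} {S : Subgroup (G ⧸ center G)} (hS : Str P K S) :
    ¬ IsCyclic (K ⊓ (P : Subgroup G) : Subgroup G) := by
  intro hcyc
  have h1 := eq_top_of_cyclic hB hM hχ hS hcyc
  rw [h1, top_inf_eq] at hcyc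
  exact cyclic_false hB hM hχ hcyc

end Cfsg.Agent.H665.LeonX
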