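import Mathlib
import Cfsg.Agent.H665.LeonX
import Cfsg.Agent.H665.TIC
import Cfsg.Agent.H666.Link
import Cfsg.Agent.H816.OutEmb
import Cfsg.Agent.H912.Bd4

/-!
# Minimal counterexamples to Leonard's conjecture: the projective representation of the simple group
-/

set_option autoImplicit false
set_option linter.style.haveILetI false
set_option linter.unusedSectionVars false
open scoped Pointwise

namespace Cfsg.Agent.H665.LeonY

open Cfsg Cfsg.Agent.Characters.Core Module Cfsg.Agent.H665.LeonA Subgroup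
open Cfsg.Agent.H665.LeonB Cfsg.Agent.H665.LeonQ Cfsg.Agent.H665.LeonS
open Cfsg.Agent.H912.Bd

universe u v

variable {G : Type u} [Group G] [Finite G] {p : ℕ} [Fact p.Prime] {P : Sylow p G} {χ : G → ℂ} {d : ℕ}

/-- A faithful complex representation in matrix form. -/
theorem exists_rep (hB : Bad P χ d) : ∃ ρ : G →* Matrix.GeneralLinearGroup (Fin d) ℂ, Function.Injective ρ := by
  obtain ⟨n, ρ, hρ⟩ := hB.char
  have hn : n = d := by
    have h1 := hB.deg
    rw [← hρ, Representation.char_one, finrank_fin_fun] at h1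
    exact_mod_cast h1
  subst hn
  refine ⟨(Matrix.GeneralLinearGroup.toLin (n := Fin n) (R := ℂ)).symm.toMonoidHom.comp ρ.asGroupHom, ?_⟩
  intro x y hxy
  have h1 : ρ.asGroupHom x = ρ.asGroupHom y :=
    (Matrix.GeneralLinearGroup.toLin (n := Fin n) (R := ℂ)).symm.injective hxy
  have h2 : ρ.asGroupHom (x * y⁻¹) = 1 := by
    rw [map_mul, map_inv, h1, mul_inv_cancel]
  have h3 : ρ (x * y⁻¹) = 1 := by
    rw [← Representation.asGroupHom_apply, h2]
    rfl
  have h4 : x * y⁻¹ = 1 := by
    apply hB.faith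
    rw [← hρ]
    show LinearMap.trace ℂ _ (ρ (x * y⁻¹)) = LinearMap.trace ℂ _ (ρ 1)
    rw [h3, show ρ 1 = 1 from map_one ρ]
  rw [← mul_inv_eq_one]
  exact h4

variable {K : Subgroup G} {S : Subgroup (G ⧸ center G)}

theorem center_le (hS : Str P K S) : center G ≤ K := by
  haveI := hS.nK
  intro z hz
  have h1 := isPGroup_quotient P hS.top
  obtain ⟨j, hj⟩ := h1 (z : G ⧸ K)
  have h2 : orderOf (z : G ⧸ K) ∣ p ^ j := orderOf_dvd_of_pow_eq_one hj
  have h3 : z ^ Nat.card (center G) = 1 := by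
    have := pow_card_eq_one' (x := (⟨z, hz⟩ : center G))
    exact congrArg Subtype.val this
  have h4 : orderOf (z : G ⧸ K) ∣ Nat.card (center G) := by
    apply orderOf_dvd_of_pow_eq_one
    rw [← QuotientGroup.mk_pow, h3]
    rfl
  have h5 := Nat.dvd_gcd h4 h2
  rw [(hS.cop.pow_right j).gcd_eq_one, Nat.dvd_one, orderOf_eq_one_iff] at h5
  exact (QuotientGroup.eq_one_iff z).mp h5

/-- The homomorphism of `K` onto `S`. -/
noncomputable def toS (hS : Str P K S) : K →* S :=
  ((QuotientGroup.mk' (center G)).comp K.subtype).codRestrict S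
    (fun x => by rw [← hS.map]; exact ⟨x, x.2, rfl⟩)

theorem toS_coe (hS : Str P K S) (x : K) : ((toS hS x : S) : G ⧸ center G) = ((x : G) : G ⧸ center G) := rfl

theorem toS_surj (hS : Str P K S) : Function.Surjective (toS hS) := by
  rintro ⟨y, hy⟩
  have hy' : y ∈ K.map (QuotientGroup.mk' (center G)) := by rw [hS.map]; exact hy
  obtain ⟨x, hx, rfl⟩ := hy'
  exact ⟨⟨x, hx⟩, rfl⟩

theorem toS_eq_one (hS : Str P K S) (x : K) : toS hS x = 1 ↔ (x : G) ∈ center G := by
  rw [← QuotientGroup.eq_one_iff, ← toS_coe hS]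
  constructor
  · intro h; rw [h]; rfl
  · intro h; exact Subtype.ext h

theorem card_ker (hS : Str P K S) : Nat.card (toS hS).ker ∣ Nat.card (center G) := by
  let f : (toS hS).ker →* center G :=
    { toFun := fun x => ⟨((x : K) : G), (toS_eq_one hS x.1).mp x.2⟩
      map_one' := rfl
      map_mul' := fun x y => rfl }
  refine Subgroup.card_dvd_of_injective f ?_
  intro x y h
  have h1 : ((x : K) : G) = ((y : K) : G) := congrArg (fun z : center G => (z : G)) h
  exact Subtype.ext (Subtype.ext h1)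

/-- The projective representation of `S`. -/
theorem pr_of (hB : Bad P χ d) (hS : Str P K S) {r : ℕ} (hr : (Nat.card (center G)).Coprime r) :
    PR ℂ d r ↥S := by
  obtain ⟨ρ, hρ⟩ := exists_rep hB
  let e : Shrink.{0} K ≃* K := Shrink.mulEquiv
  refine ⟨Shrink.{0} K, inferInstance, (toS hS).comp e.toMonoidHom, (ρ.comp K.subtype).comp e.toMonoidHom, ?_, ?_, ?_, ?_⟩
  · exact (toS_surj hS).comp e.surjective
  · intro x hx y
    apply e.injective
    rw [map_mul, map_mul]
    have h1 : ((e x : K) : G) ∈ center G := (toS_eq_one hS _).mp hx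
    exact Subtype.ext (mem_center_iff.mp h1 (e y : K)).symm
  · have h1 : Nat.card ((toS hS).comp e.toMonoidHom).ker = Nat.card (toS hS).ker := by
      apply Nat.card_congr
      exact
        { toFun := fun x => ⟨e x.1, x.2⟩
          invFun := fun x => ⟨e.symm x.1, by
            rw [MonoidHom.mem_ker]
            show toS hS (e (e.symm x.1)) = 1
            rw [e.apply_symm_apply]
            exact x.2⟩
          left_inv := fun x => Subtype.ext (e.symm_apply_apply _)
          right_inv := fun x => Subtype.ext (e.apply_symm_apply _) }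
    rw [h1]
    exact Nat.Coprime.coprime_dvd_left (card_ker hS) hr
  · intro x hx
    rw [MonoidHom.mem_ker] at hx ⊢
    have h1 : ((e x : K) : G) = 1 := hρ (by rw [map_one]; exact hx)
    have h2 : e x = 1 := Subtype.ext h1
    show toS hS (e x) = 1
    rw [h2, map_one]

theorem ti_S (hS : Str P K S) : Cfsg.Agent.H666.TI.IsTI p ↥S := by
  obtain ⟨Q⟩ : Nonempty (Sylow p S) := inferInstance
  exact Cfsg.Agent.H666.Link.isTI_of_conj Q (hS.syl Q).2

/-- The Sylow subgroups of `S` are not cyclic. -/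
theorem not_cyclic_S (hS : Str P K S) (hnc : ¬ IsCyclic (K ⊓ (P : Subgroup G) : Subgroup G)) (Q : Sylow p S) :
    ¬ IsCyclic (Q : Subgroup S) := by
  intro hQ
  apply hnc
  -- the image of `K ⊓ P`
  let D : Subgroup K := (P : Subgroup G).subgroupOf K
  have hD : IsPGroup p D := P.isPGroup'.comap_subtype
  have hDm : IsPGroup p (D.map (toS hS)) := hD.map _
  obtain ⟨Q', hQ'⟩ := hDm.exists_le_sylow
  have e : (Q : Subgroup S) ≃* (Q' : Subgroup S) := Sylow.equiv Q Q'
  have hc' : IsCyclic (Q' : Subgroup S) := isCyclic_of_surjective e e.surjective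
  -- an injective homomorphism
  let f : (K ⊓ (P : Subgroup G) : Subgroup G) →* (Q' : Subgroup S) :=
    { toFun := fun x => ⟨toS hS ⟨x.1, x.2.1⟩, hQ' ⟨⟨x.1, x.2.1⟩, x.2.2, rfl⟩⟩
      map_one' := Subtype.ext (map_one (toS hS))
      map_mul' := fun x y => Subtype.ext (map_mul (toS hS) ⟨x.1, x.2.1⟩ ⟨y.1, y.2.1⟩) }
  refine isCyclic_of_injective f ?_
  intro x y hxy
  have h1 : toS hS ⟨x.1, x.2.1⟩ = toS hS ⟨y.1, y.2.1⟩ := congrArg Subtype.val hxy
  have h2 : ((x.1 : G) : G ⧸ center G) = ((y.1 : G) : G ⧸ center G) := congrArg Subtype.val h1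
  exact Subtype.ext (eq_of_inv_mul_mem le_rfl hS.cop (Bad.orderOf_mem P x.2.2) (Bad.orderOf_mem P y.2.2)
    (QuotientGroup.eq.mp h2))

/-- The orders. -/
theorem card_P (hS : Str P K S) (Q : Sylow p S) : ∃ k : ℕ, S.index = p ^ k ∧
    Nat.card (P : Subgroup G) = Nat.card (Q : Subgroup S) * p ^ k ∧ p ^ k ∣ Nat.card (Cfsg.Out ↥S) := by
  haveI := hS.nS
  have htop : S ⊔ ((quo P (center G) : Sylow p _) : Subgroup (G ⧸ center G)) = ⊤ := by
    have h3 := congrArg (Subgroup.map (QuotientGroup.mk' (center G))) hS.top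
    rw [Subgroup.map_sup, hS.map,
      Subgroup.map_top_of_surjective _ (QuotientGroup.mk'_surjective _)] at h3
    exact h3
  have h1 : IsPGroup p ((G ⧸ center G) ⧸ S) := isPGroup_quotient (quo P (center G)) htop
  obtain ⟨k, hk⟩ := IsPGroup.iff_card.mp h1
  have hidx : S.index = p ^ k := hk
  refine ⟨k, hidx, ?_, ?_⟩
  · rw [← card_quo (P := P) (K := center G) le_rfl hS.cop]
    have e1 := Sylow.card_eq_multiplicity (quo P (center G))
    have e2 := Sylow.card_eq_multiplicity Q
    have e3 : Nat.card (G ⧸ center G) = Nat.card S * p ^ k := by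
      rw [← hidx, Subgroup.card_mul_index]
    have e4 : (Nat.card (G ⧸ center G)).factorization p = (Nat.card S).factorization p + k := by
      rw [e3, Nat.factorization_mul Nat.card_pos.ne' (pow_pos (Fact.out : p.Prime).pos k).ne',
        Finsupp.add_apply, (Fact.out : p.Prime).factorization_pow, Finsupp.single_eq_same]
    have e5 : Nat.card ((quo P (center G) : Sylow p (G ⧸ center G)) : Subgroup (G ⧸ center G)) =
      p ^ (Nat.card (G ⧸ center G)).factorization p := e1
    have e6 : Nat.card (Q : Subgroup S) = p ^ (Nat.card S).factorization p := e2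
    rw [e5, e6, e4, pow_add]
  · rw [← hidx]
    refine Cfsg.Agent.H816.OutEmb.index_dvd S ?_
    rw [hS.centS]
    exact bot_le

/-- The index of the normalizer. -/
theorem index_facts (hB : Bad P χ d) (hS : Str P K S) :
    ∃ n : ℕ, n ≠ 1 ∧ n ∣ Nat.card S ∧ n.Coprime p ∧ ∃ c, n = 1 + c * Nat.card (P : Subgroup G) := by
  obtain ⟨Q⟩ : Nonempty (Sylow p S) := inferInstance
  obtain ⟨k, hk1, hk2, hk3⟩ := card_P hS Q
  let R := quo P (center G)
  have hti : Cfsg.Agent.H666.TI.IsTI p (G ⧸ center G) :=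
    Cfsg.Agent.H666.Link.isTI_of_conj R (ti_quo le_rfl hS.cop hB.ti)
  have hN : normalizer ((R : Subgroup (G ⧸ center G)) : Set (G ⧸ center G)) ≠ ⊤ := by
    intro h
    exact hB.nn (normal_of_quo (K := center G) le_rfl hS.cop (normalizer_eq_top_iff.mp h))
  have hR : Nat.card (R : Subgroup (G ⧸ center G)) = Nat.card (P : Subgroup G) :=
    card_quo (P := P) (K := center G) le_rfl hS.cop
  have hR1 : (R : Subgroup (G ⧸ center G)) ≠ ⊥ := by
    intro h
    rw [h, Subgroup.card_bot] at hR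
    exact hB.ne_bot ((Subgroup.card_eq_one).mp hR.symm)
  have hd : p ∣ Nat.card (G ⧸ center G) := by
    obtain ⟨j, hj⟩ := IsPGroup.iff_card.mp R.isPGroup'
    have hj0 : j ≠ 0 := by
      rintro rfl
      rw [pow_zero] at hj
      exact hR1 (Subgroup.card_eq_one.mp hj)
    have h1 : p ∣ Nat.card (R : Subgroup (G ⧸ center G)) := by rw [hj]; exact dvd_pow_self p hj0
    exact h1.trans (Subgroup.card_subgroup_dvd_card _)
  have hsp := Cfsg.Agent.H665.TIC.strongP hti R hd hN
  have hcop := Cfsg.Agent.H998.StrP.index_coprime hsp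
  refine ⟨_, ?_, ?_, hcop, ?_⟩
  · rw [Ne, Subgroup.index_eq_one]
    exact hN
  · have h1 : (normalizer ((R : Subgroup (G ⧸ center G)) : Set (G ⧸ center G))).index ∣ Nat.card S * p ^ k := by
      rw [← hk1, Subgroup.card_mul_index]
      exact Subgroup.index_dvd_card _
    exact (Nat.Coprime.dvd_mul_right (hcop.pow_right k)).mp h1
  · obtain ⟨c, hc⟩ := Cfsg.Agent.H998.StrP.index_mod hsp R
    exact ⟨c, by rw [hc]; congr 2⟩

/-- **The row criterion.** -/
theorem false_of_bd (hB : Bad P χ d) (hS : Str P K S) {T : Type v} [Group T] (e : Nonempty (↥S ≃* T)) {m : ℕ}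
    (hm : Bd ℂ p m T)
    (hlt : ∀ a k : ℕ, p ^ a ∣ Nat.card T → p ^ k ∣ Nat.card (Cfsg.Out T) → p ^ a * p ^ k < (m + 1) ^ 2) : False := by
  obtain ⟨Q⟩ : Nonempty (Sylow p S) := inferInstance
  obtain ⟨k, hk1, hk2, hk3⟩ := card_P hS Q
  have h1 : m ≤ d := (Bd.of_mulEquiv hm e) d (pr_of hB hS hS.cop)
  obtain ⟨e⟩ := e
  obtain ⟨a, ha⟩ := IsPGroup.iff_card.mp Q.isPGroup'
  have ha' : Nat.card (Q : Subgroup S) = p ^ a := ha
  have h2 := hlt a k (by
    rw [← ha', ← Nat.card_congr e.toEquiv]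
    exact Subgroup.card_subgroup_dvd_card _) (by
    obtain ⟨f⟩ := Cfsg.Agent.H816.OutEmb.out_congr e
    rw [← Nat.card_congr f.toEquiv]
    exact hk3)
  have h3 := hB.le
  rw [hk2, ha'] at h3
  have h4 : (m + 1) ^ 2 ≤ (d + 1) ^ 2 := Nat.pow_le_pow_left (by omega) 2
  omega

end Cfsg.Agent.H665.LeonY
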