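import Mathlib
import Cfsg.Agent.H665.LeonY
import Cfsg.Agent.H203.BdSL2
import Cfsg.Agent.H175.BdSU
import Cfsg.Agent.H203.LSSz
import Cfsg.Agent.ClassicalGeometry.PSL2Basic
import Cfsg.Agent.S0280
import Cfsg.Agent.S2602
import Cfsg.Agent.S2603
import Cfsg.Agent.S2601
import Cfsg.Agent.S1163
import Cfsg.Agent.S1069
import Cfsg.Agent.S2126
import Cfsg.Agent.S2127

/-!
# Minimal counterexamples to Leonard's conjecture: the rows of Lie type
-/

set_option autoImplicit false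
set_option linter.style.haveILetI false
set_option linter.unusedSectionVars false
open scoped Pointwise

namespace Cfsg.Agent.H665.LeonR

open Cfsg Cfsg.Agent.Characters.Core Module Cfsg.Agent.H665.LeonA Subgroup
open Cfsg.Agent.H665.LeonB Cfsg.Agent.H665.LeonQ Cfsg.Agent.H665.LeonS Cfsg.Agent.H665.LeonY
open Cfsg.Agent.H912.Bd

universe u v

theorem pow_le_of_dvd {p : ℕ} {a N Q M : ℕ} (h : p ^ a ∣ N) (hN : N ∣ Q * M) (hM : M.Coprime p)
    (hQ : 0 < Q) : p ^ a ≤ Q := by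
  have h1 := h.trans hN
  have h2 : p ^ a ∣ Q := (Nat.Coprime.dvd_of_dvd_mul_right (Nat.Coprime.pow_left a hM.symm) h1)
  exact Nat.le_of_dvd hQ h2

theorem card_of_hom {A : Type u} {B : Type v} [Group A] [Group B] (φ : A →* B) (hφ : Function.Surjective φ) :
    Nat.card A = Nat.card φ.ker * Nat.card B := by
  rw [← Subgroup.card_mul_index φ.ker, Subgroup.index_ker, MonoidHom.range_eq_top.2 hφ, Subgroup.card_top]

theorem coprime_pred {p n : ℕ} (hp : p.Prime) {q : ℕ} (hq : q = p ^ n) (hn : 1 ≤ n) : (q - 1).Coprime p := by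
  have h1 : 1 ≤ q := by rw [hq]; exact Nat.one_le_pow _ _ hp.pos
  rw [Nat.coprime_comm]
  refine (Nat.Prime.coprime_iff_not_dvd hp).2 ?_
  intro h
  have h2 : p ∣ q := by rw [hq]; exact dvd_pow_self p (by omega)
  have h3 := Nat.dvd_sub h2 h
  rw [show q - (q - 1) = 1 by omega] at h3
  exact hp.one_lt.ne' (Nat.dvd_one.1 h3)

theorem coprime_succ {p n : ℕ} (hp : p.Prime) {q : ℕ} (hq : q = p ^ n) (hn : 1 ≤ n) : (q + 1).Coprime p := by
  rw [Nat.coprime_comm]
  refine (Nat.Prime.coprime_iff_not_dvd hp).2 ?_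
  intro h
  have h2 : p ∣ q := by rw [hq]; exact dvd_pow_self p (by omega)
  have h3 := Nat.dvd_sub h h2
  rw [show q + 1 - q = 1 by omega] at h3
  exact hp.one_lt.ne' (Nat.dvd_one.1 h3)

theorem coprime_pow_succ {p n : ℕ} (hp : p.Prime) {q : ℕ} (hq : q = p ^ n) (hn : 1 ≤ n) {k : ℕ} (hk : 1 ≤ k) :
    (q ^ k + 1).Coprime p :=
  coprime_succ hp (n := n * k) (by rw [hq, pow_mul]) (Nat.mul_pos (by omega) (by omega))

theorem coprime_pow_pred {p n : ℕ} (hp : p.Prime) {q : ℕ} (hq : q = p ^ n) (hn : 1 ≤ n) {k : ℕ} (hk : 1 ≤ k) :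
    (q ^ k - 1).Coprime p :=
  coprime_pred hp (n := n * k) (by rw [hq, pow_mul]) (Nat.mul_pos (by omega) (by omega))

variable {G : Type u} [Group G] [Finite G] {p : ℕ} [hp : Fact p.Prime] {P : Sylow p G} {χ : G → ℂ} {d : ℕ}
variable {K : Subgroup G} {S : Subgroup (G ⧸ center G)}

theorem add_two_le {p n : ℕ} (hp : 3 ≤ p) (hn : 1 ≤ n) : n + 2 ≤ p ^ n := by
  induction n, hn using Nat.le_induction with
  | base => rw [pow_one]; omega
  | succ n hn ih =>
    rw [pow_succ]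
    nlinarith

theorem four_mul_le {p n : ℕ} (hp : 3 ≤ p) (hn : 2 ≤ n) : 4 * n ≤ p ^ n + 2 := by
  induction n, hn using Nat.le_induction with
  | base => nlinarith
  | succ n hn ih =>
    rw [pow_succ]
    nlinarith

theorem row_psl2 (hB : Bad P χ d) (hS : Str P K S) {F : Type v} [Field F] [Fintype F] {n : ℕ} (hn : 2 ≤ n)
    (hF : Fintype.card F = p ^ n) (e : Nonempty (↥S ≃* Matrix.ProjectiveSpecialLinearGroup (Fin 2) F)) : False := by
  haveI : CharP F p := Cfsg.Agent.H203.LS.charP_of_card hp.out hF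
  have hbd := Cfsg.Agent.H203.BdSL2.bd_of_sl2 (F := ℂ) (K := F) hp.out hF (by exact_mod_cast hp.out.ne_zero)
    (QuotientGroup.mk' (center (Matrix.SpecialLinearGroup (Fin 2) F))) (by rw [QuotientGroup.ker_mk'])
  refine false_of_bd hB hS e hbd ?_
  intro a k ha hk
  have hp2 := hp.out.two_le
  set q := p ^ n with hq
  have hq4 : 4 ≤ q := by
    calc 4 = 2 ^ 2 := by norm_num
      _ ≤ p ^ 2 := Nat.pow_le_pow_left hp2 2
      _ ≤ p ^ n := Nat.pow_le_pow_right (by omega) hn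
  have hcop1 := coprime_pow_pred hp.out hq (by omega) (k := 2) (by norm_num)
  have hcop2 := coprime_pred hp.out hq (by omega)
  -- the Sylow subgroup
  have h1 : p ^ a ≤ q := by
    refine pow_le_of_dvd ha (M := q ^ 2 - 1) ?_ hcop1 (by omega)
    rw [← hF, ← Cfsg.Agent.ClassicalGeometry.PSL2Basic.card_PSL2_gcd]
    exact dvd_mul_right _ _
  -- the outer automorphisms
  obtain ⟨φ, hφ, -, hker⟩ := Cfsg.Agent.S2602.result (F := F) (p := p) (f := n) (by omega) hF (by rw [← hq]; exact hq4)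
  have h2 : p ^ k ≤ n := by
    refine pow_le_of_dvd hk (M := Nat.gcd 2 (q - 1)) ?_ ?_ (by omega)
    · rw [card_of_hom φ hφ, hker, Nat.card_congr Multiplicative.toAdd, Nat.card_zmod, mul_comm]
    · exact Nat.Coprime.coprime_dvd_left (Nat.gcd_dvd_right _ _) hcop2
  have h3 : p ^ a * p ^ k ≤ q * n := Nat.mul_le_mul h1 h2
  refine lt_of_le_of_lt h3 ?_
  rcases hp.out.eq_two_or_odd' with h | h
  · -- p = 2
    have hg : Nat.gcd 2 (q - 1) = 1 := by
      have := hcop2.symm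
      rw [h] at this
      exact this
    rw [hg, Nat.div_one, Nat.sub_add_cancel (by omega), pow_two]
    refine Nat.mul_lt_mul_of_pos_left ?_ (by omega)
    rw [hq]
    exact Nat.lt_pow_self hp.out.one_lt
  · have h3' : 3 ≤ p := by
      obtain ⟨c, hc⟩ := h
      omega
    have h4 := four_mul_le h3' hn
    rw [← hq] at h4
    have h5 : (q - 1) / 2 ≤ (q - 1) / Nat.gcd 2 (q - 1) :=
      Nat.div_le_div_left (Nat.le_of_dvd (by norm_num) (Nat.gcd_dvd_left _ _))
        (Nat.gcd_pos_of_pos_left _ (by norm_num))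
    have hodd : Odd q := h.pow
    obtain ⟨c, hc⟩ := hodd
    have h6 : (q - 1) / 2 = c := by omega
    have h7 : (c + 1) ^ 2 ≤ ((q - 1) / Nat.gcd 2 (q - 1) + 1) ^ 2 := Nat.pow_le_pow_left (by omega) 2
    refine lt_of_lt_of_le ?_ h7
    nlinarith

theorem two_mul_le {n : ℕ} (hn : 3 ≤ n) : 2 * n + 2 ≤ 2 ^ n := by
  induction n, hn using Nat.le_induction with
  | base => norm_num
  | succ n hn ih =>
    rw [pow_succ]
    omega

theorem num_psu {q n : ℕ} (hq : 2 ≤ q) (hn : n + 2 ≤ q) : q ^ 3 * n < ((q - 1) * q ^ 1 + 1) ^ 2 := by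
  obtain ⟨m, rfl⟩ : ∃ m, q = m + 2 := ⟨q - 2, by omega⟩
  have hn' : n ≤ m := by omega
  have h1 : (m + 2) ^ 3 * n ≤ (m + 2) ^ 3 * m := Nat.mul_le_mul_left _ hn'
  refine lt_of_le_of_lt h1 ?_
  rw [show m + 2 - 1 = m + 1 by omega, pow_one]
  have : ((m + 1) * (m + 2) + 1) ^ 2 = (m + 2) ^ 3 * m + (3 * (m + 2) ^ 2 - 2 * (m + 2) + 1) := by
    have h2 : 2 * (m + 2) ≤ 3 * (m + 2) ^ 2 := by nlinarith
    zify [h2]
    ring
  rw [this]
  have h2 : 2 * (m + 2) ≤ 3 * (m + 2) ^ 2 := by nlinarith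
  omega

theorem pow_le_mul {p k m c : ℕ} (h : p ^ k ∣ c * m) (hc : c.Coprime p) (hm : 0 < m) :
    p ^ k ≤ m := by
  refine pow_le_of_dvd h (M := c) ?_ hc hm
  rw [mul_comm]

theorem row_psu3 (hB : Bad P χ d) (hS : Str P K S) {F : Type v} [Field F] [Fintype F] {n : ℕ} (hn : 1 ≤ n)
    (hF : Fintype.card F = (p ^ n) ^ 2) (e : Nonempty (↥S ≃* Cfsg.PSU 3 F (p ^ n))) (h2 : p ^ n ≠ 2) : False := by
  haveI : CharP F p := Cfsg.Agent.H203.LS.charP_of_card hp.out (n := n * 2) (by rw [hF, pow_mul])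
  have hbd := Cfsg.Agent.H175.BdSU.bd_psu (F := ℂ) hp.out hF le_rfl (by exact_mod_cast hp.out.ne_zero)
    (MulEquiv.refl (Cfsg.PSU 3 F (p ^ n)))
  have hp2 := hp.out.two_le
  have hcard := Cfsg.Agent.S0280.result hF 3 (by norm_num)
  obtain ⟨φ, hφ, -, hker⟩ := Cfsg.Agent.S2603.result (K := F) (p := p) (f := n) (q := p ^ n) (n := 3) hn rfl hF le_rfl
    (fun h => h2 h.2)
  have hout := card_of_hom φ hφ
  rw [hker, Nat.card_congr Multiplicative.toAdd, Nat.card_zmod] at hout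
  clear hker hφ φ
  obtain ⟨q, hq⟩ : ∃ q, q = p ^ n := ⟨_, rfl⟩
  rw [← hq] at hF hbd h2 hcard hout e
  have hq2 : 2 ≤ q := by
    rw [hq]
    exact hp2.trans (Nat.le_self_pow (by omega) p)
  have hcop1 := coprime_pow_pred hp.out hq hn (k := 2) (by norm_num)
  have hcop2 := coprime_succ hp.out hq hn
  have hcop3 := coprime_pow_succ hp.out hq hn (k := 3) (by norm_num)
  have hgc : (Nat.gcd 3 (q + 1)).Coprime p := Nat.Coprime.coprime_dvd_left (Nat.gcd_dvd_right _ _) hcop2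
  have hcard' : Nat.gcd 3 (q + 1) * ((q + 1) * Nat.card (Cfsg.PSU 3 F q)) =
      q ^ 3 * ((q + 1) * (q ^ 2 - 1) * (q ^ 3 + 1)) := by
    rw [hcard]
    simp [Finset.prod_range_succ]
  have hdv : Nat.card (Cfsg.PSU 3 F q) ∣ q ^ 3 * ((q + 1) * (q ^ 2 - 1) * (q ^ 3 + 1)) := by
    rw [← hcard']
    exact ((dvd_mul_left _ _).trans (dvd_mul_left _ _))
  have ha' : ∀ a, p ^ a ∣ Nat.card (Cfsg.PSU 3 F q) → p ^ a ≤ q ^ 3 := fun a ha =>
    pow_le_of_dvd ha hdv (Nat.Coprime.mul_left (Nat.Coprime.mul_left hcop2 hcop1) hcop3)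
      (pow_pos (by omega) 3)
  rcases hp.out.eq_two_or_odd' with h | h
  · -- `p = 2`
    subst h
    have hn2 : n ≠ 1 := by
      rintro rfl
      exact h2 (by rw [hq, pow_one])
    have hk' : ∀ k, 2 ^ k ∣ Nat.card (Cfsg.Out (Cfsg.PSU 3 F q)) → 2 ^ k ≤ 2 * n := fun k hk =>
      pow_le_mul (by rw [← hout]; exact hk) hgc (by omega)
    rcases Nat.lt_or_ge 2 n with hn3 | hn3
    · refine false_of_bd hB hS e hbd ?_
      intro a k ha hk
      refine lt_of_le_of_lt (Nat.mul_le_mul (ha' a ha) (hk' k hk)) (num_psu hq2 ?_)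
      rw [hq]
      exact two_mul_le hn3
    · have hn' : n = 2 := by omega
      subst hn'
      have hq4 : q = 4 := by rw [hq]; norm_num
      subst hq4
      obtain ⟨Q⟩ : Nonempty (Sylow 2 S) := inferInstance
      obtain ⟨k, hk1, hk2, hk3⟩ := card_P hS Q
      have h1 : 12 ≤ d := (Bd.of_mulEquiv hbd e) d (pr_of hB hS hS.cop)
      obtain ⟨e⟩ := e
      obtain ⟨a, ha⟩ := IsPGroup.iff_card.mp Q.isPGroup'
      have haQ : Nat.card (Q : Subgroup S) = 2 ^ a := ha
      have hcS : Nat.card S = 62400 := by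
        rw [Nat.card_congr e.toEquiv]
        norm_num at hcard'
        omega
      have h3 : 2 ^ a ≤ 2 ^ 6 := by
        have := ha' a (by
          rw [← haQ, ← Nat.card_congr e.toEquiv]
          exact Subgroup.card_subgroup_dvd_card _)
        omega
      have h4 : 2 ^ k ≤ 2 ^ 2 := by
        have := hk' k (by
          obtain ⟨f⟩ := Cfsg.Agent.H816.OutEmb.out_congr e
          rw [← Nat.card_congr f.toEquiv]
          exact hk3)
        omega
      have h5 : a ≤ 6 := (Nat.pow_le_pow_iff_right (by norm_num)).1 h3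
      have h6 : k ≤ 2 := (Nat.pow_le_pow_iff_right (by norm_num)).1 h4
      have h7 := hB.le
      have h8 : 13 ^ 2 ≤ (d + 1) ^ 2 := Nat.pow_le_pow_left (by omega) 2
      have h9 : Nat.card (P : Subgroup G) = 256 := by
        rw [hk2, haQ] at h7 ⊢
        rw [← pow_add] at h7 ⊢
        have h10 : a + k = 8 := by
          by_contra hne
          have h11 : a + k ≤ 7 := by omega
          have h12 : 2 ^ (a + k) ≤ 2 ^ 7 := Nat.pow_le_pow_right (by norm_num) h11
          norm_num at h8 h12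
          omega
        rw [h10]; norm_num
      obtain ⟨m, hm1, hm2, hm3, c, hc⟩ := index_facts hB hS
      rw [h9] at hc
      rw [hcS] at hm2
      have h10 : m ∣ 975 := by
        have h11 : m ∣ 975 * 2 ^ 6 := by
          rw [show 975 * 2 ^ 6 = 62400 by norm_num]
          exact hm2
        exact Nat.Coprime.dvd_of_dvd_mul_right (hm3.pow_right 6) h11
      have h11 := Nat.le_of_dvd (by norm_num) h10
      have hc3 : c ≤ 3 := by omega
      interval_cases c
      · exact hm1 (by omega)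
      · subst hc; revert h10; decide
      · subst hc; revert h10; decide
      · subst hc; revert h10; decide
  · have h3 : 3 ≤ p := by
      obtain ⟨c, hc⟩ := h
      omega
    refine false_of_bd hB hS e hbd ?_
    intro a k ha hk
    have hk' : p ^ k ≤ n := by
      refine pow_le_mul (c := Nat.gcd 3 (q + 1) * 2) (by rw [mul_assoc, ← hout]; exact hk) ?_ (by omega)
      refine Nat.Coprime.mul_left hgc ?_
      rw [Nat.coprime_two_left]
      exact h
    refine lt_of_le_of_lt (Nat.mul_le_mul (ha' a ha) hk') (num_psu hq2 ?_)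
    rw [hq]
    exact add_two_le h3 hn

/-- Suzuki groups, from the bound for the degrees. -/
theorem row_sz (hB : Bad P χ d) (hS : Str P K S) (h2 : p = 2) (h : Lie.IsoSuzuki ↥S)
    (hbd : ∀ {F : Type} [Field F] [Fintype F] {m : ℕ}, 1 ≤ m → Fintype.card F = 2 ^ (2 * m + 1) →
      Bd ℂ 2 (2 * (Fintype.card F - 1)) ↥(Cfsg.Lie.Sz F (2 ^ (m + 1)))) : False := by
  subst h2
  obtain ⟨F, _, _, m, hm, hF, he⟩ := h
  refine false_of_bd hB hS he (hbd hm hF) ?_
  intro a k ha hk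
  rw [(Cfsg.Agent.S1163.result hm hF).1] at ha
  rw [Cfsg.Agent.S2126.result hm hF] at hk
  rw [hF]
  obtain ⟨q, hq⟩ : ∃ q, q = 2 ^ (2 * m + 1) := ⟨_, rfl⟩
  rw [← hq] at ha ⊢
  have hq2 : 2 ≤ q := by
    rw [hq]
    exact Nat.le_self_pow (by omega) 2
  have h1 : 2 ^ a ≤ q ^ 2 := by
    refine pow_le_of_dvd ha (M := (q - 1) * (q ^ 2 + 1)) (by rw [mul_assoc]) ?_ (pow_pos (by omega) 2)
    exact Nat.Coprime.mul_left (coprime_pred hp.out hq (by omega)) (coprime_pow_succ hp.out hq (by omega) (by norm_num))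
  have h3 : 2 ^ k ≤ 1 := by
    refine pow_le_mul (c := 2 * m + 1) (by rw [mul_one]; exact hk) ?_ one_pos
    rw [Nat.coprime_two_right]
    exact ⟨m, rfl⟩
  refine lt_of_le_of_lt (Nat.mul_le_mul h1 h3) ?_
  rw [mul_one]
  exact Nat.pow_lt_pow_left (by omega) (by norm_num)

/-- Ree groups, from the bound for the degrees. -/
theorem row_ree (hB : Bad P χ d) (hS : Str P K S) (h3 : p = 3) (h : Lie.IsoRee ↥S)
    (hbd : ∀ {F : Type} [Field F] [Fintype F] {m : ℕ}, 1 ≤ m → Fintype.card F = 3 ^ (2 * m + 1) →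
      Bd ℂ 3 (Fintype.card F * (Fintype.card F - 1)) ↥(Cfsg.Lie.twistedG2 F (3 ^ m))) : False := by
  subst h3
  obtain ⟨F, _, _, m, hm, hF, he⟩ := h
  refine false_of_bd hB hS he (hbd hm hF) ?_
  intro a k ha hk
  rw [Cfsg.Agent.S1069.result hF] at ha
  rw [Cfsg.Agent.S2127.result hm hF] at hk
  rw [hF]
  obtain ⟨q, hq⟩ : ∃ q, q = 3 ^ (2 * m + 1) := ⟨_, rfl⟩
  rw [← hq] at ha ⊢
  have hq2 : 2 ≤ q := by
    rw [hq]
    exact le_trans (by norm_num) (Nat.le_self_pow (n := 2 * m + 1) (by omega) 3)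
  have h1 : 3 ^ a ≤ q ^ 3 := by
    refine pow_le_of_dvd ha (M := (q - 1) * (q ^ 3 + 1)) (by rw [mul_assoc]) ?_ (pow_pos (by omega) 3)
    exact Nat.Coprime.mul_left (coprime_pred hp.out hq (by omega)) (coprime_pow_succ hp.out hq (by omega) (by norm_num))
  have h3 : 3 ^ k ≤ 2 * m + 1 := Nat.le_of_dvd (by omega) hk
  refine lt_of_le_of_lt (Nat.mul_le_mul h1 h3) ?_
  have h4 := num_psu (n := 2 * m + 1) hq2 (by rw [hq]; exact add_two_le le_rfl (by omega))
  rw [pow_one, mul_comm (q - 1) q] at h4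
  exact h4

/-- `L₃(4)`, from the bound for the degrees. -/
theorem row_psl34 (hB : Bad P χ d) (hS : Str P K S) (h3 : p = 3) {F : Type v} [Field F] [Fintype F]
    (hF : Fintype.card F = 4) (e : Nonempty (↥S ≃* Matrix.ProjectiveSpecialLinearGroup (Fin 3) F))
    (hc : Nat.card (Matrix.ProjectiveSpecialLinearGroup (Fin 3) F) = 20160)
    (hbd : Bd ℂ 3 5 (Matrix.ProjectiveSpecialLinearGroup (Fin 3) F)) : False := by
  subst h3
  refine false_of_bd hB hS e hbd ?_
  intro a k ha hk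
  rw [hc] at ha
  haveI : Fact (Nat.Prime 2) := ⟨Nat.prime_two⟩
  obtain ⟨φ, hφ, -, hker⟩ := Cfsg.Agent.S2601.result (F := F) (p := 2) (f := 2) (n := 3) (by norm_num)
    (by rw [hF]; norm_num) le_rfl
  have hout := card_of_hom φ hφ
  rw [hker, Nat.card_congr Multiplicative.toAdd, Nat.card_prod, Nat.card_zmod] at hout
  rw [hout] at hk
  have h1 : 3 ^ a ≤ 9 := by
    refine pow_le_of_dvd ha (M := 2240) (by norm_num) (by norm_num) (by norm_num)
  have h2 : 3 ^ k ≤ 3 := by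
    refine pow_le_of_dvd hk (M := 4) (by norm_num) (by norm_num) (by norm_num)
  exact lt_of_le_of_lt (Nat.mul_le_mul h1 h2) (by norm_num)

end Cfsg.Agent.H665.LeonR
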