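import Mathlib
import Cfsg.Agent.H665.LeonR
import Cfsg.Agent.H417.DegQuasi
import Cfsg.Agent.H755.Leo.JFour
import Cfsg.Agent.H921.SporM24
import Cfsg.Agent.H921.SporTits
import Cfsg.Agent.H489.DegCo
import Cfsg.Agent.H867.TitsOut
import Cfsg.Agent.Cit.TypeDet.Mathieu
import Cfsg.Agent.Schreier.McLaughlin
import Cfsg.Agent.S1074
import Cfsg.Agent.S1703
import Cfsg.Agent.S2042
import Cfsg.Agent.S2060
import Cfsg.Agent.S2068
import Cfsg.Agent.S2073

/-!
# Minimal counterexamples to Leonard's conjecture: `J₄`, `M₁₁`, `McL` and the Tits group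
-/

set_option autoImplicit false
set_option linter.style.haveILetI false
set_option linter.unusedSectionVars false
open scoped Pointwise

namespace Cfsg.Agent.H665.LeonJ

open Cfsg Cfsg.Agent.Characters.Core Module Cfsg.Agent.H665.LeonA Subgroup
open Cfsg.Agent.H665.LeonB Cfsg.Agent.H665.LeonQ Cfsg.Agent.H665.LeonS Cfsg.Agent.H665.LeonY
open Cfsg.Agent.H665.LeonR
open Cfsg.Agent.H912.Bd

universe u v

variable {G : Type u} [Group G] [Finite G] {p : ℕ} [hp : Fact p.Prime] {P : Sylow p G} {χ : G → ℂ} {d : ℕ}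
variable {K : Subgroup G} {S : Subgroup (G ⧸ center G)}

theorem row_j4 (hB : Bad P χ d) (hχ : IsIrrCharacter G χ) (hS : Str P K S) (h11 : p = 11)
    (h : Spor.IsoJ4 ↥S) : False := by
  subst h11
  obtain ⟨Q⟩ : Nonempty (Sylow 11 S) := inferInstance
  obtain ⟨k, hk1, hk2, hk3⟩ := card_P hS Q
  obtain ⟨e⟩ := h
  have hcS : Nat.card ↥S = 86775571046077562880 := by
    rw [Nat.card_congr e.toEquiv]
    exact Cfsg.Agent.S1703.result.2
  obtain ⟨f⟩ := Cfsg.Agent.H816.OutEmb.out_congr e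
  have hk4 : 11 ^ k = 1 := by
    rw [Nat.card_congr f.toEquiv, Cfsg.Agent.S2068.result] at hk3
    exact Nat.dvd_one.1 hk3
  have hST : S = ⊤ := by
    rw [← Subgroup.index_eq_one, hk1, hk4]
  have hKT : K = ⊤ := by
    have h1 : (K.map (QuotientGroup.mk' (center G))).comap (QuotientGroup.mk' (center G)) = K := by
      rw [Subgroup.comap_map_eq, QuotientGroup.ker_mk']
      exact sup_eq_left.2 (center_le hS)
    rw [← h1, hS.map, hST, Subgroup.comap_top]
  have hcom : commutator G = ⊤ := by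
    have h1 := hS.perf
    rw [hKT] at h1
    exact h1
  have e1 : G ⧸ center G ≃* Spor.J4 :=
    ((Subgroup.topEquiv (G := G ⧸ center G)).symm.trans (MulEquiv.subgroupCongr hST.symm)).trans e
  have h2 : Spor.IsoJ4 G := Cfsg.Agent.H417.DegQuasi.equiv_of_multiplier Cfsg.Agent.S2042.result hcom e1
  have h3 := Cfsg.Agent.H755.Leo.j4 h2 hχ hB.faith hB.deg
  obtain ⟨a, ha⟩ := IsPGroup.iff_card.mp Q.isPGroup'
  have haQ : Nat.card (Q : Subgroup S) = 11 ^ a := ha
  have h4 : 11 ^ a ≤ 11 ^ 3 := by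
    refine pow_le_of_dvd (N := Nat.card S) (M := 65195770883604480) ?_ ?_ ?_ (by norm_num)
    · rw [← haQ]
      exact Subgroup.card_subgroup_dvd_card _
    · rw [hcS]
      norm_num
    · norm_num
  have h5 := hB.le
  have h6 : 37 ^ 2 ≤ (d + 1) ^ 2 := Nat.pow_le_pow_left (by omega) 2
  rw [hk2, haQ, hk4, mul_one] at h5
  norm_num at h4 h6
  omega

theorem row_m11 (hB : Bad P χ d) (hS : Str P K S) (h3 : p = 3) (h : Spor.IsoM11 ↥S) : False := by
  subst h3
  refine false_of_bd hB hS h ((Cfsg.Agent.H921.Spor.M24.M11_three).bd (F := ℂ) (by norm_num) (by norm_num)) ?_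
  intro a k ha hk
  obtain ⟨e⟩ := h
  have hc : Nat.card Spor.M11 = 7920 := Cfsg.Agent.Cit.TypeDet.card_M11'
  rw [hc] at ha
  rw [Cfsg.Agent.S2060.result] at hk
  have h1 : 3 ^ a ≤ 9 := pow_le_of_dvd ha (M := 880) (by norm_num) (by norm_num) (by norm_num)
  have h2 : 3 ^ k ≤ 1 := Nat.le_of_dvd one_pos hk
  exact lt_of_le_of_lt (Nat.mul_le_mul h1 h2) (by norm_num)

theorem row_mcl (hB : Bad P χ d) (hS : Str P K S) (h5 : p = 5) (h : Spor.IsoMcL ↥S) : False := by
  subst h5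
  refine false_of_bd hB hS h (Cfsg.Agent.H489.Deg.Co.mcl_five (F := ℂ) (by norm_num)) ?_
  intro a k ha hk
  obtain ⟨e⟩ := h
  have hc : Nat.card Spor.McL = 898128000 := Cfsg.Agent.Schreier.McLaughlin.card_mcl
  rw [hc] at ha
  rw [Cfsg.Agent.S2073.result] at hk
  have h1 : 5 ^ a ≤ 125 := pow_le_of_dvd ha (M := 7185024) (by norm_num) (by norm_num) (by norm_num)
  have h2 : 5 ^ k ≤ 2 := Nat.le_of_dvd two_pos hk
  exact lt_of_le_of_lt (Nat.mul_le_mul h1 h2) (by norm_num)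

theorem row_tits (hB : Bad P χ d) (hS : Str P K S) (h5 : p = 5) (h : Lie.IsoTits ↥S) : False := by
  subst h5
  have hcS : Nat.card ↥S = 17971200 := by
    obtain ⟨e⟩ := h
    exact ((Nat.card_congr e.toEquiv).trans Cfsg.Agent.S1074.result.2.2.2).trans (by norm_num)
  have ho := Cfsg.Agent.H867.TitsOut.card_out_le h
  have hbd : Bd ℂ 5 24 ↥S := by
    obtain ⟨e⟩ := h
    exact (Cfsg.Agent.H921.Spor.Tits.Tits_five.of_equiv' e).bd (by norm_num) (by norm_num)
  refine false_of_bd hB hS ⟨MulEquiv.refl ↥S⟩ hbd ?_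
  intro a k ha hk
  rw [hcS] at ha
  have hfin : Finite (MulAut ↥S) := Finite.of_injective (fun f : MulAut ↥S => (f : ↥S → ↥S)) DFunLike.coe_injective
  have h1 : 5 ^ a ≤ 25 := pow_le_of_dvd ha (M := 718848) (by norm_num) (by norm_num) (by norm_num)
  have h2 : 5 ^ k ≤ 2 := (Nat.le_of_dvd Nat.card_pos hk).trans ho
  exact lt_of_le_of_lt (Nat.mul_le_mul h1 h2) (by norm_num)

end Cfsg.Agent.H665.LeonJ
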