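import Mathlib
import Cfsg.Agent.H665.LeonR
import Cfsg.Agent.H665.LeonJ
import Cfsg.Agent.H665.TIDef
import Cfsg.Agent.H296.Bd.Sz
import Cfsg.Agent.H212.Leon.BdRee
import Cfsg.Agent.H755.Leo.PSLFour
import Cfsg.Agent.S0243
import Cfsg.Agent.S0282

/-!
# Leonard's conjecture on trivial-intersection Sylow subgroups
-/

set_option autoImplicit false
set_option linter.style.haveILetI false
set_option linter.unusedSectionVars false
open scoped Pointwise

namespace Cfsg.Agent.H665.LeonZ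

open Cfsg Cfsg.Agent.Characters.Core Module Cfsg.Agent.H665.LeonA Subgroup
open Cfsg.Agent.H665.LeonB Cfsg.Agent.H665.LeonQ Cfsg.Agent.H665.LeonS Cfsg.Agent.H665.LeonY
open Cfsg.Agent.H665.LeonR Cfsg.Agent.H665.LeonJ Cfsg.Agent.H665.TIList
open Cfsg.Agent.H912.Bd

universe u

variable {G : Type u} [Group G] [Finite G] {p : ℕ} [hp : Fact p.Prime] {P : Sylow p G} {χ : G → ℂ} {d : ℕ}

/-- the order of `L₃(4)` -/
theorem card_psl34 {F : Type} [Field F] [Fintype F] (hF : Fintype.card F = 4) :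
    Nat.card (Matrix.ProjectiveSpecialLinearGroup (Fin 3) F) = 20160 := by
  have h := Cfsg.Agent.S0243.result (F := F) hF 3 (by norm_num)
  rw [Fin.prod_univ_three] at h
  norm_num at h
  omega

theorem solv_psu {F : Type} [Field F] [Fintype F] {q : ℕ} (hF : Fintype.card F = q ^ 2) (hq : q = 2) :
    Group.IsSolvable (Cfsg.PSU 3 F q) := by
  subst hq
  exact (Cfsg.Agent.S0282.result (F := F) (by rw [hF]; norm_num)).2

/-- There is no counterexample. -/
theorem no_bad (p : ℕ) [Fact p.Prime]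
    (hL : ∀ (T : Type u) [Group T] [Finite T] [IsSimpleGroup T], ¬ IsMulCommutative T →
      Cfsg.Agent.H666.TI.IsTI p T → ∀ Q : Sylow p T, ¬ IsCyclic (Q : Subgroup T) → ConclI p T) (n : ℕ) : ∀ (H : Type u) [Group H] [Finite H], Nat.card H = n →
    ∀ (Q : Sylow p H) (χ : H → ℂ) (d : ℕ), ¬ Bad Q χ d := by
  induction n using Nat.strong_induction_on with
  | _ n ih =>
  intro G _ _ hn P χ d hB₀
  have hM : Min.{u} p (Nat.card G) := fun H _ _ hlt Q χ d => ih _ (hn ▸ hlt) H rfl Q χ d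
  obtain ⟨η, e, hη, hB⟩ := exists_irr hB₀ hM
  obtain ⟨K, S, hS⟩ := exists_str hB hM
  have hnc := Cfsg.Agent.H665.LeonX.not_cyclic hB hM hη hS
  obtain ⟨Q⟩ : Nonempty (Sylow p S) := inferInstance
  have hnQ := not_cyclic_S hS hnc Q
  haveI := hS.simple
  rcases hL _ hS.ncomm (ti_S hS) Q hnQ with h | h | h | h | h | h
  · obtain ⟨F, _, _, n, hn2, hF, e⟩ := h
    exact row_psl2 hB hS hn2 hF e
  · obtain ⟨F, _, _, n, hn1, hF, e⟩ := h
    by_cases h2 : p ^ n = 2
    · obtain ⟨e⟩ := e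
      have h3 := solv_psu hF h2
      have h4 : Group.IsSolvable ↥S := Group.isSolvable_of_surjective (f := e.symm.toMonoidHom) e.symm.surjective
      apply hS.ncomm
      exact ⟨⟨fun a b => IsSimpleGroup.comm_iff_isSolvable.mpr h4 a b⟩⟩
    · exact row_psu3 hB hS hn1 hF e h2
  · exact row_sz hB hS h.1 h.2 (fun hm hF => Cfsg.Agent.H296.Bd.bd_sz hm hF)
  · obtain ⟨h3, h | ⟨F, _, _, hF, e⟩ | h⟩ := h
    · exact row_ree hB hS h3 h (fun hm hF => Cfsg.Agent.H212.Leon.bd_ree hm hF)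
    · exact row_psl34 hB hS h3 hF e (card_psl34 hF) (Cfsg.Agent.H755.Leo.bd_psl34 hF)
    · exact row_m11 hB hS h3 h
  · obtain ⟨h5, h | h⟩ := h
    · exact row_tits hB hS h5 h
    · exact row_mcl hB hS h5 h
  · exact row_j4 hB hη hS h.1 h.2

theorem main' {G : Type u} [Group G] [Finite G] (p : ℕ) [Fact p.Prime]
    (hL : ∀ (T : Type u) [Group T] [Finite T] [IsSimpleGroup T], ¬ IsMulCommutative T →
      Cfsg.Agent.H666.TI.IsTI p T → ∀ Q : Sylow p T, ¬ IsCyclic (Q : Subgroup T) → ConclI p T) (P : Sylow p G)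
    (hTI : ∀ g : G, g ∉ Subgroup.normalizer ((P : Subgroup G) : Set G) →
      (P : Subgroup G) ⊓ (MulAut.conj g • (P : Subgroup G)) = ⊥) (χ : G → ℂ) (hχ : Cfsg.IsCharacter G χ)
    (hfaith : ∀ g : G, χ g = χ 1 → g = 1)
    (hdeg : (Cfsg.charDegree χ + 1) ^ 2 ≤ Nat.card ↥(P : Subgroup G)) : (P : Subgroup G).Normal := by
  by_contra hnn
  have h1 : χ 1 = (Cfsg.charDegree χ : ℂ) := by
    obtain ⟨n, ρ, rfl⟩ := hχ
    unfold charDegree
    rw [Representation.char_one, finrank_fin_fun]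
    simp
  exact no_bad p hL (Nat.card G) G rfl P χ (Cfsg.charDegree χ) ⟨hTI, hχ, hfaith, h1, hdeg, hnn⟩

end Cfsg.Agent.H665.LeonZ
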