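import Cfsg.Agent.H665.TIA
import Cfsg.Agent.KFacts.HS.Base
import Cfsg.Agent.HN.H0Basic

/-!
# The Sylow 3- and 5-subgroups of the Higman–Sims group are not TI

Words in the generators of `2.HS.2`.
-/

set_option autoImplicit false
set_option maxRecDepth 100000

namespace Cfsg.Agent.H665.SporHS

open Cfsg.Agent.HN Cfsg.Agent.HN.Pres Cfsg.Agent.HN.HS100 Cfsg.Agent.HN.P1408 Cfsg.Agent.HN.H0Basic
open Cfsg.Agent.KFacts.HS Cfsg.Agent.H666.TI Cfsg.Agent.H665.TIA

/-- powers of words -/
def wp (l : List ℕ) : ℕ → List ℕ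
  | 0 => []
  | n + 1 => l ++ wp l n

theorem hw_wp (l : List ℕ) (n : ℕ) : hw (wp l n) = hw l ^ n := by
  induction n with
  | zero => rw [wp, pow_zero]; rfl
  | succ n ih => rw [wp, hw_append, ih, pow_succ']

/-- the test for a relation modulo the centre -/
def eqm (a b : List ℕ) : Bool := eqw a b || eqw a (b ++ [0, 0])

variable {L : Type*} [Group L] (D : Cfsg.Agent.KFacts.HS.Mod L)

theorem okw_wp {l : List ℕ} (h : okw l = true) (n : ℕ) : okw (wp l n) = true := by
  induction n with
  | zero => rfl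
  | succ n ih => exact okw_append h ih

include D in
theorem not_ti {p : ℕ} [Fact p.Prime] (hp2 : ¬ p ∣ 2) {a x z : List ℕ}
    (ka : okw a = true) (kx : okw x = true) (kz : okw z = true)
    (pa : par a = false) (px : par x = false) (pz : par z = false)
    (ha : eqm (wp a p) [] = true) (hx : eqm (wp x p) [] = true) (hz : eqm (wp z p) [] = true)
    (hax : eqm (a ++ x) (x ++ a) = true) (haz : eqm (a ++ z) (z ++ a) = true)
    (hxz : eqm (wp (x ++ z) 2) [] = true)
    (ha1 : eqw a [] = false) (ha2 : eqw a [0, 0] = false)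
    (hx1 : eqw (x ++ z) [] = false) (hx2 : eqw (x ++ z) [0, 0] = false) : ¬ IsTI p L := by
  have hmem : ∀ {w : List ℕ}, okw w = true → par w = false → hw w ∈ K := fun h1 h2 => mem_K_of_par h1 h2
  have hone : hw [] = 1 := rfl
  -- a relation
  have key : ∀ (g h : K) (w w' : List ℕ), (g : H0) = hw w → (h : H0) = hw w' → eqm w w' = true →
      D.π g = D.π h := by
    intro g h w w' hg hh he
    rw [D.eq_iff, hg, hh]
    rw [eqm, Bool.or_eq_true] at he
    rcases he with he | he
    · exact Or.inl (hw_eq he)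
    · right
      have := hw_eq he
      rw [hw_append, hw_τ] at this
      exact this
  have kne : ∀ (g : K) (w : List ℕ), okw w = true → (g : H0) = hw w → eqw w [] = false →
      eqw w [0, 0] = false → D.π g ≠ 1 := by
    intro g w hk hg h1 h2 h0
    rw [D.ker, hg] at h0
    rcases h0 with h0 | h0
    · rw [eqw_of_hw_eq hk rfl (h0.trans hone.symm)] at h1
      exact Bool.noConfusion h1
    · rw [eqw_of_hw_eq hk rfl (h0.trans hw_τ.symm)] at h2
      exact Bool.noConfusion h2
  let A : K := ⟨hw a, hmem ka pa⟩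
  let X : K := ⟨hw x, hmem kx px⟩
  let Z : K := ⟨hw z, hmem kz pz⟩
  refine not_of_wit (p := p) (D.π A) (D.π X) (D.π Z) ?_ ?_ ?_ ?_ ?_ ?_ (n := 2) ?_ hp2 ?_
  · exact kne A a ka rfl ha1 ha2
  · rw [← map_pow, ← map_one D.π]
    exact key _ _ (wp a p) [] (hw_wp a p).symm rfl ha
  · rw [← map_pow, ← map_one D.π]
    exact key _ _ (wp x p) [] (hw_wp x p).symm rfl hx
  · rw [← map_pow, ← map_one D.π]
    exact key _ _ (wp z p) [] (hw_wp z p).symm rfl hz
  · rw [← map_mul, ← map_mul]
    exact key _ _ (a ++ x) (x ++ a) (hw_append a x).symm (hw_append x a).symm hax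
  · rw [← map_mul, ← map_mul]
    exact key _ _ (a ++ z) (z ++ a) (hw_append a z).symm (hw_append z a).symm haz
  · rw [← map_mul, ← map_pow, ← map_one D.π]
    refine key _ _ (wp (x ++ z) 2) [] ?_ rfl hxz
    rw [hw_wp, hw_append]
    rfl
  · rw [← map_mul]
    exact kne _ (x ++ z) (okw_append kx kz) (hw_append x z).symm hx1 hx2

theorem not_hs_three {X : Type*} [Group X] (h : Cfsg.Spor.IsoHS X) : ¬ IsTI 3 X := by
  obtain ⟨D⟩ := exists_mod h
  have : Fact (Nat.Prime 3) := ⟨by norm_num⟩
  exact not_ti D (p := 3) (a := [0, 2, 0, 3]) (x := [3, 1, 2, 2, 0, 3, 3])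
    (z := [1, 2, 2, 0, 3, 3, 0, 2, 2, 0, 3]) (by norm_num) rfl rfl rfl rfl rfl rfl
    (by decide +kernel) (by decide +kernel) (by decide +kernel) (by decide +kernel) (by decide +kernel)
    (by decide +kernel) (by decide +kernel) (by decide +kernel) (by decide +kernel) (by decide +kernel)

theorem not_hs_five {X : Type*} [Group X] (h : Cfsg.Spor.IsoHS X) : ¬ IsTI 5 X := by
  obtain ⟨D⟩ := exists_mod h
  have : Fact (Nat.Prime 5) := ⟨by norm_num⟩
  exact not_ti D (p := 5) (a := [0, 2, 2, 0, 2, 2]) (x := [1, 3, 3, 4, 2, 2, 2, 4, 2])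
    (z := [2, 2, 4, 2, 2, 0, 3, 4, 2]) (by norm_num) rfl rfl rfl rfl rfl rfl
    (by decide +kernel) (by decide +kernel) (by decide +kernel) (by decide +kernel) (by decide +kernel)
    (by decide +kernel) (by decide +kernel) (by decide +kernel) (by decide +kernel) (by decide +kernel)

end Cfsg.Agent.H665.SporHS
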