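import Cfsg.Agent.H665.TIModel
import Cfsg.Agent.KFacts.J3

/-!
# The Sylow 3-subgroups of `J₃` are not TI
-/

set_option autoImplicit false

namespace Cfsg.Agent.H665.SporJ3

open Subgroup Cfsg Cfsg.Agent.H666.TI

theorem not_j3_three {K : Type*} [Group K] (h : Spor.IsoJ3 K) : ¬ IsTI 3 K := by
  obtain ⟨-, z, Q, v, ρ, n, u, F⟩ := KFacts.J3.exists_facts h
  have hfin : Finite K := Nat.finite_of_card_ne_zero (by rw [F.card_K]; norm_num)
  refine TIModel.not_three F.model ?_ (by rw [F.card_K]; norm_num)
  intro x hx hx1
  obtain ⟨g, hg⟩ := F.one x hx1 hx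
  have h1 : Nat.card (centralizer ({z} : Set K)) = Nat.card (centralizer ({x} : Set K)) := by
    have h2 : (centralizer ({z} : Set K)).map (MulAut.conj g).toMonoidHom = centralizer ({x} : Set K) := by
      ext y
      constructor
      · rintro ⟨c, hc, rfl⟩
        have hc' : c * z = z * c := mem_centralizer_singleton_iff.1 hc
        apply mem_centralizer_singleton_iff.2
        show g * c * g⁻¹ * x = x * (g * c * g⁻¹)
        rw [← hg]
        calc g * c * g⁻¹ * (g * z * g⁻¹) = g * (c * z) * g⁻¹ := by group
          _ = g * (z * c) * g⁻¹ := by rw [hc']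
          _ = _ := by group
      · intro hy
        have hy' : y * x = x * y := mem_centralizer_singleton_iff.1 hy
        refine ⟨g⁻¹ * y * g, mem_centralizer_singleton_iff.2 ?_, ?_⟩
        · have hz : z = g⁻¹ * x * g := by rw [← hg]; group
          rw [hz]
          calc g⁻¹ * y * g * (g⁻¹ * x * g) = g⁻¹ * (y * x) * g := by group
            _ = g⁻¹ * (x * y) * g := by rw [hy']
            _ = _ := by group
        · show g * (g⁻¹ * y * g) * g⁻¹ = y
          group
    rw [← h2, Subgroup.card_map_of_injective (MulAut.conj g).injective]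
  rw [← h1, F.card_C]
  norm_num

end Cfsg.Agent.H665.SporJ3
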