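import Cfsg.Agent.H665.TIA
import Cfsg.Agent.SporadicStructure.M11InvPerms
import Cfsg.Agent.MTwelveType.SylowModel
import Cfsg.Prelude.Def_Spor_Mathieu

/-!
# The Sylow 3-subgroups of the Mathieu groups `M₁₂`, `M₂₂`, `M₂₃`, `M₂₄` are not TI

Explicit elements: `a` of order 3 commuting with the elements `x`, `z` of order 3, `x z` of order 2.
-/

set_option autoImplicit false
set_option maxRecDepth 100000

namespace Cfsg.Agent.H665.SporMath

open Cfsg Cfsg.Agent.SporadicStructure.M11InvPerms Cfsg.Agent.H666.TI Cfsg.Agent.H665.TIA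
open Cfsg.Agent.MTwelveType.SylowModel (mem_M12)

/-- a permutation -/
def a22 : Equiv.Perm GolayPt where
  toFun := tabFun [0, 10, 7, 2, 1, 8, 5, 3, 6, 19, 4, 15, 12, 11, 14, 13, 22, 16, 18, 20, 9, 21, 17, 23]
  invFun := tabFun [0, 4, 3, 7, 10, 6, 8, 2, 5, 20, 1, 13, 12, 15, 14, 11, 17, 22, 18, 9, 19, 21, 16, 23]
  left_inv := by unfold Function.LeftInverse; decide +kernel
  right_inv := by unfold Function.RightInverse Function.LeftInverse; decide +kernel

set_option maxRecDepth 100000 in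
theorem a22_mem : a22 ∈ M24 :=
  mem_M24_of_cert a22 (fun t => ([1764, 1174, 919, 557, 899, 749, 2043, 310, 488, 1623, 2028, 5, 1992, 1846, 1589, 2022, 770, 464, 1303, 138, 1661, 599, 1653] : List ℕ).getD t.val 0) (by decide +kernel)

/-- a permutation -/
def x22 : Equiv.Perm GolayPt where
  toFun := tabFun [0, 10, 2, 3, 1, 22, 16, 7, 17, 5, 4, 13, 12, 15, 18, 11, 20, 19, 21, 8, 6, 14, 9, 23]
  invFun := tabFun [0, 4, 2, 3, 10, 9, 20, 7, 19, 22, 1, 15, 12, 11, 21, 13, 6, 8, 14, 17, 16, 18, 5, 23]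
  left_inv := by unfold Function.LeftInverse; decide +kernel
  right_inv := by unfold Function.RightInverse Function.LeftInverse; decide +kernel

set_option maxRecDepth 100000 in
theorem x22_mem : x22 ∈ M24 :=
  mem_M24_of_cert x22 (fun t => ([1956, 1316, 1451, 1857, 1498, 1774, 925, 614, 2043, 748, 77, 1913, 1730, 738, 259, 1038, 1414, 1708, 1336, 1108, 1810, 1092, 187] : List ℕ).getD t.val 0) (by decide +kernel)

/-- a permutation -/
def z22 : Equiv.Perm GolayPt where
  toFun := tabFun [0, 19, 2, 3, 9, 10, 1, 7, 4, 8, 20, 15, 14, 11, 18, 13, 17, 22, 12, 6, 5, 21, 16, 23]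
  invFun := tabFun [0, 6, 2, 3, 8, 20, 19, 7, 9, 4, 5, 13, 18, 15, 12, 11, 22, 16, 14, 1, 10, 21, 17, 23]
  left_inv := by unfold Function.LeftInverse; decide +kernel
  right_inv := by unfold Function.RightInverse Function.LeftInverse; decide +kernel

set_option maxRecDepth 100000 in
theorem z22_mem : z22 ∈ M24 :=
  mem_M24_of_cert z22 (fun t => ([1001, 1692, 2002, 1336, 1990, 990, 252, 614, 278, 1946, 1626, 939, 1176, 1451, 1712, 984, 1275, 986, 8, 1429, 91, 1181, 65] : List ℕ).getD t.val 0) (by decide +kernel)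

/-- a permutation -/
def a12 : Equiv.Perm GolayPt where
  toFun := tabFun [4, 12, 8, 18, 13, 17, 2, 11, 6, 3, 22, 20, 16, 0, 23, 5, 1, 15, 9, 10, 7, 14, 19, 21]
  invFun := tabFun [13, 16, 6, 9, 0, 15, 8, 20, 2, 18, 19, 7, 1, 4, 21, 17, 12, 5, 3, 22, 11, 23, 10, 14]
  left_inv := by unfold Function.LeftInverse; decide +kernel
  right_inv := by unfold Function.RightInverse Function.LeftInverse; decide +kernel

set_option maxRecDepth 100000 in
theorem a12_mem : a12 ∈ M24 :=
  mem_M24_of_cert a12 (fun t => ([1, 3796, 3125, 1832, 1808, 2687, 2968, 1276, 3709, 352, 3853, 2734, 3317, 2642, 3293, 1022, 1132, 147, 1175, 2815, 437, 2141, 1926] : List ℕ).getD t.val 0) (by decide +kernel)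

/-- a permutation -/
def x12 : Equiv.Perm GolayPt where
  toFun := tabFun [13, 8, 18, 12, 0, 14, 3, 20, 9, 1, 17, 7, 6, 4, 19, 21, 2, 23, 16, 5, 11, 22, 15, 10]
  invFun := tabFun [4, 9, 16, 6, 13, 19, 12, 11, 1, 8, 23, 20, 3, 0, 5, 22, 18, 10, 2, 14, 7, 15, 21, 17]
  left_inv := by unfold Function.LeftInverse; decide +kernel
  right_inv := by unfold Function.RightInverse Function.LeftInverse; decide +kernel

set_option maxRecDepth 100000 in
theorem x12_mem : x12 ∈ M24 :=
  mem_M24_of_cert x12 (fun t => ([1, 3039, 577, 986, 2687, 3439, 796, 1340, 3231, 2838, 1961, 2951, 1160, 2217, 3341, 2177, 3032, 2311, 855, 939, 444, 1499, 3899] : List ℕ).getD t.val 0) (by decide +kernel)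

/-- a permutation -/
def z12 : Equiv.Perm GolayPt where
  toFun := tabFun [8, 12, 3, 13, 6, 11, 9, 19, 18, 4, 5, 10, 16, 2, 23, 7, 1, 20, 0, 15, 22, 14, 17, 21]
  invFun := tabFun [18, 16, 13, 2, 9, 10, 4, 15, 0, 6, 11, 5, 1, 3, 21, 19, 12, 22, 8, 7, 17, 23, 20, 14]
  left_inv := by unfold Function.LeftInverse; decide +kernel
  right_inv := by unfold Function.RightInverse Function.LeftInverse; decide +kernel

set_option maxRecDepth 100000 in
theorem z12_mem : z12 ∈ M24 :=
  mem_M24_of_cert z12 (fun t => ([1, 2852, 3704, 1436, 411, 2538, 2097, 1316, 3670, 539, 2490, 3521, 4005, 3916, 3669, 349, 1104, 352, 414, 3433, 359, 3455, 1965] : List ℕ).getD t.val 0) (by decide +kernel)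

instance fact3 : Fact (Nat.Prime 3) := ⟨by norm_num⟩

theorem mem_M22 {g : Equiv.Perm GolayPt} (h : g ∈ M24) (h1 : g none = none)
    (h2 : g (some 0) = some 0) : g ∈ Spor.M22 :=
  Subgroup.mem_inf.mpr ⟨Subgroup.mem_inf.mpr ⟨h, MulAction.mem_stabilizer_iff.mpr h1⟩,
    MulAction.mem_stabilizer_iff.mpr h2⟩

theorem not_m22 : ¬ IsTI 3 Spor.M22 := by
  refine not_of_wit (p := 3) (⟨a22, mem_M22 a22_mem (by decide +kernel) (by decide +kernel)⟩ : Spor.M22)
    ⟨x22, mem_M22 x22_mem (by decide +kernel) (by decide +kernel)⟩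
    ⟨z22, mem_M22 z22_mem (by decide +kernel) (by decide +kernel)⟩ ?_ ?_ ?_ ?_ ?_ ?_ (n := 2) ?_
    (by norm_num) ?_
  · intro h
    exact absurd (congrArg Subtype.val h) (by decide +kernel : ¬ a22 = 1)
  · exact Subtype.ext (by decide +kernel : a22 ^ 3 = 1)
  · exact Subtype.ext (by decide +kernel : x22 ^ 3 = 1)
  · exact Subtype.ext (by decide +kernel : z22 ^ 3 = 1)
  · exact Subtype.ext (by decide +kernel : a22 * x22 = x22 * a22)
  · exact Subtype.ext (by decide +kernel : a22 * z22 = z22 * a22)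
  · exact Subtype.ext (by decide +kernel : (x22 * z22) ^ 2 = 1)
  · intro h
    exact absurd (congrArg Subtype.val h) (by decide +kernel : ¬ x22 * z22 = 1)

theorem not_m12 : ¬ IsTI 3 Spor.M12 := by
  refine not_of_wit (p := 3) (⟨a12, mem_M12 a12_mem (by decide +kernel)⟩ : Spor.M12)
    ⟨x12, mem_M12 x12_mem (by decide +kernel)⟩
    ⟨z12, mem_M12 z12_mem (by decide +kernel)⟩ ?_ ?_ ?_ ?_ ?_ ?_ (n := 2) ?_
    (by norm_num) ?_
  · intro h
    exact absurd (congrArg Subtype.val h) (by decide +kernel : ¬ a12 = 1)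
  · exact Subtype.ext (by decide +kernel : a12 ^ 3 = 1)
  · exact Subtype.ext (by decide +kernel : x12 ^ 3 = 1)
  · exact Subtype.ext (by decide +kernel : z12 ^ 3 = 1)
  · exact Subtype.ext (by decide +kernel : a12 * x12 = x12 * a12)
  · exact Subtype.ext (by decide +kernel : a12 * z12 = z12 * a12)
  · exact Subtype.ext (by decide +kernel : (x12 * z12) ^ 2 = 1)
  · intro h
    exact absurd (congrArg Subtype.val h) (by decide +kernel : ¬ x12 * z12 = 1)

theorem not_m23 : ¬ IsTI 3 Spor.M23 :=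
  not_of_inj (Subgroup.inclusion (inf_le_left : Spor.M22 ≤ Spor.M23))
    (Subgroup.inclusion_injective _) not_m22

theorem not_m24 : ¬ IsTI 3 M24 :=
  not_of_inj (Subgroup.inclusion (inf_le_left : Spor.M23 ≤ M24))
    (Subgroup.inclusion_injective _) not_m23

end Cfsg.Agent.H665.SporMath
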