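import Cfsg.Agent.H665.TID

/-!
# The Sylow 3- and 7-subgroups of `PSL₃(7)` are not TI
-/

set_option autoImplicit false
set_option maxRecDepth 100000

namespace Cfsg.Agent.H665.TIF

open Subgroup Cfsg Cfsg.Agent.H666.TI Cfsg.Agent.H665.TIA

/-- `a`, `b` commute, `x` commutes with `a`, `z` commutes with `b`. -/
theorem not_of_chain {G : Type*} [Group G] [Finite G] {p : ℕ} [hp : Fact p.Prime] (a b x z : G) (ha : a ≠ 1) (hb : b ≠ 1)
    (hap : a ^ p = 1) (hbp : b ^ p = 1) (hx : x ^ p = 1) (hz : z ^ p = 1) (hab : a * b = b * a)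
    (hax : a * x = x * a) (hbz : b * z = z * b) {n : ℕ} (hn : (x * z) ^ n = 1) (hpn : ¬ p ∣ n)
    (hne : x * z ≠ 1) : ¬ IsTI p G := by
  intro h
  obtain ⟨P, haP⟩ := exists_sylow_mem (pElt_of_pow hap)
  have hbP := h.mem_of_comm haP ha hab (pElt_of_pow hbp)
  have hxP := h.mem_of_comm haP ha hax (pElt_of_pow hx)
  have hzP := h.mem_of_comm hbP hb hbz (pElt_of_pow hz)
  exact hne ((pElt_of_mem P.isPGroup' (mul_mem hxP hzP)).eq_one hn hpn)

abbrev S := Matrix.SpecialLinearGroup (Fin 3) (ZMod 7)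
abbrev PS := Matrix.ProjectiveSpecialLinearGroup (Fin 3) (ZMod 7)

/-- the projection -/
def π : S →* PS := QuotientGroup.mk' (center S)

theorem π_eq_one {g : S} (h : π g = 1) : g ∈ center S := (QuotientGroup.eq_one_iff g).1 h

theorem π_one_of {g : S} (h : g ∈ center S) : π g = 1 := (QuotientGroup.eq_one_iff g).2 h

theorem ne_of {g : S} (h : S) (hgh : g.1 * h.1 ≠ h.1 * g.1) : π g ≠ 1 := by
  intro h0
  have h1 := mem_center_iff.1 (π_eq_one h0) h
  exact hgh (congrArg Subtype.val h1).symm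

/-- the scalar 2 -/
def s : S := ⟨!![2, 0, 0; 0, 2, 0; 0, 0, 2], by decide +kernel⟩

theorem s_eq : s.1 = (2 : ZMod 7) • (1 : Matrix (Fin 3) (Fin 3) (ZMod 7)) := by decide +kernel

theorem s_mem : s ∈ center S := by
  rw [mem_center_iff]
  intro g
  apply Subtype.ext
  show g.1 * s.1 = s.1 * g.1
  rw [s_eq, smul_mul_assoc, mul_smul_comm, one_mul, mul_one]

theorem comm_of {g h : S} (e : (g * h).1 = (h * g * s).1 ∨ (g * h).1 = (h * g * (s * s)).1 ∨ (g * h).1 = (h * g).1) :
    π g * π h = π h * π g := by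
  rcases e with e | e | e
  · have := congrArg π (Subtype.ext e : g * h = h * g * s)
    rw [map_mul, map_mul, map_mul, π_one_of s_mem, mul_one] at this
    exact this
  · have := congrArg π (Subtype.ext e : g * h = h * g * (s * s))
    rw [map_mul, map_mul, map_mul, map_mul, π_one_of s_mem, mul_one, mul_one] at this
    exact this
  · have := congrArg π (Subtype.ext e : g * h = h * g)
    rw [map_mul, map_mul] at this
    exact this

theorem pow_of {g : S} {n : ℕ} (e : (g ^ n).1 = 1) : π g ^ n = 1 := by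
  rw [← map_pow, show g ^ n = 1 from Subtype.ext e, map_one]

/-! ### `p = 7` -/

def e12 : S := ⟨!![1, 1, 0; 0, 1, 0; 0, 0, 1], by decide +kernel⟩
def e13 : S := ⟨!![1, 0, 1; 0, 1, 0; 0, 0, 1], by decide +kernel⟩
def e23 : S := ⟨!![1, 0, 0; 0, 1, 1; 0, 0, 1], by decide +kernel⟩
def e21 : S := ⟨!![1, 0, 0; -1, 1, 0; 0, 0, 1], by decide +kernel⟩

theorem not_seven : ¬ IsTI 7 PS := by
  have : Fact (Nat.Prime 7) := ⟨by norm_num⟩
  refine not_of_chain (π e13) (π e23) (π e12) (π e21) (ne_of e21 (by decide +kernel)) (ne_of e12 (by decide +kernel))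
    (pow_of (by decide +kernel)) (pow_of (by decide +kernel)) (pow_of (by decide +kernel)) (pow_of (by decide +kernel))
    (comm_of (by decide +kernel)) (comm_of (by decide +kernel)) (comm_of (by decide +kernel)) (n := 6) ?_ (by norm_num) ?_
  · rw [← map_mul]
    exact pow_of (by decide +kernel)
  · rw [← map_mul]
    exact ne_of e12 (by decide +kernel)

/-! ### `p = 3` -/

def a : S := ⟨!![1, 0, 0; 0, 2, 0; 0, 0, 4], by decide +kernel⟩
def c : S := ⟨!![0, 1, 0; 0, 0, 1; 1, 0, 0], by decide +kernel⟩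
/-- `t c⁻¹ t⁻¹`, `t = diag (1, -1, -1)` -/
def d : S := ⟨!![0, 0, -1; -1, 0, 0; 0, 1, 0], by decide +kernel⟩

theorem not_three : ¬ IsTI 3 PS := by
  have : Fact (Nat.Prime 3) := ⟨by norm_num⟩
  refine not_of_wit (π a) (π c) (π d) (ne_of c (by decide +kernel)) (pow_of (by decide +kernel))
    (pow_of (by decide +kernel)) (pow_of (by decide +kernel)) (comm_of (by decide +kernel)) (comm_of (by decide +kernel))
    (n := 2) ?_ (by norm_num) ?_
  · rw [← map_mul]
    exact pow_of (by decide +kernel)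
  · rw [← map_mul]
    exact ne_of c (by decide +kernel)

end Cfsg.Agent.H665.TIF
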