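import Cfsg.Agent.H665.TIE
import Cfsg.Agent.H665.TIF
import Cfsg.Agent.H665.SporHS
import Cfsg.Agent.H665.SporMath
import Cfsg.Agent.H868.KSL2
import Cfsg.Agent.ETable.Exc
import Cfsg.Agent.Sigma.Symp
import Cfsg.Agent.S1679
import Cfsg.Agent.S1682
import Cfsg.Agent.S1693
import Cfsg.Agent.S1708
import Cfsg.Agent.S1710
import Cfsg.Agent.S1711

/-!
# Sporadic groups with a subgroup whose Sylow subgroups are not TI
-/

set_option autoImplicit false
set_option maxRecDepth 100000

namespace Cfsg.Agent.H665.SporSub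

open Subgroup Cfsg Cfsg.Lie Cfsg.Agent.H666.TI Cfsg.Agent.H665.TIA Cfsg.Agent.H665.TIE
open Cfsg.Agent.H92.ExcSL2 Cfsg.Agent.ChevalleyStructure.Elts Cfsg.Agent.ETable.Exc Cfsg.Agent.H868

/-- a subgroup of a subgroup -/
theorem not_of_sub {G : Type*} [Group G] {H : Subgroup G} {N : Subgroup H} {L : Type*} [Group L] (e : Nonempty (N ≃* L))
    {p : ℕ} [Fact p.Prime] (h : ¬ IsTI p L) : ¬ IsTI p G := by
  obtain ⟨e⟩ := e
  refine not_of_inj ((H.subtype.comp N.subtype).comp e.symm.toMonoidHom) ?_ h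
  exact (H.subtype_injective.comp N.subtype_injective).comp e.symm.injective

theorem not_of_sub' {G : Type*} [Group G] {H : Subgroup G} {L : Type*} [Group L] (e : Nonempty (H ≃* L))
    {p : ℕ} [Fact p.Prime] (h : ¬ IsTI p L) : ¬ IsTI p G := by
  obtain ⟨e⟩ := e
  refine not_of_inj (H.subtype.comp e.symm.toMonoidHom) ?_ h
  exact H.subtype_injective.comp e.symm.injective

local notation "SL2" => Matrix.SpecialLinearGroup (Fin 2)

/-! ### Held -/

section He

variable {K : Type} [Field K]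

noncomputable def hf : SL2 K →* Matrix.symplecticGroup (Fin 2) K :=
  (Sigma.Symp.emb 2 K).comp (MonoidHom.mulSingle (fun _ => SL2 K) 0)

theorem hf_inj : Function.Injective (hf (K := K)) :=
  (Sigma.Symp.emb_injective 2).comp (Pi.mulSingle_injective (M := fun _ : Fin 2 => SL2 K) 0)

noncomputable def hc (c : SL2 K) : Matrix.symplecticGroup (Fin 2) K := Sigma.Symp.emb 2 K (Pi.mulSingle 1 c)

theorem hc_comm (c g : SL2 K) : hc c * hf g = hf g * hc c := by
  show Sigma.Symp.emb 2 K _ * Sigma.Symp.emb 2 K _ = Sigma.Symp.emb 2 K _ * Sigma.Symp.emb 2 K _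
  rw [← map_mul, ← map_mul]
  congr 1
  funext i
  fin_cases i <;> simp [Pi.mulSingle, Function.update]

theorem hc_ne {c : SL2 K} (h : c ≠ 1) : hc c ≠ 1 := by
  intro h0
  have h1 := Sigma.Symp.emb_injective 2 (h0.trans (map_one _).symm)
  exact h (by simpa using congrFun h1 1)

theorem hc_pow (c : SL2 K) (n : ℕ) : hc c ^ n = hc (c ^ n) := by
  rw [hc, hc, ← map_pow, Pi.mulSingle_pow]

theorem hc_one : hc (1 : SL2 K) = 1 := by rw [hc, Pi.mulSingle_one, map_one]

theorem sp_three [Fintype K] (hK : Fintype.card K = 4) : ¬ IsTI 3 (Matrix.symplecticGroup (Fin 2) K) := by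
  have hx : (0 : K) * (-1) - 1 * (-1) = 1 := by ring
  refine not_three_of_four hK hf hf_inj (c := hc (mk 0 1 (-1) (-1) hx)) (hc_ne (mk_ne_one _ one_ne_zero)) ?_
    (hc_comm _)
  rw [hc_pow, pow_three _ (by ring), hc_one]

theorem sp_five [Fintype K] (hK : Fintype.card K = 4) : ¬ IsTI 5 (Matrix.symplecticGroup (Fin 2) K) := by
  obtain ⟨h2, w, hw⟩ := exists_w hK
  have hx : (0 : K) * w - 1 * 1 = 1 := by linear_combination -h2
  refine not_five_of_four hK hf hf_inj (c := hc (mk 0 1 1 w hx)) (hc_ne (mk_ne_one _ one_ne_zero)) ?_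
    (hc_comm _)
  rw [hc_pow, pow_five h2 hw _ (by ring), hc_one]

end He

theorem not_he_three : ¬ IsTI 3 Spor.He := by
  have : Fact (Nat.Prime 3) := ⟨by norm_num⟩
  obtain ⟨N, K, _, _, -, -, hK, e⟩ := Cfsg.Agent.S1682.result
  exact not_of_sub e (sp_three hK)

theorem not_he_five : ¬ IsTI 5 Spor.He := by
  have : Fact (Nat.Prime 5) := ⟨by norm_num⟩
  obtain ⟨N, K, _, _, -, -, hK, e⟩ := Cfsg.Agent.S1682.result
  exact not_of_sub e (sp_five hK)

/-! ### O'Nan -/

theorem not_on_three : ¬ IsTI 3 Spor.ON := by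
  have : Fact (Nat.Prime 3) := ⟨by norm_num⟩
  obtain ⟨N, -, -, e⟩ := Cfsg.Agent.S1693.result
  exact not_of_sub e TIF.not_three

theorem not_on_seven : ¬ IsTI 7 Spor.ON := by
  have : Fact (Nat.Prime 7) := ⟨by norm_num⟩
  obtain ⟨N, -, -, e⟩ := Cfsg.Agent.S1693.result
  exact not_of_sub e TIF.not_seven

/-! ### Janko -/

theorem not_j4_three : ¬ IsTI 3 Spor.J4 := by
  have : Fact (Nat.Prime 3) := ⟨by norm_num⟩
  exact not_of_sub' Cfsg.Agent.S1711.result SporMath.not_m24

/-! ### Harada–Norton -/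

theorem not_of_dbl {K L : Type*} [Group K] [Finite K] [Group L] {p : ℕ} [hp : Fact p.Prime] (hp2 : p ≠ 2)
    (h : IsNonsplitDoubleCover K L) (hL : ¬ IsTI p L) : ¬ IsTI p K := by
  obtain ⟨h1, ⟨e⟩, -⟩ := h
  refine TID.not_of_surj (e.toMonoidHom.comp (QuotientGroup.mk' (center K))) ?_ ?_ ?_ hL
  · exact e.surjective.comp (QuotientGroup.mk'_surjective _)
  · rw [MonoidHom.ker_comp_of_injective _ _ e.injective, QuotientGroup.ker_mk']
  · rw [MonoidHom.ker_comp_of_injective _ _ e.injective, QuotientGroup.ker_mk', h1]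
    intro h0
    exact hp2 ((Nat.prime_dvd_prime_iff_eq hp.out Nat.prime_two).1 h0)

theorem not_hn_three : ¬ IsTI 3 Spor.HN := by
  have : Fact (Nat.Prime 3) := ⟨by norm_num⟩
  obtain ⟨N, -, -, hN⟩ := Cfsg.Agent.S1708.result
  have hf : Finite N := by
    obtain ⟨h1, ⟨e⟩, -⟩ := hN
    apply Nat.finite_of_card_ne_zero
    rw [Subgroup.card_eq_card_quotient_mul_card_subgroup (center N), h1, Nat.card_congr e.toEquiv,
      Cfsg.Agent.KFacts.HS.card ⟨MulEquiv.refl _⟩]
    norm_num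
  refine not_of_sub ⟨MulEquiv.refl N⟩ (not_of_dbl (by norm_num) hN (SporHS.not_hs_three ⟨MulEquiv.refl _⟩))

/-! ### Suzuki, Lyons -/

theorem g2_orth : Orth4 chevG2 7 11 = true := by decide +kernel

theorem not_suz_five : ¬ IsTI 5 Spor.Suz := by
  have : Fact (Nat.Prime 5) := ⟨by norm_num⟩
  obtain ⟨K, _, _, hK, e⟩ := Cfsg.Agent.S1679.result
  refine not_of_sub' e ?_
  have l7 : 7 < chevG2.nroots := by decide
  have l11 : 11 < chevG2.nroots := by decide
  obtain ⟨h2, w, hw⟩ := exists_w hK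
  have hx : (0 : K) * w - 1 * 1 = 1 := by linear_combination -h2
  have hinj : ∀ {r : ℕ} (hr : r < chevG2.nroots), Function.Injective (ph (F := K) inList_G2 hr) := by
    intro r hr
    rw [injective_iff_map_eq_one]
    intro g hg
    rcases KSL2.kerPM_ph inList_G2 hr g hg with h | h
    · exact h
    · rw [h]
      apply Subtype.ext
      show -(1 : Matrix (Fin 2) (Fin 2) K) = 1
      have : (2 : K) • (1 : Matrix (Fin 2) (Fin 2) K) = 0 := by rw [h2, zero_smul]
      rw [two_smul] at this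
      exact neg_eq_of_add_eq_zero_left this
  refine not_five_of_four hK (ph inList_G2 l7) (hinj l7) (c := ph inList_G2 l11 (mk 0 1 1 w hx)) ?_ ?_ ?_
  · intro h
    exact mk_ne_one _ one_ne_zero (hinj l11 (h.trans (map_one _).symm))
  · rw [← map_pow, pow_five h2 hw _ (by ring), map_one]
  · intro g
    exact (ph_commute inList_G2 l7 l11 g2_orth g _).symm

theorem not_ly_three : ¬ IsTI 3 Spor.Ly := by
  have : Fact (Nat.Prime 3) := ⟨by norm_num⟩
  obtain ⟨K, _, _, hK, e⟩ := Cfsg.Agent.S1710.result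
  refine not_of_sub' e ?_
  have l7 : 7 < chevG2.nroots := by decide
  have l11 : 11 < chevG2.nroots := by decide
  have hx : (0 : K) * (-1) - 1 * (-1) = 1 := by ring
  refine not_three_of_five hK (ph inList_G2 l7) (KSL2.kerPM_ph inList_G2 l7)
    (c := ph inList_G2 l11 (mk 0 1 (-1) (-1) hx)) ?_ ?_ ?_
  · intro h
    rcases KSL2.kerPM_ph inList_G2 l11 _ h with h1 | h1
    · exact mk_ne_one _ one_ne_zero h1
    · have := congrArg (fun g : SL2 K => g.1 0 1) h1
      simp [TIE.mk] at this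
  · rw [← map_pow, pow_three _ (by ring), map_one]
  · intro g
    exact (ph_commute inList_G2 l7 l11 g2_orth g _).symm

end Cfsg.Agent.H665.SporSub
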