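import Cfsg.Agent.H665.TIF
import Cfsg.Agent.TitsK.Model

/-!
# The Sylow 3-subgroups of the Tits group are not TI
-/

set_option autoImplicit false
set_option maxRecDepth 100000

namespace Cfsg.Agent.H665.SporTits

open Subgroup Cfsg Cfsg.Agent.H666.TI Cfsg.Agent.H665.TIA Cfsg.Agent.H665.TIF
open Cfsg.Agent.TitsK Cfsg.Agent.FourTwo.Base Cfsg.Agent.FourTwo.BN

/-- the letters -/
def lt (i : ℕ) : List ℕ :=
  match i with
  | 0 => [33, 24]
  | 1 => [14, 23]
  | 2 => [27, 25, 28]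
  | 3 => [28, 25, 27]
  | 4 => [20, 22, 19]
  | _ => [19, 22, 20]

/-- the word in the root elements -/
def tw (w : List ℕ) : List ℕ := w.flatMap lt

theorem wd_inv {l : List ℕ} {l' : List ℕ} (h : chk (l ++ l') [] = true) : wd l' = (wd l)⁻¹ := by
  rw [eq_comm, inv_eq_iff_mul_eq_one, ← wd_append]
  exact wd_eq _ _ h

theorem lt_mem (i : ℕ) : wd (lt i) ∈ HT := by
  unfold lt
  split
  · exact ya_mem_HT
  · exact yam_mem_HT
  · exact yb_mem_HT
  · rw [wd_inv (l := [27, 25, 28]) (by decide +kernel)]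
    exact HT.inv_mem yb_mem_HT
  · exact ybm_mem_HT
  · rw [wd_inv (l := [20, 22, 19]) (by decide +kernel)]
    exact HT.inv_mem ybm_mem_HT

theorem tw_mem (w : List ℕ) : wd (tw w) ∈ HT := by
  induction w with
  | nil => exact HT.one_mem
  | cons i w ih =>
    rw [tw, List.flatMap_cons, wd_append]
    exact HT.mul_mem (lt_mem i) ih

theorem sq_mem {g : LL} (hg : g ∈ HT) : g * g ∈ TT := by
  have h1 : (TT.subgroupOf HT).index = 2 := relIndex_TT
  have h2 := Subgroup.mul_self_mem_of_index_two h1 (⟨g, hg⟩ : HT)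
  exact h2

theorem mem_TT {g : LL} (hg : g ∈ HT) (h3 : g ^ 3 = 1) : g ∈ TT := by
  have h1 : g = (g * g) * (g * g) := by
    calc g = g ^ 3 * g := by rw [h3, one_mul]
      _ = (g * g) * (g * g) := by simp only [pow_succ, pow_zero, one_mul, mul_assoc]
  rw [h1]
  exact TT.mul_mem (sq_mem hg) (sq_mem hg)

def wa : List ℕ := tw [5,0,2,0,2,5,1,5,2,0]
def wb : List ℕ := tw [1,5,0,2,0,2,5,1,5,2,0,1]
def wx : List ℕ := tw [2,1,5,1,4,0,1,5,1,4,3,1]
def wz : List ℕ := tw [2,5,1,4,0,1,5,1,4,3]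

theorem cube {w : List ℕ} (h : chk (w ++ (w ++ w)) [] = true) : wd w ^ 3 = 1 := by
  have h1 := wd_eq _ _ h
  rw [wd_append, wd_append, wd_nil] at h1
  rw [pow_succ, pow_two, mul_assoc]
  exact h1

theorem a3 : wd wa ^ 3 = 1 := cube (by decide +kernel)
theorem b3 : wd wb ^ 3 = 1 := cube (by decide +kernel)
theorem x3 : wd wx ^ 3 = 1 := cube (by decide +kernel)
theorem z3 : wd wz ^ 3 = 1 := cube (by decide +kernel)

theorem comm {u w : List ℕ} (h : chk (u ++ w) (w ++ u) = true) : wd u * wd w = wd w * wd u := by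
  have h1 := wd_eq _ _ h
  rwa [wd_append, wd_append] at h1

theorem ab : wd wa * wd wb = wd wb * wd wa := comm (by decide +kernel)
theorem ax : wd wa * wd wx = wd wx * wd wa := comm (by decide +kernel)
theorem bz : wd wb * wd wz = wd wz * wd wb := comm (by decide +kernel)

theorem xz : (wd wx * wd wz) ^ 4 = 1 := by
  have h1 := wd_eq ((wx ++ wz) ++ ((wx ++ wz) ++ ((wx ++ wz) ++ (wx ++ wz)))) [] (by decide +kernel)
  rw [wd_append (wx ++ wz), wd_append (wx ++ wz), wd_append (wx ++ wz), wd_append wx wz, wd_nil] at h1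
  rw [← h1]
  simp only [pow_succ, pow_zero, one_mul, mul_assoc]

/-- `[x, b] = a` up to inversion -/
theorem xb : wd wx * wd wb = wd wb * wd wx * (wd wa * wd wa) := by
  have h1 := wd_eq (wx ++ wb) ((wb ++ wx) ++ (wa ++ wa)) (by decide +kernel)
  rwa [wd_append wx wb, wd_append (wb ++ wx), wd_append wb wx, wd_append wa wa] at h1

/-! ### nontriviality -/

def w0 : List ℕ := tw [0,3,4,2,2]
def w1 : List ℕ := tw [3,3,5,2,0]
def c0 : List ℕ := tw [0, 1]

theorem a_eq : wd wa = wd w0 * wd c0 * wd w1 := by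
  have h1 := wd_eq wa ((w0 ++ c0) ++ w1) (by decide +kernel)
  rwa [wd_append, wd_append] at h1

theorem w_inv : wd w1 = (wd w0)⁻¹ := wd_inv (by decide +kernel)

theorem c0_eq : wd c0 * x 33 = x 14 * wd c0 := by
  have h1 := wd_eq (c0 ++ [33]) ([14] ++ c0) (by decide +kernel)
  rwa [wd_append, wd_append, wd_one, wd_one] at h1

theorem c0_ne : wd c0 ≠ 1 := by
  intro h
  have h1 := c0_eq
  rw [h, one_mul, mul_one] at h1
  have h2 : wd [33] ∈ U := wd_mem_U (by decide)
  rw [wd_one, h1] at h2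
  exact absurd (pos_of_mem_U (by norm_num) h2) (by norm_num)

theorem a_ne : wd wa ≠ 1 := by
  intro h
  rw [a_eq, w_inv] at h
  apply c0_ne
  calc wd c0 = (wd w0)⁻¹ * (wd w0 * wd c0 * (wd w0)⁻¹) * wd w0 := by group
    _ = 1 := by rw [h]; group

/-- the group-theoretic part -/
theorem aux {G : Type*} [Group G] [Finite G] {a b x z : G} (a3 : a ^ 3 = 1) (b3 : b ^ 3 = 1) (x3 : x ^ 3 = 1)
    (z3 : z ^ 3 = 1) (ab : a * b = b * a) (ax : a * x = x * a) (bz : b * z = z * b) (xz : (x * z) ^ 4 = 1)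
    (xb : x * b = b * x * (a * a)) (a_ne : a ≠ 1) : ¬ IsTI 3 G := by
  have : Fact (Nat.Prime 3) := ⟨Nat.prime_three⟩
  have aa_ne : a * a ≠ 1 := by
    intro h
    apply a_ne
    rw [pow_succ, pow_two, h, one_mul] at a3
    exact a3
  have b_ne : b ≠ 1 := by
    intro h
    rw [h, mul_one, one_mul] at xb
    exact aa_ne (mul_eq_left.mp xb.symm)
  have xz_ne : x * z ≠ 1 := by
    intro h
    have h1 : x = z⁻¹ := eq_inv_of_mul_eq_one_left h
    have h2 : x * b = b * x := by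
      rw [h1]
      have h3 : Commute b z := bz
      exact (h3.inv_right).symm
    rw [h2] at xb
    exact aa_ne (mul_eq_left.mp xb.symm)
  exact not_of_chain (p := 3) a b x z a_ne b_ne a3 b3 x3 z3 ab ax bz (n := 4) xz (by norm_num) xz_ne

theorem exists_el (w : List ℕ) (h : wd (tw w) ^ 3 = 1) : ∃ A : TT, (A : LL) = wd (tw w) :=
  ⟨⟨wd (tw w), mem_TT (tw_mem w) h⟩, rfl⟩

theorem not_tt : ¬ IsTI 3 TT := by
  have : Finite TT := Nat.finite_of_card_ne_zero (by rw [card_TT]; norm_num)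
  obtain ⟨A, hA⟩ : ∃ A : TT, (A : LL) = wd wa := exists_el _ a3
  obtain ⟨B, hB⟩ : ∃ A : TT, (A : LL) = wd wb := exists_el _ b3
  obtain ⟨X, hX⟩ : ∃ A : TT, (A : LL) = wd wx := exists_el _ x3
  obtain ⟨Z, hZ⟩ : ∃ A : TT, (A : LL) = wd wz := exists_el _ z3
  have a3 := a3; have b3 := b3; have x3 := x3; have z3 := z3
  have ab := ab; have ax := ax; have bz := bz; have xz := xz; have xb := xb; have ha := a_ne
  rw [← hA] at a3 ab ax xb ha
  rw [← hB] at b3 ab bz xb
  rw [← hX] at x3 ax xz xb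
  rw [← hZ] at z3 bz xz
  refine aux (a := A) (b := B) (x := X) (z := Z) (Subtype.ext a3) (Subtype.ext b3) (Subtype.ext x3) (Subtype.ext z3)
    (Subtype.ext ab) (Subtype.ext ax) (Subtype.ext bz) (Subtype.ext xz) (Subtype.ext xb) ?_
  rintro rfl
  exact ha rfl

theorem not_tits_three {G : Type*} [Group G] (h : Lie.IsoTits G) : ¬ IsTI 3 G := by
  have : Fact (Nat.Prime 3) := ⟨Nat.prime_three⟩
  obtain ⟨e⟩ := h
  obtain ⟨f⟩ := exists_equiv
  exact not_of_inj (e.symm.toMonoidHom.comp f.symm.toMonoidHom) (e.symm.injective.comp f.symm.injective) not_tt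

end Cfsg.Agent.H665.SporTits
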