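import Cfsg.Agent.NotCT.Orders
import Cfsg.Agent.H468.RowBase
import Cfsg.Agent.H998.StrP.PureRows
import Cfsg.Agent.H660.NoSPRu
import Cfsg.Agent.H752.CoOneSevenSP
import Cfsg.Agent.H154.StrP.Fi23
import Cfsg.Agent.H52.StrFi24
import Cfsg.Agent.H49.ThSevenRow
import Cfsg.Agent.H49.ThFiveRow
import Cfsg.Agent.H665.TIC
import Cfsg.Agent.H665.SporMath
import Cfsg.Agent.H665.SporHS
import Cfsg.Agent.H665.SporCo
import Cfsg.Agent.H665.SporSub
import Cfsg.Agent.H665.SporJ2
import Cfsg.Agent.H665.SporJ3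
import Cfsg.Agent.H665.SporFi
import Cfsg.Agent.H665.SporTits

/-!
# The sporadic groups with a noncyclic TI Sylow `p`-subgroup, `p` odd (helper665)

`spor_of` : `M11` (`p = 3`), `McL`, `Tits` (`p = 5`), `J4` (`p = 11`); the rows of the Baby Monster and of the Monster
are hypotheses here.
-/

set_option autoImplicit false

namespace Cfsg.Agent.H665.SporTI

open Subgroup Cfsg Cfsg.Agent.H666.TI

variable {G : Type*} [Group G] [Finite G] {p : ℕ} [hp : Fact p.Prime]

/-- the common shape of a row -/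
theorem row {n : ℕ} (hcard : Nat.card G = n) (l : List (ℕ × ℕ)) (hl : ∀ x ∈ l, x.1.Prime)
    (hnd : (l.map Prod.fst).Nodup) (hn : n = (l.map fun x => x.1 ^ x.2).prod) (P : Sylow p G)
    (hnc : ¬ IsCyclic ↥(P : Subgroup G)) : ∃ x ∈ l, x.1 = p ∧ 2 ≤ x.2 :=
  (H468.cyc_or hcard l hl hnd hn P).resolve_left hnc

section Rows

variable [IsSimpleGroup G] (h2 : p ≠ 2) (hTI : IsTI p G) (P : Sylow p G) (hnc : ¬ IsCyclic ↥(P : Subgroup G))

include h2 hTI hnc

theorem m12 (h : Spor.IsoM12 G) : False := by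
  obtain ⟨x, hx, h3, h4⟩ := row (NotCT.Orders.m12 h)
    [(2, 6), (3, 3), (5, 1), (11, 1)] (by simp; norm_num) (by decide) (by norm_num) P hnc
  simp only [List.mem_cons, List.not_mem_nil, or_false] at hx
  rcases hx with rfl | rfl | rfl | rfl <;> subst h3 <;> try omega
  · exact SporMath.not_m12 (hTI.congr h.some)

theorem m22 (h : Spor.IsoM22 G) : False := by
  obtain ⟨x, hx, h3, h4⟩ := row (NotCT.Orders.m22 h)
    [(2, 7), (3, 2), (5, 1), (7, 1), (11, 1)] (by simp; norm_num) (by decide) (by norm_num) P hnc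
  simp only [List.mem_cons, List.not_mem_nil, or_false] at hx
  rcases hx with rfl | rfl | rfl | rfl | rfl <;> subst h3 <;> try omega
  · exact SporMath.not_m22 (hTI.congr h.some)

theorem m23 (h : Spor.IsoM23 G) : False := by
  obtain ⟨x, hx, h3, h4⟩ := row (NotCT.Orders.m23 h)
    [(2, 7), (3, 2), (5, 1), (7, 1), (11, 1), (23, 1)] (by simp; norm_num) (by decide) (by norm_num) P hnc
  simp only [List.mem_cons, List.not_mem_nil, or_false] at hx
  rcases hx with rfl | rfl | rfl | rfl | rfl | rfl <;> subst h3 <;> try omega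
  · exact SporMath.not_m23 (hTI.congr h.some)

theorem m24 (h : Spor.IsoM24 G) : False := by
  obtain ⟨x, hx, h3, h4⟩ := row (NotCT.Orders.m24 h)
    [(2, 10), (3, 3), (5, 1), (7, 1), (11, 1), (23, 1)] (by simp; norm_num) (by decide) (by norm_num) P hnc
  simp only [List.mem_cons, List.not_mem_nil, or_false] at hx
  rcases hx with rfl | rfl | rfl | rfl | rfl | rfl <;> subst h3 <;> try omega
  · exact SporMath.not_m24 (hTI.congr h.some)

theorem j1 (h : Spor.IsoJ1 G) : False := by
  obtain ⟨x, hx, h3, h4⟩ := row (NotCT.Orders.j1 h)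
    [(2, 3), (3, 1), (5, 1), (7, 1), (11, 1), (19, 1)] (by simp; norm_num) (by decide) (by norm_num) P hnc
  simp only [List.mem_cons, List.not_mem_nil, or_false] at hx
  rcases hx with rfl | rfl | rfl | rfl | rfl | rfl <;> subst h3 <;> try omega

theorem j2 (h : Spor.IsoJ2 G) : False := by
  obtain ⟨x, hx, h3, h4⟩ := row (NotCT.Orders.j2 h)
    [(2, 7), (3, 3), (5, 2), (7, 1)] (by simp; norm_num) (by decide) (by norm_num) P hnc
  simp only [List.mem_cons, List.not_mem_nil, or_false] at hx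
  rcases hx with rfl | rfl | rfl | rfl <;> subst h3 <;> try omega
  · exact SporJ2.not_j2_three (hTI.congr h.some)
  · exact SporJ2.not_j2_five (hTI.congr h.some)

theorem j3 (h : Spor.IsoJ3 G) : False := by
  obtain ⟨x, hx, h3, h4⟩ := row (NotCT.Orders.j3 h)
    [(2, 7), (3, 5), (5, 1), (17, 1), (19, 1)] (by simp; norm_num) (by decide) (by norm_num) P hnc
  simp only [List.mem_cons, List.not_mem_nil, or_false] at hx
  rcases hx with rfl | rfl | rfl | rfl | rfl <;> subst h3 <;> try omega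
  · exact SporJ3.not_j3_three h hTI

theorem hs (h : Spor.IsoHS G) : False := by
  obtain ⟨x, hx, h3, h4⟩ := row (NotCT.Orders.hs h)
    [(2, 9), (3, 2), (5, 3), (7, 1), (11, 1)] (by simp; norm_num) (by decide) (by norm_num) P hnc
  simp only [List.mem_cons, List.not_mem_nil, or_false] at hx
  rcases hx with rfl | rfl | rfl | rfl | rfl <;> subst h3 <;> try omega
  · exact SporHS.not_hs_three h hTI
  · exact SporHS.not_hs_five h hTI

theorem he (h : Spor.IsoHe G) : False := by
  obtain ⟨x, hx, h3, h4⟩ := row (NotCT.Orders.he h)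
    [(2, 10), (3, 3), (5, 2), (7, 3), (17, 1)] (by simp; norm_num) (by decide) (by norm_num) P hnc
  simp only [List.mem_cons, List.not_mem_nil, or_false] at hx
  rcases hx with rfl | rfl | rfl | rfl | rfl <;> subst h3 <;> try omega
  · exact SporSub.not_he_three (hTI.congr h.some)
  · exact SporSub.not_he_five (hTI.congr h.some)
  · exact TIC.not_of_nosp (H998.StrP.he_7 (NotCT.Orders.he h)) P hnc hTI

theorem suz (h : Spor.IsoSuz G) : False := by
  obtain ⟨x, hx, h3, h4⟩ := row (NotCT.Orders.suz h)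
    [(2, 13), (3, 7), (5, 2), (7, 1), (11, 1), (13, 1)] (by simp; norm_num) (by decide) (by norm_num) P hnc
  simp only [List.mem_cons, List.not_mem_nil, or_false] at hx
  rcases hx with rfl | rfl | rfl | rfl | rfl | rfl <;> subst h3 <;> try omega
  · exact TIC.not_of_nosp (H998.StrP.suz_3 (NotCT.Orders.suz h)) P hnc hTI
  · exact SporSub.not_suz_five (hTI.congr h.some)

theorem ly (h : Spor.IsoLy G) : False := by
  obtain ⟨x, hx, h3, h4⟩ := row (NotCT.Orders.ly h)
    [(2, 8), (3, 7), (5, 6), (7, 1), (11, 1), (31, 1), (37, 1), (67, 1)] (by simp; norm_num) (by decide) (by norm_num) P hnc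
  simp only [List.mem_cons, List.not_mem_nil, or_false] at hx
  rcases hx with rfl | rfl | rfl | rfl | rfl | rfl | rfl | rfl <;> subst h3 <;> try omega
  · exact SporSub.not_ly_three (hTI.congr h.some)
  · exact TIC.not_of_nosp (H998.StrP.ly_5 (NotCT.Orders.ly h)) P hnc hTI

theorem on (h : Spor.IsoON G) : False := by
  obtain ⟨x, hx, h3, h4⟩ := row (NotCT.Orders.on h)
    [(2, 9), (3, 4), (5, 1), (7, 3), (11, 1), (19, 1), (31, 1)] (by simp; norm_num) (by decide) (by norm_num) P hnc
  simp only [List.mem_cons, List.not_mem_nil, or_false] at hx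
  rcases hx with rfl | rfl | rfl | rfl | rfl | rfl | rfl <;> subst h3 <;> try omega
  · exact SporSub.not_on_three (hTI.congr h.some)
  · exact SporSub.not_on_seven (hTI.congr h.some)

theorem ru (h : Spor.IsoRu G) : False := by
  obtain ⟨x, hx, h3, h4⟩ := row (NotCT.Orders.ru h)
    [(2, 14), (3, 3), (5, 3), (7, 1), (13, 1), (29, 1)] (by simp; norm_num) (by decide) (by norm_num) P hnc
  simp only [List.mem_cons, List.not_mem_nil, or_false] at hx
  rcases hx with rfl | rfl | rfl | rfl | rfl | rfl <;> subst h3 <;> try omega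
  · exact TIC.not_of_nosp (H660.NoSPRows.nosp_ru_3 h) P hnc hTI
  · exact TIC.not_of_nosp (H660.NoSPRows.nosp_ru_5 h) P hnc hTI

theorem co1 (h : Spor.IsoCo1 G) : False := by
  obtain ⟨x, hx, h3, h4⟩ := row (NotCT.Orders.co1 h)
    [(2, 21), (3, 9), (5, 4), (7, 2), (11, 1), (13, 1), (23, 1)] (by simp; norm_num) (by decide) (by norm_num) P hnc
  simp only [List.mem_cons, List.not_mem_nil, or_false] at hx
  rcases hx with rfl | rfl | rfl | rfl | rfl | rfl | rfl <;> subst h3 <;> try omega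
  · exact TIC.not_of_nosp (H998.StrP.co1_3 (NotCT.Orders.co1 h)) P hnc hTI
  · exact SporCo.not_co1 (hTI.congr h.some)
  · exact TIC.not_of_nosp (H752.CoOneSevenSP.nosp_co1_7 h) P hnc hTI

theorem co2 (h : Spor.IsoCo2 G) : False := by
  obtain ⟨x, hx, h3, h4⟩ := row (NotCT.Orders.co2 h)
    [(2, 18), (3, 6), (5, 3), (7, 1), (11, 1), (23, 1)] (by simp; norm_num) (by decide) (by norm_num) P hnc
  simp only [List.mem_cons, List.not_mem_nil, or_false] at hx
  rcases hx with rfl | rfl | rfl | rfl | rfl | rfl <;> subst h3 <;> try omega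
  · exact TIC.not_of_nosp (H998.StrP.co2_3 (NotCT.Orders.co2 h)) P hnc hTI
  · exact SporCo.not_co2 (hTI.congr h.some)

theorem co3 (h : Spor.IsoCo3 G) : False := by
  obtain ⟨x, hx, h3, h4⟩ := row (NotCT.Orders.co3 h)
    [(2, 10), (3, 7), (5, 3), (7, 1), (11, 1), (23, 1)] (by simp; norm_num) (by decide) (by norm_num) P hnc
  simp only [List.mem_cons, List.not_mem_nil, or_false] at hx
  rcases hx with rfl | rfl | rfl | rfl | rfl | rfl <;> subst h3 <;> try omega
  · exact TIC.not_of_nosp (H998.StrP.co3_3 (NotCT.Orders.co3 h)) P hnc hTI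
  · exact SporCo.not_co3 (hTI.congr h.some)

theorem fi22 (h : Spor.IsoFi22 G) : False := by
  obtain ⟨x, hx, h3, h4⟩ := row (NotCT.Orders.fi22 h)
    [(2, 17), (3, 9), (5, 2), (7, 1), (11, 1), (13, 1)] (by simp; norm_num) (by decide) (by norm_num) P hnc
  simp only [List.mem_cons, List.not_mem_nil, or_false] at hx
  rcases hx with rfl | rfl | rfl | rfl | rfl | rfl <;> subst h3 <;> try omega
  · exact TIC.not_of_nosp (H998.StrP.fi22_3 (NotCT.Orders.fi22 h)) P hnc hTI
  · exact SporFi.not_fi22_five h hTI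

theorem fi23 (h : Spor.IsoFi23 G) : False := by
  obtain ⟨x, hx, h3, h4⟩ := row (NotCT.Orders.fi23 h)
    [(2, 18), (3, 13), (5, 2), (7, 1), (11, 1), (13, 1), (17, 1), (23, 1)] (by simp; norm_num) (by decide) (by norm_num) P hnc
  simp only [List.mem_cons, List.not_mem_nil, or_false] at hx
  rcases hx with rfl | rfl | rfl | rfl | rfl | rfl | rfl | rfl <;> subst h3 <;> try omega
  · exact TIC.not_of_nosp (H998.StrP.fi23_3 (NotCT.Orders.fi23 h)) P hnc hTI
  · exact TIC.not_of_nosp (H154.StrP.Fi23.nosp_fi23_5 h) P hnc hTI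

theorem fi24 (h : Spor.IsoFi24' G) : False := by
  obtain ⟨x, hx, h3, h4⟩ := row (NotCT.Orders.fi24 h)
    [(2, 21), (3, 16), (5, 2), (7, 3), (11, 1), (13, 1), (17, 1), (23, 1), (29, 1)] (by simp; norm_num) (by decide) (by norm_num) P hnc
  simp only [List.mem_cons, List.not_mem_nil, or_false] at hx
  rcases hx with rfl | rfl | rfl | rfl | rfl | rfl | rfl | rfl | rfl <;> subst h3 <;> try omega
  · exact TIC.not_of_nosp (H998.StrP.fi24_3 (NotCT.Orders.fi24 h)) P hnc hTI
  · exact TIC.not_of_nosp (H52.StrFi24.nosp_fi24p_5 h) P hnc hTI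
  · exact TIC.not_of_nosp (H52.StrFi24.nosp_fi24p_7 h) P hnc hTI

theorem hn (h : Spor.IsoHN G) : False := by
  obtain ⟨x, hx, h3, h4⟩ := row (NotCT.Orders.hn h)
    [(2, 14), (3, 6), (5, 6), (7, 1), (11, 1), (19, 1)] (by simp; norm_num) (by decide) (by norm_num) P hnc
  simp only [List.mem_cons, List.not_mem_nil, or_false] at hx
  rcases hx with rfl | rfl | rfl | rfl | rfl | rfl <;> subst h3 <;> try omega
  · exact SporSub.not_hn_three (hTI.congr h.some)
  · exact TIC.not_of_nosp (H998.StrP.hn_5 (NotCT.Orders.hn h)) P hnc hTI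

theorem m11 (h : Spor.IsoM11 G) : p = 3 := by
  obtain ⟨x, hx, h3, h4⟩ := row (NotCT.Orders.m11 h)
    [(2, 4), (3, 2), (5, 1), (11, 1)] (by simp; norm_num) (by decide) (by norm_num) P hnc
  simp only [List.mem_cons, List.not_mem_nil, or_false] at hx
  rcases hx with rfl | rfl | rfl | rfl <;> subst h3 <;> try omega

theorem mcl (h : Spor.IsoMcL G) : p = 5 := by
  obtain ⟨x, hx, h3, h4⟩ := row (NotCT.Orders.mcl h)
    [(2, 7), (3, 6), (5, 3), (7, 1), (11, 1)] (by simp; norm_num) (by decide) (by norm_num) P hnc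
  simp only [List.mem_cons, List.not_mem_nil, or_false] at hx
  rcases hx with rfl | rfl | rfl | rfl | rfl <;> subst h3 <;> try omega
  exact absurd hTI (TIC.not_of_nosp (H998.StrP.mcl_3 (NotCT.Orders.mcl h)) P hnc)

theorem j4 (h : Spor.IsoJ4 G) : p = 11 := by
  obtain ⟨x, hx, h3, h4⟩ := row (NotCT.Orders.j4 h)
    [(2, 21), (3, 3), (5, 1), (7, 1), (11, 3), (23, 1), (29, 1), (31, 1), (37, 1), (43, 1)]
    (by simp; norm_num) (by decide) (by norm_num) P hnc
  simp only [List.mem_cons, List.not_mem_nil, or_false] at hx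
  rcases hx with rfl | rfl | rfl | rfl | rfl | rfl | rfl | rfl | rfl | rfl <;> subst h3 <;> try omega
  exact absurd (hTI.congr h.some) SporSub.not_j4_three

theorem tits (h : Lie.IsoTits G) : p = 5 := by
  obtain ⟨x, hx, h3, h4⟩ := row (NotCT.Orders.tits h)
    [(2, 11), (3, 3), (5, 2), (13, 1)] (by simp; norm_num) (by decide) (by norm_num) P hnc
  simp only [List.mem_cons, List.not_mem_nil, or_false] at hx
  rcases hx with rfl | rfl | rfl | rfl <;> subst h3 <;> try omega
  exact absurd hTI (SporTits.not_tits_three h)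

theorem th (Tb : OrdDiv.OrderTable.{0}) (hS : ∀ (S : Type) [Group S] [Finite S] [IsSimpleGroup S], IsKnownSimple' S)
    (h : Spor.IsoTh G) : False := by
  obtain ⟨x, hx, h3, h4⟩ := row (NotCT.Orders.th h)
    [(2, 15), (3, 10), (5, 3), (7, 2), (13, 1), (19, 1), (31, 1)] (by simp; norm_num) (by decide) (by norm_num) P hnc
  simp only [List.mem_cons, List.not_mem_nil, or_false] at hx
  rcases hx with rfl | rfl | rfl | rfl | rfl | rfl | rfl <;> subst h3 <;> try omega
  · exact TIC.not_of_nosp (H998.StrP.th_3 (NotCT.Orders.th h)) P hnc hTI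
  · exact TIC.not_of_nosp (H49.ThFive.nosp_th_5 Tb hS h) P hnc hTI
  · exact TIC.not_of_nosp (H49.ThSeven.nosp_th_7 Tb hS h) P hnc hTI

/-- **The sporadic groups and the Tits group**, given the rows of `B` and `M`. -/
theorem spor_of (Tb : OrdDiv.OrderTable.{0})
    (hS : ∀ (S : Type) [Group S] [Finite S] [IsSimpleGroup S], IsKnownSimple' S) (hB : ¬ Spor.IsoB G) (hM : ¬ Spor.IsoM G)
    (h : IsSporadicGroup G ∨ Lie.IsoTits G) :
    (p = 3 ∧ Spor.IsoM11 G) ∨ (p = 5 ∧ (Lie.IsoTits G ∨ Spor.IsoMcL G)) ∨ (p = 11 ∧ Spor.IsoJ4 G) := by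
  rcases h with h | h
  · rcases h with h | h | h | h | h | h | h | h | h | h | h | h | h | h | h | h | h | h | h | h | h | h | h | h | h | h
    · exact Or.inl ⟨m11 h2 hTI P hnc h, h⟩
    · exact (m12 h2 hTI P hnc h).elim
    · exact (m22 h2 hTI P hnc h).elim
    · exact (m23 h2 hTI P hnc h).elim
    · exact (m24 h2 hTI P hnc h).elim
    · exact (j1 h2 hTI P hnc h).elim
    · exact (j2 h2 hTI P hnc h).elim
    · exact (j3 h2 hTI P hnc h).elim
    · exact Or.inr (Or.inr ⟨j4 h2 hTI P hnc h, h⟩)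
    · exact (co1 h2 hTI P hnc h).elim
    · exact (co2 h2 hTI P hnc h).elim
    · exact (co3 h2 hTI P hnc h).elim
    · exact Or.inr (Or.inl ⟨mcl h2 hTI P hnc h, Or.inr h⟩)
    · exact (hs h2 hTI P hnc h).elim
    · exact (suz h2 hTI P hnc h).elim
    · exact (he h2 hTI P hnc h).elim
    · exact (ru h2 hTI P hnc h).elim
    · exact (on h2 hTI P hnc h).elim
    · exact (ly h2 hTI P hnc h).elim
    · exact (fi22 h2 hTI P hnc h).elim
    · exact (fi23 h2 hTI P hnc h).elim
    · exact (fi24 h2 hTI P hnc h).elim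
    · exact (hn h2 hTI P hnc h).elim
    · exact (th h2 hTI P hnc Tb hS h).elim
    · exact (hB h).elim
    · exact (hM h).elim
  · exact Or.inr (Or.inl ⟨tits h2 hTI P hnc h, Or.inl h⟩)

end Rows

end Cfsg.Agent.H665.SporTI
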