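import Cfsg.Agent.H665.SporTI
import Cfsg.Agent.H666.SporBM
import Cfsg.Agent.H666.SporM

/-!
# The sporadic groups with a noncyclic TI Sylow `p`-subgroup, `p` odd: with the rows of `B` and `M` (helper665)
-/

set_option autoImplicit false

namespace Cfsg.Agent.H665.SporTIAll

open Subgroup Cfsg Cfsg.Agent.H666.TI

variable {G : Type*} [Group G] [Finite G] {p : ℕ} [hp : Fact p.Prime]

section Rows

variable [IsSimpleGroup G] (hna : ¬ IsMulCommutative G) (h2 : p ≠ 2) (hTI : IsTI p G) (P : Sylow p G)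
  (hnc : ¬ IsCyclic ↥(P : Subgroup G))

include hna h2 hTI hnc

theorem b (h : Spor.IsoB G) : False := by
  obtain ⟨x, hx, h3, h4⟩ := SporTI.row (NotCT.Orders.b h)
    [(2, 41), (3, 13), (5, 6), (7, 2), (11, 1), (13, 1), (17, 1), (19, 1), (23, 1), (31, 1), (47, 1)]
    (by simp; norm_num) (by decide) (by norm_num) P hnc
  simp only [List.mem_cons, List.not_mem_nil, or_false] at hx
  rcases hx with rfl | rfl | rfl | rfl | rfl | rfl | rfl | rfl | rfl | rfl | rfl <;> subst h3 <;> try omega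
  · exact H666.SporBM.b_3 hna h hTI
  · exact H666.SporBM.b_5 h hTI
  · exact H666.SporBM.b_7 h P hnc hTI

theorem m (h : Spor.IsoM G) : False := by
  obtain ⟨x, hx, h3, h4⟩ := SporTI.row (NotCT.Orders.m h)
    [(2, 46), (3, 20), (5, 9), (7, 6), (11, 2), (13, 3), (17, 1), (19, 1), (23, 1), (29, 1), (31, 1), (41, 1), (47, 1), (59, 1), (71, 1)]
    (by simp; norm_num) (by decide) (by norm_num) P hnc
  simp only [List.mem_cons, List.not_mem_nil, or_false] at hx
  rcases hx with rfl | rfl | rfl | rfl | rfl | rfl | rfl | rfl | rfl | rfl | rfl | rfl | rfl | rfl | rfl <;> subst h3 <;> try omega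
  · exact H666.SporBM.m_3 hna h hTI
  · exact H666.SporBM.m_5 h hTI
  · exact H666.SporBM.m_7 h hTI
  · exact H666.SporM.m_11 h hTI
  · exact H666.SporM.m_13 h hTI

/-- **The sporadic groups and the Tits group.** -/
theorem spor_ti (Tb : OrdDiv.OrderTable.{0})
    (hS : ∀ (S : Type) [Group S] [Finite S] [IsSimpleGroup S], IsKnownSimple' S)
    (h : IsSporadicGroup G ∨ Lie.IsoTits G) :
    (p = 3 ∧ Spor.IsoM11 G) ∨ (p = 5 ∧ (Lie.IsoTits G ∨ Spor.IsoMcL G)) ∨ (p = 11 ∧ Spor.IsoJ4 G) :=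
  SporTI.spor_of h2 hTI P hnc Tb hS (b hna h2 hTI P hnc) (m hna h2 hTI P hnc) h

end Rows

end Cfsg.Agent.H665.SporTIAll
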