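import Mathlib
import Cfsg.Agent.H666.TIBasic

/-!
# Groups with TI Sylow subgroups: criteria

* `not_of_wit` : `a ≠ 1`, `x`, `z` of order dividing `p`, `x`, `z` commuting with `a`, `x z ≠ 1` of order prime to
  `p`: the group is not `IsTI p`.
* `mem_norm`, `cent_le`, `card_cent_dvd`: centralizers of `p`-elements are in the Sylow normalizer.
-/

set_option autoImplicit false

namespace Cfsg.Agent.H665.TIA

open Subgroup Cfsg.Agent.H666.TI

variable {G : Type*} [Group G] {p : ℕ} [hp : Fact p.Prime]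

theorem not_of_wit (a x z : G) (ha : a ≠ 1) (hap : a ^ p = 1) (hx : x ^ p = 1) (hz : z ^ p = 1)
    (hax : a * x = x * a) (haz : a * z = z * a) {n : ℕ} (hn : (x * z) ^ n = 1) (hpn : ¬ p ∣ n)
    (hne : x * z ≠ 1) : ¬ IsTI p G := fun h =>
  hne ((h.mul_pElt ha (pElt_of_pow hap) (pElt_of_pow hx) (pElt_of_pow hz) hax haz).eq_one hn hpn)

omit hp in
theorem not_of_inj {K : Type*} [Group K] (f : K →* G) (hf : Function.Injective f) (h : ¬ IsTI p K) :
    ¬ IsTI p G := fun hG => h (hG.of_injective f hf)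

theorem mem_norm (h : IsTI p G) (P : Sylow p G) {x g : G} (hx : x ∈ (P : Subgroup G)) (hx1 : x ≠ 1)
    (hg : g * x * g⁻¹ ∈ (P : Subgroup G)) : g ∈ normalizer ((P : Subgroup G) : Set G) := by
  refine Sylow.smul_eq_iff_mem_normalizer.mp ?_
  have h1 : g * x * g⁻¹ ∈ (g • P : Sylow p G) := by
    show g * x * g⁻¹ ∈ ((g • P : Sylow p G) : Subgroup G)
    rw [Sylow.coe_subgroup_smul]
    exact ⟨x, hx, rfl⟩
  refine h.sylow_eq h1 hg ?_
  intro h0
  apply hx1
  have : x = g⁻¹ * (g * x * g⁻¹) * g := by group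
  rw [this, h0]; group

theorem cent_le (h : IsTI p G) (P : Sylow p G) {x : G} (hx : x ∈ (P : Subgroup G)) (hx1 : x ≠ 1) :
    centralizer ({x} : Set G) ≤ normalizer ((P : Subgroup G) : Set G) := by
  intro g hg
  rw [mem_centralizer_singleton_iff] at hg
  refine mem_norm h P hx hx1 ?_
  have h1 : g * x * g⁻¹ = x := by rw [hg, mul_inv_cancel_right]
  rw [h1]
  exact hx

end Cfsg.Agent.H665.TIA
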