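import Mathlib
import Cfsg.Agent.H665.TIA
import Cfsg.Agent.SignalizersComponents.CoprimeGen

/-!
# Groups with TI Sylow subgroups: a four-group, or a commutator, in the centralizer of a `p`-element
-/

set_option autoImplicit false

namespace Cfsg.Agent.H665.TIB

open Subgroup Cfsg Cfsg.Agent.H666.TI Cfsg.Agent.H665.TIA

variable {G : Type*} [Group G]

/-- The four-group `{1, u, v, u v}`. -/
def four (u v : G) (hu : u * u = 1) (hv : v * v = 1) (huv : u * v = v * u) : Subgroup G where
  carrier := {1, u, v, u * v}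
  one_mem' := by simp
  mul_mem' := by
    have h1 : u * (u * v) = v := by rw [← mul_assoc, hu, one_mul]
    have h2 : v * u = u * v := huv.symm
    have h3 : v * (u * v) = u := by rw [huv, ← mul_assoc, hv, one_mul]
    have h4 : u * v * u = v := by rw [mul_assoc, ← huv, h1]
    have h5 : u * v * v = u := by rw [mul_assoc, hv, mul_one]
    have h6 : u * v * (u * v) = 1 := by rw [← mul_assoc, h4, hv]
    rintro a b (rfl | rfl | rfl | rfl) (rfl | rfl | rfl | rfl) <;>
      simp [hu, hv, h1, h2, h3, h4, h5, h6]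
  inv_mem' := by
    have e1 : u⁻¹ = u := inv_eq_of_mul_eq_one_left hu
    have e2 : v⁻¹ = v := inv_eq_of_mul_eq_one_left hv
    have e3 : (u * v)⁻¹ = u * v := by rw [mul_inv_rev, e1, e2, huv]
    rintro a (rfl | rfl | rfl | rfl)
    · simp
    · rw [e1]; simp
    · rw [e2]; simp
    · rw [e3]; simp

theorem mem_four {u v : G} {hu : u * u = 1} {hv : v * v = 1} {huv : u * v = v * u} {x : G} :
    x ∈ four u v hu hv huv ↔ x = 1 ∨ x = u ∨ x = v ∨ x = u * v := Iff.rfl

variable [Finite G] {p : ℕ} [hp : Fact p.Prime]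

theorem pow_dvd_sylow (P : Sylow p G) {k : ℕ} (h : p ^ k ∣ Nat.card G) :
    p ^ k ∣ Nat.card (P : Subgroup G) := by
  have h1 : Nat.card (P : Subgroup G) = p ^ Nat.factorization (Nat.card G) p :=
    P.card_eq_multiplicity
  rw [h1]
  exact pow_dvd_pow p ((hp.out.pow_dvd_iff_le_factorization Nat.card_pos.ne').mp h)

/-- `u ≠ v` commuting involutions centralizing the `p`-subgroup `R` of order `p ^ b`, `b ≠ 0`, the `p`-parts of the
orders of `C(u)`, `C(v)`, `C(u v)` at most `p ^ b`, and `p ^ (b + 1)` divides `|G|`. -/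
theorem not_of_four (hp2 : p ≠ 2) {u v : G} (hu : u * u = 1) (hv : v * v = 1) (hu1 : u ≠ 1)
    (hv1 : v ≠ 1) (huv : u * v = v * u) (hne : u ≠ v) {R : Subgroup G} {b : ℕ}
    (hR : Nat.card R = p ^ b) (hb : b ≠ 0) (hRu : ∀ r ∈ R, r * u = u * r)
    (hRv : ∀ r ∈ R, r * v = v * r) (h1 : ¬ p ^ (b + 1) ∣ Nat.card (centralizer ({u} : Set G)))
    (h2 : ¬ p ^ (b + 1) ∣ Nat.card (centralizer ({v} : Set G)))
    (h3 : ¬ p ^ (b + 1) ∣ Nat.card (centralizer ({u * v} : Set G)))
    (hG : p ^ (b + 1) ∣ Nat.card G) : ¬ IsTI p G := by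
  intro h
  have hRp : IsPGroup p R := IsPGroup.of_card hR
  obtain ⟨P, hP⟩ := hRp.exists_le_sylow
  obtain ⟨x, hx, hx1⟩ : ∃ x ∈ R, x ≠ 1 := by
    rcases R.bot_or_exists_ne_one with h0 | h0
    · rw [h0, Subgroup.card_bot] at hR
      exact absurd hR.symm (Nat.one_lt_pow hb hp.out.one_lt).ne'
    · exact h0
  have key : ∀ w : G, (∀ r ∈ R, r * w = w * r) →
      ¬ p ^ (b + 1) ∣ Nat.card (centralizer ({w} : Set G)) →
      (P : Subgroup G) ⊓ centralizer ({w} : Set G) = R := by
    intro w hw hn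
    have hle : R ≤ (P : Subgroup G) ⊓ centralizer ({w} : Set G) := fun r hr =>
      ⟨hP hr, mem_centralizer_singleton_iff.mpr (hw r hr)⟩
    have hp1 : IsPGroup p ↥((P : Subgroup G) ⊓ centralizer ({w} : Set G)) :=
      P.isPGroup'.to_le inf_le_left
    obtain ⟨m, hm⟩ := IsPGroup.iff_card.mp hp1
    have h4 : p ^ m ∣ Nat.card (centralizer ({w} : Set G)) := by
      rw [← hm]; exact Subgroup.card_dvd_of_le inf_le_right
    have h5 : m ≤ b := by
      by_contra hlt
      exact hn ((pow_dvd_pow p (by omega)).trans h4)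
    symm
    apply Subgroup.eq_of_le_of_card_ge hle
    rw [hm, hR]
    exact Nat.pow_le_pow_right hp.out.pos h5
  have hnu : u ∈ normalizer ((P : Subgroup G) : Set G) :=
    cent_le h P (hP hx) hx1 (mem_centralizer_singleton_iff.mpr (hRu x hx).symm)
  have hnv : v ∈ normalizer ((P : Subgroup G) : Set G) :=
    cent_le h P (hP hx) hx1 (mem_centralizer_singleton_iff.mpr (hRv x hx).symm)
  have huv1 : u * v ≠ 1 := by
    intro h0
    apply hne
    have : u * v * v = v := by rw [h0, one_mul]
    rwa [mul_assoc, hv, mul_one] at this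
  have hA : IsElementaryAbelian 2 (four u v hu hv huv) := by
    have e1 : u * (u * v) = v := by rw [← mul_assoc, hu, one_mul]
    have e3 : v * (u * v) = u := by rw [huv, ← mul_assoc, hv, one_mul]
    have e4 : u * v * u = v := by rw [mul_assoc, ← huv, e1]
    have e5 : u * v * v = u := by rw [mul_assoc, hv, mul_one]
    constructor
    · refine ⟨⟨?_⟩⟩
      rintro ⟨a, ha⟩ ⟨c, hc⟩
      apply Subtype.ext
      show a * c = c * a
      rcases ha with rfl | rfl | rfl | rfl <;> rcases hc with rfl | rfl | rfl | rfl <;>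
        simp [huv.symm, e1, e3, e4, e5]
    · rintro a (rfl | rfl | rfl | rfl)
      · simp
      · rw [pow_two, hu]
      · rw [pow_two, hv]
      · rw [pow_two, ← mul_assoc, e4, hv]
  have hA4 : 2 ^ 2 ≤ Nat.card (four u v hu hv huv) := by
    classical
    have e : Nat.card (four u v hu hv huv) = ({1, u, v, u * v} : Finset G).card := by
      rw [← SetLike.coe_sort_coe, Nat.card_coe_set_eq, ← Set.ncard_coe_finset]
      congr 1
      ext y
      simp [four]
    rw [e]
    have hvuv : v ≠ u * v := fun h0 => hu1 (mul_eq_right.mp h0.symm)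
    have huuv : u ≠ u * v := fun h0 => hv1 (mul_eq_left.mp h0.symm)
    have n1 : (1 : G) ∉ ({u, v, u * v} : Finset G) := by
      simp only [Finset.mem_insert, Finset.mem_singleton, not_or]
      exact ⟨hu1.symm, hv1.symm, huv1.symm⟩
    have n2 : u ∉ ({v, u * v} : Finset G) := by
      simp only [Finset.mem_insert, Finset.mem_singleton, not_or]
      exact ⟨hne, huuv⟩
    have n3 : v ∉ ({u * v} : Finset G) := by
      simp only [Finset.mem_singleton]
      exact hvuv
    rw [Finset.card_insert_of_notMem n1, Finset.card_insert_of_notMem n2,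
      Finset.card_insert_of_notMem n3, Finset.card_singleton]
    norm_num
  have hPc : ¬ 2 ∣ Nat.card (P : Subgroup G) := by
    obtain ⟨m, hm⟩ := IsPGroup.iff_card.mp P.isPGroup'
    rw [hm]
    intro h0
    have := (Nat.prime_dvd_prime_iff_eq Nat.prime_two hp.out).mp (Nat.prime_two.dvd_of_dvd_pow h0)
    exact hp2 this.symm
  have : Fact (Nat.Prime 2) := ⟨Nat.prime_two⟩
  have hle := SignalizersComponents.CoprimeGen.le_iSup_centralizer_ne_one hA hA4 hPc (by
    rintro a (rfl | rfl | rfl | rfl)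
    · exact one_mem _
    · exact hnu
    · exact hnv
    · exact mul_mem hnu hnv)
  have hPR : (P : Subgroup G) ≤ R := by
    refine hle.trans (iSup_le ?_)
    rintro ⟨a, ha, ha1⟩
    rcases ha with rfl | rfl | rfl | rfl
    · exact absurd rfl ha1
    · exact (key a hRu h1).le
    · exact (key a hRv h2).le
    · refine (key _ ?_ h3).le
      intro r hr
      rw [← mul_assoc, hRu r hr, mul_assoc, hRv r hr, mul_assoc]
  have h6 : p ^ (b + 1) ∣ Nat.card (P : Subgroup G) := pow_dvd_sylow P hG
  have h7 := (h6.trans (Subgroup.card_dvd_of_le hPR))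
  rw [hR] at h7
  have h8 := Nat.le_of_dvd (pow_pos hp.out.pos _) h7
  exact absurd h8 (not_le.mpr (Nat.pow_lt_pow_right hp.out.one_lt (by omega)))

end Cfsg.Agent.H665.TIB
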