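import Cfsg.Agent.H665.TIC

/-!
# Groups with TI Sylow subgroups: central extensions
-/

set_option autoImplicit false

namespace Cfsg.Agent.H665.TID

open Subgroup Cfsg Cfsg.Agent.H666.TI Cfsg.Agent.H665.TIA

variable {K L : Type*} [Group K] [Finite K] [Group L] {p : ℕ} [hp : Fact p.Prime]

/-- a `p`-subgroup of a quotient is the image of a `p`-subgroup -/
theorem exists_lift (f : K →* L) (hf : Function.Surjective f) {A : Subgroup L} (hA : IsPGroup p A) :
    ∃ A' : Subgroup K, IsPGroup p A' ∧ A'.map f = A := by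
  have : Finite L := Finite.of_surjective f hf
  obtain ⟨P⟩ : Nonempty (Sylow p (A.comap f)) := inferInstance
  let g : A.comap f →* A := f.subgroupComap A
  have hg : Function.Surjective g := by
    rintro ⟨y, hy⟩
    obtain ⟨x, rfl⟩ := hf y
    exact ⟨⟨x, hy⟩, rfl⟩
  have h1 : (P : Subgroup (A.comap f)).map g = ⊤ := by
    have h2 := (P.mapSurjective hg)
    have h3 : (P.mapSurjective hg : Subgroup A) = ⊤ := by
      refine ((P.mapSurjective hg).is_maximal' (Q := ⊤) ?_ le_top).symm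
      exact hA.of_equiv Subgroup.topEquiv.symm
    rw [Sylow.coe_mapSurjective] at h3
    exact h3
  refine ⟨(P : Subgroup (A.comap f)).map (A.comap f).subtype, P.isPGroup'.map _, ?_⟩
  rw [Subgroup.map_map]
  have h4 : f.comp (A.comap f).subtype = A.subtype.comp g := rfl
  rw [h4, ← Subgroup.map_map, h1, ← MonoidHom.range_eq_map, Subgroup.range_subtype]

theorem of_surj (f : K →* L) (hf : Function.Surjective f) (hc : f.ker ≤ center K)
    (hk : ¬ p ∣ Nat.card f.ker) (h : IsTI p K) : IsTI p L := by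
  intro A B hA hB hAB
  obtain ⟨A', hA', rfl⟩ := exists_lift f hf hA
  obtain ⟨B', hB', rfl⟩ := exists_lift f hf hB
  rw [← Subgroup.map_sup]
  refine (h A' B' hA' hB' ?_).map f
  obtain ⟨x, hx, hx1⟩ := (Subgroup.bot_or_exists_ne_one _).resolve_left hAB
  obtain ⟨⟨a, ha, rfl⟩, ⟨b, hb, hba⟩⟩ := hx
  have hker : b⁻¹ * a ∈ f.ker := by
    rw [MonoidHom.mem_ker, map_mul, map_inv, hba, inv_mul_cancel]
  have hcen := mem_center_iff.mp (hc hker)
  have hp1 : PElt p a := pElt_of_mem hA' ha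
  have hp2 : PElt p b := pElt_of_mem hB' hb
  have hn : b⁻¹ * a = 1 := by
    obtain ⟨i, hi⟩ := hp1
    obtain ⟨j, hj⟩ := hp2
    have h1 : (b⁻¹ * a) ^ p ^ (i + j) = 1 := by
      have h2 : a = b * (b⁻¹ * a) := by group
      have h3 : a ^ p ^ (i + j) = b ^ p ^ (i + j) * (b⁻¹ * a) ^ p ^ (i + j) := by
        conv_lhs => rw [h2]
        exact (show Commute b (b⁻¹ * a) from hcen b).mul_pow _
      have h4 : a ^ p ^ (i + j) = 1 := by rw [pow_add, pow_mul, hi, one_pow]
      have h5 : b ^ p ^ (i + j) = 1 := by rw [pow_add, mul_comm, pow_mul, hj, one_pow]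
      rw [h4, h5, one_mul] at h3
      exact h3.symm
    have h2 : (b⁻¹ * a) ^ Nat.card f.ker = 1 := by
      have := pow_card_eq_one' (x := (⟨b⁻¹ * a, hker⟩ : f.ker))
      exact congrArg Subtype.val this
    exact PElt.eq_one ⟨_, h1⟩ h2 hk
  have hab : a = b := by rw [inv_mul_eq_one] at hn; exact hn.symm
  intro h0
  have : a ∈ A' ⊓ B' := ⟨ha, hab ▸ hb⟩
  rw [h0, Subgroup.mem_bot] at this
  apply hx1
  rw [this, map_one]

theorem not_of_surj (f : K →* L) (hf : Function.Surjective f) (hc : f.ker ≤ center K)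
    (hk : ¬ p ∣ Nat.card f.ker) (h : ¬ IsTI p L) : ¬ IsTI p K := fun hK => h (of_surj f hf hc hk hK)

end Cfsg.Agent.H665.TID
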