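import Cfsg.Agent.H665.TID

/-!
# Groups with TI Sylow subgroups: subgroups `SL₂(4)` and `SL₂(5)` in the centralizer of a `p`-element
-/

set_option autoImplicit false

namespace Cfsg.Agent.H665.TIE

open Subgroup Cfsg Cfsg.Agent.H666.TI Cfsg.Agent.H665.TIA

section Mat

variable {R : Type*} [CommRing R]

local notation "SL2" => Matrix.SpecialLinearGroup (Fin 2)

/-- a matrix of determinant one -/
def mk (a b c d : R) (h : a * d - b * c = 1) : SL2 R := ⟨!![a, b; c, d], by rw [Matrix.det_fin_two_of, h]⟩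

theorem mk_mul {a b c d a' b' c' d' : R} (h : a * d - b * c = 1) (h' : a' * d' - b' * c' = 1) :
    mk a b c d h * mk a' b' c' d' h' = mk (a * a' + b * c') (a * b' + b * d') (c * a' + d * c') (c * b' + d * d')
      (by linear_combination (a * d - b * c) * h' + h) := by
  apply Subtype.ext
  show !![a, b; c, d] * !![a', b'; c', d'] = _
  rw [Matrix.mul_fin_two]
  rfl

theorem sq {a b c d : R} (h : a * d - b * c = 1) :
    (mk a b c d h).1 * (mk a b c d h).1 = (a + d) • (mk a b c d h).1 - 1 := by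
  show !![a, b; c, d] * !![a, b; c, d] = (a + d) • !![a, b; c, d] - 1
  rw [Matrix.mul_fin_two]
  ext i j
  fin_cases i <;> fin_cases j
  · simp; linear_combination -h
  · simp; ring
  · simp; ring
  · simp; linear_combination -h

theorem pow_three {a b c d : R} (h : a * d - b * c = 1) (ht : a + d = -1) : mk a b c d h ^ 3 = 1 := by
  apply Subtype.ext
  have h1 := sq h
  rw [ht] at h1
  generalize mk a b c d h = g at h1 ⊢
  show (g ^ 3 : SL2 R).1 = 1
  rw [Matrix.SpecialLinearGroup.coe_pow, pow_succ, pow_two, h1, sub_mul, smul_mul_assoc, h1, one_mul]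
  rw [neg_smul, one_smul, neg_smul, one_smul]
  abel

theorem pow_two' {a b c d : R} (h2 : (2 : R) = 0) (h : a * d - b * c = 1) (ht : a + d = 0) :
    mk a b c d h ^ 2 = 1 := by
  apply Subtype.ext
  have h1 := sq h
  rw [ht] at h1
  generalize mk a b c d h = g at h1 ⊢
  show (g ^ 2 : SL2 R).1 = 1
  rw [Matrix.SpecialLinearGroup.coe_pow, pow_two, h1, zero_smul, zero_sub]
  have : (2 : R) • (1 : Matrix (Fin 2) (Fin 2) R) = 0 := by rw [h2, zero_smul]
  rw [two_smul] at this
  exact neg_eq_of_add_eq_zero_left this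

theorem pow_five {a b c d w : R} (h2 : (2 : R) = 0) (hw : w ^ 2 + w + 1 = 0) (h : a * d - b * c = 1)
    (ht : a + d = w) : mk a b c d h ^ 5 = 1 := by
  apply Subtype.ext
  have h1 := sq h
  rw [ht] at h1
  generalize mk a b c d h = g at h1 ⊢
  show (g ^ 5 : SL2 R).1 = 1
  have h4 : g.1 ^ 4 = (w ^ 3 - 2 * w) • g.1 + (1 - w ^ 2) • 1 := by
    have e : g.1 ^ 4 = (g.1 * g.1) * (g.1 * g.1) := by
      rw [show (4 : ℕ) = 2 + 2 from rfl, pow_add, pow_two]
    rw [e, h1]
    have e2 : (w • g.1 - 1) * (w • g.1 - 1) = (w * w) • (g.1 * g.1) - (2 * w) • g.1 + 1 := by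
      rw [sub_mul, mul_sub, one_mul, mul_one, smul_mul_smul_comm, two_mul, add_smul]
      abel
    rw [e2, h1, smul_sub, smul_smul]
    have e3 : (w ^ 3 - 2 * w) • g.1 = (w * w * w) • g.1 - (2 * w) • g.1 := by
      rw [← sub_smul]; congr 1; ring
    rw [e3, sub_smul, one_smul, pow_two]
    abel
  rw [Matrix.SpecialLinearGroup.coe_pow, pow_succ, h4, add_mul, smul_mul_assoc, h1, smul_mul_assoc, one_mul,
    smul_sub, smul_smul]
  have e5 : ((w ^ 3 - 2 * w) * w) • g.1 - (w ^ 3 - 2 * w) • (1 : Matrix (Fin 2) (Fin 2) R) + (1 - w ^ 2) • g.1 =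
      ((w ^ 3 - 2 * w) * w + (1 - w ^ 2)) • g.1 - (w ^ 3 - 2 * w) • (1 : Matrix (Fin 2) (Fin 2) R) := by
    rw [add_smul]; abel
  rw [e5]
  have e6 : (w ^ 3 - 2 * w) * w + (1 - w ^ 2) = 0 := by
    linear_combination (w ^ 2 - w - 3) * hw + (2 * w + 2) * h2
  have e7 : w ^ 3 - 2 * w = -1 := by
    linear_combination (w - 1) * hw + (1 - w) * h2
  rw [e6, e7, zero_smul, neg_smul, one_smul, zero_sub, neg_neg]

theorem pow_ten {a b c d : R} (h5 : (5 : R) = 0) (h : a * d - b * c = 1) (ht : a + d = -2) :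
    mk a b c d h ^ 10 = 1 := by
  apply Subtype.ext
  have h1 := sq h
  rw [ht] at h1
  generalize mk a b c d h = g at h1 ⊢
  show (g ^ 10 : SL2 R).1 = 1
  have h1' : g.1 ^ 2 = (-2 : R) • g.1 - 1 := by rw [pow_two, h1]
  have h4 : g.1 ^ 4 = (-4 : R) • g.1 - (3 : R) • 1 := by
    rw [show (4 : ℕ) = 2 + 2 from rfl, pow_add, h1']
    rw [sub_mul, mul_sub, one_mul, mul_one, smul_mul_smul_comm, h1, smul_sub, smul_smul]
    have e3 : ((-2 : R) * -2 * -2) • g.1 = (-8 : R) • g.1 := by congr 1; ring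
    have e4 : ((-2 : R) * -2) • (1 : Matrix (Fin 2) (Fin 2) R) = (4 : R) • 1 := by congr 1; ring
    rw [e3, e4]
    have e5 : (-4 : R) • g.1 = (-8 : R) • g.1 + (2 : R) • g.1 + (2 : R) • g.1 := by
      rw [← add_smul, ← add_smul]; congr 1; ring
    have e6 : (4 : R) • (1 : Matrix (Fin 2) (Fin 2) R) = (3 : R) • 1 + 1 := by
      rw [show (4 : R) = 3 + 1 by norm_num, add_smul, one_smul]
    rw [e5, e6, neg_smul (2 : R)]
    abel
  have h5' : g.1 ^ 5 = -1 := by
    rw [pow_succ, h4, sub_mul, smul_mul_assoc, h1, smul_mul_assoc, one_mul, smul_sub, smul_smul]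
    have e5 : ((-4 : R) * -2) • g.1 - (-4 : R) • (1 : Matrix (Fin 2) (Fin 2) R) - (3 : R) • g.1 =
        ((-4 : R) * -2 - 3) • g.1 - (-4 : R) • 1 := by
      rw [sub_smul]; abel
    rw [e5]
    have e6 : (-4 : R) * -2 - 3 = 0 := by linear_combination h5
    have e7 : (-4 : R) = 1 := by linear_combination -h5
    rw [e6, e7, zero_smul, one_smul, zero_sub]
  rw [Matrix.SpecialLinearGroup.coe_pow, show (10 : ℕ) = 5 + 5 from rfl, pow_add, h5', neg_mul_neg, mul_one]

end Mat

section TI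

variable {F : Type*} [Field F] {G : Type*} [Group G]

local notation "SL2" => Matrix.SpecialLinearGroup (Fin 2)

theorem mk_ne_one {a b c d : F} (h : a * d - b * c = 1) (hb : b ≠ 0) : mk a b c d h ≠ 1 := by
  intro h0
  have := congrArg (fun g : SL2 F => g.1 0 1) h0
  exact hb (by simpa [mk] using this)

theorem mk_ne_one' {a b c d : F} (h : a * d - b * c = 1) (hb : c ≠ 0) : mk a b c d h ≠ 1 := by
  intro h0
  have := congrArg (fun g : SL2 F => g.1 1 0) h0
  exact hb (by simpa [mk] using this)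

theorem exists_w [Fintype F] (hF : Fintype.card F = 4) : (2 : F) = 0 ∧ ∃ w : F, w ^ 2 + w + 1 = 0 := by
  have h4 : (4 : F) = 0 := by
    have := Nat.cast_card_eq_zero F
    rw [hF] at this
    exact_mod_cast this
  have h2 : (2 : F) = 0 := by
    have : (2 : F) * 2 = 0 := by linear_combination h4
    exact (mul_self_eq_zero).mp this
  refine ⟨h2, ?_⟩
  obtain ⟨w, hw0, hw1⟩ : ∃ w : F, w ≠ 0 ∧ w ≠ 1 := by
    classical
    by_contra hcon
    push Not at hcon
    have h1 : (Finset.univ : Finset F) ⊆ {0, 1} := by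
      intro c _
      by_cases hc : c = 0
      · simp [hc]
      · simp [hcon c hc]
    have h2 := Finset.card_le_card h1
    rw [Finset.card_univ, hF] at h2
    have h3 : ({0, 1} : Finset F).card ≤ 2 := Finset.card_le_two
    omega
  refine ⟨w, ?_⟩
  have h3 : w ^ 3 = 1 := by
    have := FiniteField.pow_card_sub_one_eq_one w hw0
    rwa [hF] at this
  have : (w - 1) * (w ^ 2 + w + 1) = 0 := by linear_combination h3
  rcases mul_eq_zero.mp this with h | h
  · exact absurd (sub_eq_zero.mp h) hw1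
  · exact h

variable [Fintype F]

/-- `SL₂(4)` in the centralizer of an element of order 3 -/
theorem not_three_of_four (hF : Fintype.card F = 4) (f : SL2 F →* G) (hf : Function.Injective f) {c : G}
    (hc : c ≠ 1) (hc3 : c ^ 3 = 1) (hcf : ∀ g, c * f g = f g * c) : ¬ IsTI 3 G := by
  obtain ⟨h2, w, hw⟩ := exists_w hF
  have : Fact (Nat.Prime 3) := ⟨Nat.prime_three⟩
  have hw3 : w ^ 3 = 1 := by linear_combination (w - 1) * hw
  have hx : (0 : F) * 1 - 1 * 1 = 1 := by linear_combination -h2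
  have hz : (0 : F) * 1 - w * w ^ 2 = 1 := by linear_combination -hw3 - h2
  have e1 : mk (0 : F) 1 1 1 hx ^ 3 = 1 := pow_three _ (by linear_combination h2)
  have e2 : mk (0 : F) w (w ^ 2) 1 hz ^ 3 = 1 := pow_three _ (by linear_combination h2)
  have e3 : (mk (0 : F) 1 1 1 hx * mk (0 : F) w (w ^ 2) 1 hz) ^ 2 = 1 := by
    rw [mk_mul]
    exact pow_two' h2 _ (by linear_combination hw)
  refine not_of_wit (p := 3) c (f (mk 0 1 1 1 hx)) (f (mk 0 w (w ^ 2) 1 hz)) hc hc3
    (by rw [← map_pow, e1, map_one]) (by rw [← map_pow, e2, map_one]) (hcf _) (hcf _) (n := 2)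
    (by rw [← map_mul, ← map_pow, e3, map_one]) (by norm_num) ?_
  rw [← map_mul, mk_mul]
  intro h0
  refine mk_ne_one _ ?_ (hf (h0.trans (map_one f).symm))
  simp

/-- `SL₂(4)` in the centralizer of an element of order 5 -/
theorem not_five_of_four (hF : Fintype.card F = 4) (f : SL2 F →* G) (hf : Function.Injective f) {c : G}
    (hc : c ≠ 1) (hc3 : c ^ 5 = 1) (hcf : ∀ g, c * f g = f g * c) : ¬ IsTI 5 G := by
  obtain ⟨h2, w, hw⟩ := exists_w hF
  have : Fact (Nat.Prime 5) := ⟨Nat.prime_five⟩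
  have hw3 : w ^ 3 = 1 := by linear_combination (w - 1) * hw
  have hx : (0 : F) * w - 1 * 1 = 1 := by linear_combination -h2
  have hz : (0 : F) * w ^ 2 - 1 * 1 = 1 := by linear_combination -h2
  have e1 : mk (0 : F) 1 1 w hx ^ 5 = 1 := pow_five h2 hw _ (by ring)
  have e2 : mk (0 : F) 1 1 (w ^ 2) hz ^ 5 = 1 := by
    refine pow_five (w := w ^ 2) h2 ?_ _ (by ring)
    linear_combination hw + w * hw3
  have e3 : (mk (0 : F) 1 1 w hx * mk (0 : F) 1 1 (w ^ 2) hz) ^ 3 = 1 := by
    rw [mk_mul]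
    exact pow_three _ (by linear_combination hw3 + 2 * h2)
  refine not_of_wit (p := 5) c (f (mk 0 1 1 w hx)) (f (mk 0 1 1 (w ^ 2) hz)) hc hc3
    (by rw [← map_pow, e1, map_one]) (by rw [← map_pow, e2, map_one]) (hcf _) (hcf _) (n := 3)
    (by rw [← map_mul, ← map_pow, e3, map_one]) (by norm_num) ?_
  rw [← map_mul, mk_mul]
  intro h0
  refine mk_ne_one _ ?_ (hf (h0.trans (map_one f).symm))
  have hw0 : w ≠ 0 := by
    rintro rfl
    rw [zero_pow (by norm_num)] at hw3
    exact zero_ne_one hw3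
  simpa using hw0

/-- `(P)SL₂(5)` in the centralizer of an element of order 3 -/
theorem not_three_of_five (hF : Fintype.card F = 5) (f : SL2 F →* G) (hf : ∀ g, f g = 1 → g = 1 ∨ g = -1) {c : G}
    (hc : c ≠ 1) (hc3 : c ^ 3 = 1) (hcf : ∀ g, c * f g = f g * c) : ¬ IsTI 3 G := by
  have : Fact (Nat.Prime 3) := ⟨Nat.prime_three⟩
  have h5 : (5 : F) = 0 := by
    have := Nat.cast_card_eq_zero F
    rw [hF] at this
    exact_mod_cast this
  have hx : (0 : F) * (-1) - 1 * (-1) = 1 := by ring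
  have hz : (0 : F) * (-1) - (-1) * 1 = 1 := by ring
  have e1 : mk (0 : F) 1 (-1) (-1) hx ^ 3 = 1 := pow_three _ (by ring)
  have e2 : mk (0 : F) (-1) 1 (-1) hz ^ 3 = 1 := pow_three _ (by ring)
  have e3 : (mk (0 : F) 1 (-1) (-1) hx * mk (0 : F) (-1) 1 (-1) hz) ^ 10 = 1 := by
    rw [mk_mul]
    exact pow_ten h5 _ (by linear_combination h5)
  refine not_of_wit (p := 3) c (f (mk 0 1 (-1) (-1) hx)) (f (mk 0 (-1) 1 (-1) hz)) hc hc3
    (by rw [← map_pow, e1, map_one]) (by rw [← map_pow, e2, map_one]) (hcf _) (hcf _) (n := 10)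
    (by rw [← map_mul, ← map_pow, e3, map_one]) (by norm_num) ?_
  rw [← map_mul, mk_mul]
  intro h0
  rcases hf _ h0 with h1 | h1
  · refine mk_ne_one _ ?_ h1
    simp
  · have := congrArg (fun g : SL2 F => g.1 0 1) h1
    simp [mk] at this

end TI

end Cfsg.Agent.H665.TIE
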