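import Mathlib
import Cfsg.Prelude.Def_Classification2
import Cfsg.Prelude.Def_Sporadic
import Cfsg.Prelude.Def_Exceptional
import Cfsg.Agent.H665.TIDef
import Cfsg.Agent.H666.Assem
import Cfsg.Agent.H666.Two
import Cfsg.Agent.H331.SCExc

/-!
# Simple groups with noncyclic TI Sylow subgroups, up to isomorphism (helper665)

The proofs are those of `H666.Assem` and `H666.Two` (helper666), with conclusions up to isomorphism.
-/

set_option autoImplicit false

namespace Cfsg.Agent.H665.TIList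

open Subgroup Cfsg Cfsg.Agent.H666 Cfsg.Agent.H666.TI Cfsg.Agent.H818.StrP
open Cfsg.Agent.H666.Assem (SporList exists_charP)

universe u

theorem of_spor {G : Type*} [Group G] {p : ℕ} (h : SporList p G) : ConclI p G := by
  rcases h with ⟨h1, h2⟩ | ⟨h1, h2 | h2⟩ | ⟨h1, h2⟩
  · exact Or.inr (Or.inr (Or.inr (Or.inl ⟨h1, Or.inr (Or.inr h2)⟩)))
  · exact Or.inr (Or.inr (Or.inr (Or.inr (Or.inl ⟨h1, Or.inl h2⟩))))
  · exact Or.inr (Or.inr (Or.inr (Or.inr (Or.inl ⟨h1, Or.inr h2⟩))))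
  · exact Or.inr (Or.inr (Or.inr (Or.inr (Or.inr ⟨h1, h2⟩))))

variable {G : Type u} [Group G] [Finite G] [IsSimpleGroup G] {p : ℕ} [hp : Fact p.Prime]

/-- own characteristic -/
theorem of_own (hp2 : p ≠ 2) (hno : ¬ NoSP p G) (hcyc : ¬ ∀ P : Sylow p G, IsCyclic ↥P) (hG : IsLieTypeChar p G) :
    ConclI p G := by
  rcases Own.own hp2 hG with h | h | h | h
  · exact absurd h hno
  · obtain ⟨F, _, _, _, ⟨e⟩⟩ := h
    obtain ⟨n, -, hn⟩ := FiniteField.card F p
    rcases Nat.lt_or_ge (n : ℕ) 2 with h2 | h2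
    · exfalso
      have hn1 : (n : ℕ) = 1 := by
        have := n.pos
        omega
      rw [hn1, pow_one] at hn
      apply hcyc
      intro P
      refine H469.sylow_congr e (fun Q => H469.isCyclic_of_card ?_ Q) P
      intro hd
      have h3 := Cfsg.Agent.ClassicalGeometry.PSL2Basic.card_PSL2_gcd (F := F)
      have h4 : p ^ 2 ∣ p * (p ^ 2 - 1) := by
        rw [hn] at h3
        rw [← h3]
        exact hd.mul_right _
      rw [pow_two] at h4
      have h5 : p ∣ p * p - 1 := (Nat.mul_dvd_mul_iff_left hp.out.pos).mp h4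
      have h6 : 1 ≤ p * p := Nat.mul_pos hp.out.pos hp.out.pos
      have h7 : p ∣ 1 := by
        have h8 := Nat.dvd_sub (dvd_mul_right p p) h5
        rwa [show p * p - (p * p - 1) = 1 by omega] at h8
      exact hp.out.one_lt.ne' (Nat.dvd_one.mp h7)
    · exact Or.inl ⟨F, inferInstance, inferInstance, n, h2, hn, ⟨e⟩⟩
  · obtain ⟨F, _, _, n, hn, hF, ⟨e⟩⟩ := h
    refine Or.inr (Or.inl ⟨F, inferInstance, inferInstance, n, hn, ?_, ⟨e⟩⟩)
    rw [hF, ← pow_mul, mul_comm]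
  · exact Or.inr (Or.inr (Or.inr (Or.inl ⟨h.1, Or.inl h.2⟩)))

theorem main (hna : ¬ IsMulCommutative G) (hG : IsKnownSimple' G) (hp2 : p ≠ 2) (hTI : IsTI p G) (P : Sylow p G)
    (hnc : ¬ IsCyclic ↥(P : Subgroup G)) (hspor : IsSporadicGroup G ∨ Lie.IsoTits G → SporList p G) : ConclI p G := by
  have hc := Link.exists_ne_comm hna
  have hP1 : (P : Subgroup G) ≠ ⊥ := by
    intro h
    apply hnc
    rw [h]
    infer_instance
  have hno : ¬ NoSP p G := Link.not_noSP hna hTI P.isPGroup' hP1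
  have hcyc : ¬ ∀ P : Sylow p G, IsCyclic ↥P := fun h => hnc (h P)
  have hnc' : ∃ P : Subgroup G, IsPGroup p P ∧ ¬ IsCyclic P := ⟨P, P.isPGroup', hnc⟩
  obtain ⟨E, -, hE2, hEc, hEe⟩ := H469.exists_sq hp2 P.isPGroup' hnc
  have hE : IsElementaryAbelian p E := ⟨⟨⟨fun a b => Subtype.ext (hEc a a.2 b b.2)⟩⟩, hEe⟩
  have own := of_own hp2 hno hcyc
  rcases hG with hG | hG | hG | hG | hG | hG | hG | hG | hG | hG
  · exfalso
    apply hna
    have h1 : (Nat.card G).Prime := hG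
    have : Fact (Nat.card G).Prime := ⟨h1⟩
    have h2 : IsCyclic G := isCyclic_of_prime_card (p := Nat.card G) rfl
    obtain ⟨g, hg⟩ := h2.exists_generator
    refine ⟨⟨fun a b => ?_⟩⟩
    obtain ⟨i, rfl⟩ := hg a
    obtain ⟨j, rfl⟩ := hg b
    exact ((Commute.refl g).zpow_zpow i j).eq
  · rcases AltRow.row_alt hp2 hG hTI hcyc with h | ⟨h3, F, _, _, hF, he⟩
    · exact absurd h hno
    · exact Or.inl ⟨F, inferInstance, inferInstance, 2, le_rfl, by rw [hF, h3]; norm_num, he⟩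
  · obtain ⟨F, i1, i2, n, hn, h4, he⟩ := hG
    obtain ⟨r, hr, hrF⟩ := exists_charP F
    have hG' : IsPSLChar r G := ⟨F, i1, i2, hrF, n, hn, h4, he⟩
    by_cases hpr : p = r
    · subst hpr
      exact own (Or.inl hG')
    · rcases UniRow.noSP_psl hp2 hpr hna hG' hcyc with h | ⟨h3, h⟩
      · exact absurd h hno
      · exact Or.inr (Or.inr (Or.inr (Or.inl ⟨h3, Or.inr (Or.inl h)⟩)))
  · obtain ⟨F, i1, i2, m, hm, h4, he⟩ := hG
    obtain ⟨r, hr, hrF⟩ := exists_charP F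
    have hG' : IsPSpChar r G := ⟨F, i1, i2, hrF, m, hm, h4, he⟩
    by_cases hpr : p = r
    · subst hpr
      exact own (Or.inr (Or.inl hG'))
    · exact absurd (ClsRow.noSP_class hp2 hpr hc (Or.inl hG') hTI hnc') hno
  · obtain ⟨F, i1, i2, n, q, hF, hn, h4, he⟩ := hG
    obtain ⟨r, hr, hrF⟩ := exists_charP F
    have hG' : IsPSUChar r G := ⟨F, i1, i2, hrF, n, q, hF, hn, h4, he⟩
    by_cases hpr : p = r
    · subst hpr
      exact own (Or.inr (Or.inr (Or.inl hG')))
    · exact absurd (UniRow.noSP_psu hp2 hpr hna hG' hTI hcyc) hno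
  · obtain ⟨F, i1, i2, m, hm, ho, he⟩ := hG
    obtain ⟨r, hr, hrF⟩ := exists_charP F
    have hG' : IsPOmegaOddChar r G := ⟨F, i1, i2, hrF, m, hm, ho, he⟩
    by_cases hpr : p = r
    · subst hpr
      exact own (Or.inr (Or.inr (Or.inr (Or.inl hG'))))
    · exact absurd (ClsRow.noSP_class hp2 hpr hc (Or.inr (Or.inl hG')) hTI hnc') hno
  · obtain ⟨F, i1, i2, m, hm, he⟩ := hG
    obtain ⟨r, hr, hrF⟩ := exists_charP F
    have hG' : IsPOmegaPlusChar r G := ⟨F, i1, i2, hrF, m, hm, he⟩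
    by_cases hpr : p = r
    · subst hpr
      exact own (Or.inr (Or.inr (Or.inr (Or.inr (Or.inl hG')))))
    · exact absurd (ClsRow.noSP_class hp2 hpr hc (Or.inr (Or.inr (Or.inl hG'))) hTI hnc') hno
  · obtain ⟨F, i1, i2, m, a, b, hm, hab, he⟩ := hG
    obtain ⟨r, hr, hrF⟩ := exists_charP F
    have hG' : IsPOmegaMinusChar r G := ⟨F, i1, i2, hrF, m, a, b, hm, hab, he⟩
    by_cases hpr : p = r
    · subst hpr
      exact own (Or.inr (Or.inr (Or.inr (Or.inr (Or.inr (Or.inl hG'))))))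
    · exact absurd (ClsRow.noSP_class hp2 hpr hc (Or.inr (Or.inr (Or.inr hG'))) hTI hnc') hno
  · have exc : ∀ r : ℕ, Fact r.Prime → (IsExceptionalChevChar r G ∨ IsTwistedE6D4Char r G) → ConclI p G := by
      intro r hr h
      by_cases hpr : p = r
      · subst hpr
        rcases h with h | h
        · exact own (Or.inr (Or.inr (Or.inr (Or.inr (Or.inr (Or.inr (Or.inl h)))))))
        · exact own (Or.inr (Or.inr (Or.inr (Or.inr (Or.inr (Or.inr (Or.inr (Or.inl h))))))))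
      · exfalso
        by_cases h23 : r = 2 ∧ p = 3
        · obtain ⟨h2, h3⟩ := h23
          subst h2 h3
          exact hno (ExcThree.noSP_exc_three hna h hTI)
        · exact hno (ExcRow.noSP_exc hp2 hpr (fun h2 h3 => h23 ⟨h2, h3⟩) hna h hTI hE hE2)
    rcases hG with hG | hG | hG | hG | hG | hG | hG | hG | hG | hG | hG
    · obtain ⟨F, hF1, hF2, hF3, he⟩ := hG
      obtain ⟨r, hr, hrF⟩ := exists_charP F
      exact exc r hr (Or.inl ⟨F, hF1, hF2, hrF, Or.inl ⟨hF3, he⟩⟩)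
    · obtain ⟨F, hF1, hF2, he⟩ := hG
      obtain ⟨r, hr, hrF⟩ := exists_charP F
      exact exc r hr (Or.inl ⟨F, hF1, hF2, hrF, Or.inr (Or.inl he)⟩)
    · obtain ⟨F, hF1, hF2, he⟩ := hG
      obtain ⟨r, hr, hrF⟩ := exists_charP F
      exact exc r hr (Or.inl ⟨F, hF1, hF2, hrF, Or.inr (Or.inr (Or.inl he))⟩)
    · obtain ⟨F, hF1, hF2, he⟩ := hG
      obtain ⟨r, hr, hrF⟩ := exists_charP F
      exact exc r hr (Or.inl ⟨F, hF1, hF2, hrF, Or.inr (Or.inr (Or.inr (Or.inl he)))⟩)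
    · obtain ⟨F, hF1, hF2, he⟩ := hG
      obtain ⟨r, hr, hrF⟩ := exists_charP F
      exact exc r hr (Or.inl ⟨F, hF1, hF2, hrF, Or.inr (Or.inr (Or.inr (Or.inr he)))⟩)
    · obtain ⟨F, hF1, hF2, q, hq, hF3, he⟩ := hG
      obtain ⟨r, hr, hrF⟩ := exists_charP F
      exact exc r hr (Or.inr ⟨F, hF1, hF2, hrF, q, hq, Or.inl ⟨hF3, he⟩⟩)
    · obtain ⟨F, hF1, hF2, q, hq, hF3, he⟩ := hG
      obtain ⟨r, hr, hrF⟩ := exists_charP F
      exact exc r hr (Or.inr ⟨F, hF1, hF2, hrF, q, hq, Or.inr ⟨hF3, he⟩⟩)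
    · exact absurd (H469.RowRank.row_suzuki hp2 hG P) hnc
    · by_cases hp3 : p = 3
      · exact Or.inr (Or.inr (Or.inr (Or.inl ⟨hp3, Or.inl hG⟩)))
      · exfalso
        obtain ⟨K, _, _, m, hm, hK, ⟨e⟩⟩ := hG
        have h3 : 3 < p := by
          have := hp.out.two_le
          omega
        exact hnc (H469.sylow_congr e (Cfsg.Agent.S1156.result hm hK h3) P)
    · exfalso
      obtain ⟨K, _, _, m, hm, hK, ⟨e⟩⟩ := hG
      have hE' : IsElementaryAbelian p (E.map e.toMonoidHom) := by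
        refine ⟨⟨⟨?_⟩⟩, ?_⟩
        · rintro ⟨_, a, ha, rfl⟩ ⟨_, b, hb, rfl⟩
          apply Subtype.ext
          show e a * e b = e b * e a
          rw [← map_mul, hEc a ha b hb, map_mul]
        · rintro _ ⟨a, ha, rfl⟩
          rw [← map_pow, hEe a ha, map_one]
      have : Finite ↥(Lie.twistedF4 K (2 ^ m)) := Finite.of_equiv _ e.toEquiv
      exact hno (noSP_congr e.symm (TwF.noSP_twF4 hm hK hp2 (hTI.congr e) hE' (by
        rw [Subgroup.card_map_of_injective e.injective, hE2])))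
    · exact of_spor (hspor (Or.inr hG))
  · exact of_spor (hspor (Or.inl hG))

/-- **`p = 2`.** -/
theorem two [IsSimpleGroup G] (hna : ¬ IsMulCommutative G) (hTI : IsTI 2 G) (P : Sylow 2 G)
    (hP1 : (P : Subgroup G) ≠ ⊥) : ConclI 2 G := by
  have h2 : Fact (Nat.Prime 2) := ⟨Nat.prime_two⟩
  have hN : normalizer ((P : Subgroup G) : Set G) ≠ ⊤ := by
    intro h1
    have h2 : (P : Subgroup G).Normal := normalizer_eq_top_iff.1 h1
    rcases h2.eq_bot_or_eq_top with h3 | h3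
    · exact hP1 h3
    · apply hna
      have h4 : IsPGroup 2 G := by
        have : IsPGroup 2 (⊤ : Subgroup G) := h3 ▸ P.isPGroup'
        exact this.of_equiv Subgroup.topEquiv
      have h5 : (center G).Normal := inferInstance
      rcases h5.eq_bot_or_eq_top with h6 | h6
      · exfalso
        have h7 := h4.center_nontrivial
        exact (Subgroup.nontrivial_iff_ne_bot _).1 h7 h6
      · refine ⟨⟨fun a b => ?_⟩⟩
        have h7 : b ∈ center G := by rw [h6]; exact mem_top b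
        exact mem_center_iff.1 h7 a
  rcases Cfsg.Agent.S0222.result (Link.exists_ne_comm hna) _ (Cfsg.Agent.H666.Two.strongly hTI P hP1 hN) with h | h | h
  · obtain ⟨F, _, _, hF, h4, he⟩ := h
    obtain ⟨n, -, hn⟩ := FiniteField.card F 2
    refine Or.inl ⟨F, inferInstance, inferInstance, n, ?_, hn, he⟩
    by_contra hcon
    have h1 : (n : ℕ) ≤ 1 := by omega
    have h5 : Fintype.card F ≤ 2 := by
      rw [hn]
      calc 2 ^ (n : ℕ) ≤ 2 ^ 1 := Nat.pow_le_pow_right (by norm_num) h1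
        _ = 2 := by norm_num
    omega
  · exact Or.inr (Or.inr (Or.inl ⟨rfl, Cfsg.Agent.H331.SCExc.isoSuzuki_of_isSuzuki h⟩))
  · obtain ⟨F, _, _, q, hF, hev, h4, he⟩ := h
    obtain ⟨r, hr, hrF⟩ := exists_charP F
    obtain ⟨k, -, hk⟩ := FiniteField.card F r
    have hr2 : r = 2 := by
      have h5 : 2 ∣ r ^ (k : ℕ) := by
        rw [← hk, hF]
        exact dvd_pow hev.two_dvd two_ne_zero
      exact ((Nat.prime_dvd_prime_iff_eq Nat.prime_two hr.out).1 (Nat.prime_two.dvd_of_dvd_pow h5)).symm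
    subst hr2
    have h5 : q ∣ 2 ^ (k : ℕ) := by
      rw [← hk, hF]
      exact dvd_pow_self q two_ne_zero
    obtain ⟨n, -, hn⟩ := (Nat.dvd_prime_pow Nat.prime_two).1 h5
    subst hn
    refine Or.inr (Or.inl ⟨F, inferInstance, inferInstance, n, ?_, hF, he⟩)
    by_contra hcon
    have h6 : n = 0 := by omega
    rw [h6] at h4
    norm_num at h4

end Cfsg.Agent.H665.TIList
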