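import Mathlib
import Cfsg.Agent.H665.TIList
import Cfsg.Agent.H666.SporTI
import Cfsg.Agent.OrdDiv.Table
import Cfsg.Agent.S0000

/-!
# Simple groups with noncyclic TI Sylow subgroups, up to isomorphism: the theorem
-/

set_option autoImplicit false

namespace Cfsg.Agent.H665.TIMain

open Cfsg Subgroup Cfsg.Agent.H665.TIList

universe u

theorem concl {p : ℕ} [hp : Fact p.Prime] {T : Type u} [Group T] [Finite T] [IsSimpleGroup T] (hna : ¬ IsMulCommutative T)
    (hTI : Cfsg.Agent.H666.TI.IsTI p T) (Q : Sylow p T) (hnc : ¬ IsCyclic (Q : Subgroup T)) : ConclI p T := by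
  have hQ1 : (Q : Subgroup T) ≠ ⊥ := by
    intro h
    apply hnc
    rw [h]
    infer_instance
  by_cases h2 : p = 2
  · subst h2
    exact two hna hTI Q hQ1
  · refine main hna Cfsg.Agent.S0000.result h2 hTI Q hnc ?_
    intro h
    exact Cfsg.Agent.H666.SporTI.spor_ti Cfsg.Agent.OrdDiv.table (fun S _ _ _ => Cfsg.Agent.S0000.result) hna h2 hTI Q hnc h

end Cfsg.Agent.H665.TIMain
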