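import Cfsg.Agent.H665.TIB
import Cfsg.Agent.KFacts.J3Model

/-!
# Groups with an involution centralizer `2^{1+4}_- : A₅`: the Sylow 3-subgroups are not TI
-/

set_option autoImplicit false

namespace Cfsg.Agent.H665.TIModel

open Subgroup Cfsg Cfsg.Agent.H666.TI Cfsg.Agent.H665.TIA Cfsg.Agent.H665.TIB
open Cfsg.Agent.J2Type.Model Cfsg.Agent.J2Type.CStruct Cfsg.Agent.J3Type.OneClass

variable {X : Type*} [Group X] [Finite X] {t : X} {Q : Subgroup (centralizer ({t} : Set X))}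
  {v : Fin 5 → centralizer ({t} : Set X)} {ρ : centralizer ({t} : Set X) →* SP}

/-- the 3-cycle `(0 1 2)` -/
def cyc : SP := ⟨Equiv.swap 0 1 * Equiv.swap 1 2, fun _ => 0⟩

theorem cyc_pow : cyc ^ 4 = cyc := by decide +kernel
theorem cyc_pow3 : cyc ^ 3 = 1 := by decide +kernel
theorem cyc_ne : cyc ≠ 1 := by decide +kernel

theorem mem_cent {x c : X} : c ∈ centralizer ({x} : Set X) ↔ c * x = x * c :=
  mem_centralizer_singleton_iff

theorem not_three (M : IsModel Q (zc t) v ρ)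
    (hn : ∀ x : X, x * x = 1 → x ≠ 1 → ¬ 3 ^ (1 + 1) ∣ Nat.card (centralizer ({x} : Set X)))
    (h9 : 3 ^ (1 + 1) ∣ Nat.card X) : ¬ IsTI 3 X := by
  have : Fact (Nat.Prime 3) := ⟨Nat.prime_three⟩
  have tt : t * t = 1 := congrArg Subtype.val M.z_sq
  have t_ne : t ≠ 1 := fun h => M.z_ne (Subtype.ext h)
  have vv : (v 3 : X) * v 3 = 1 := congrArg Subtype.val (M.v_sq 3)
  have vt : (v 3 : X) * t = t * v 3 := mem_cent.1 (v 3).2
  have v_ne : (v 3 : X) ≠ 1 := by
    intro h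
    apply v_ne_one M 3 0
    rw [zp_zero, one_mul]
    exact Subtype.ext h
  have v_ne_t : (v 3 : X) ≠ t := by
    intro h
    apply zv_ne_z M 0 3
    rw [zp_zero, one_mul]
    exact Subtype.ext h
  obtain ⟨c, hc⟩ := (M.range cyc).2 (by
    constructor
    · show Equiv.Perm.sign (Equiv.swap (0 : Fin 5) 1 * Equiv.swap 1 2) = 1
      decide +kernel
    · show ∑ i : Fin 5, (0 : ZMod 2) = 0
      simp)
  have h3 : (c ^ 3) ^ 2 = 1 := by
    have h1 : ρ (c ^ 3) = 1 := by rw [map_pow, hc, cyc_pow3]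
    rcases (M.ker _).1 h1 with h | h
    · rw [h, one_pow]
    · rw [h, pow_two]; exact M.z_sq
  have hd3 : (c ^ 4) ^ 3 = 1 := by
    rw [← pow_mul]
    have : c ^ (4 * 3) = ((c ^ 3) ^ 2) ^ 2 := by rw [← pow_mul, ← pow_mul]
    rw [this, h3, one_pow]
  have hρ : ρ (c ^ 4) = cyc := by rw [map_pow, hc, cyc_pow]
  have hd1 : c ^ 4 ≠ 1 := by
    intro h
    rw [h, map_one] at hρ
    exact cyc_ne hρ.symm
  have hconj : c ^ 4 * v 3 = v 3 * c ^ 4 := by
    have h1 := M.conj (c ^ 4) 3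
    rw [hρ] at h1
    have h2 : cyc.σ 3 = 3 := by decide +kernel
    have h4 : cyc.s 3 = 0 := rfl
    rw [h2, h4, zp_zero, one_mul] at h1
    exact mul_inv_eq_iff_eq_mul.1 h1
  set d : X := ((c ^ 4 : centralizer ({t} : Set X)) : X) with hd
  have hdt : d * t = t * d := mem_cent.1 (c ^ 4).2
  have hdv : d * v 3 = v 3 * d := congrArg Subtype.val hconj
  have hd3' : d ^ 3 = 1 := congrArg Subtype.val hd3
  have hd1' : d ≠ 1 := fun h => hd1 (Subtype.ext h)
  have htv : t * v 3 * (t * v 3) = 1 := by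
    calc t * v 3 * (t * v 3) = t * (v 3 * t) * v 3 := by group
      _ = (t * t) * (v 3 * v 3) := by rw [vt]; group
      _ = 1 := by rw [tt, vv, one_mul]
  have htv1 : t * (v 3 : X) ≠ 1 := by
    intro h
    apply v_ne_t
    have h5 : t * (t * (v 3 : X)) = t * 1 := by rw [h]
    rw [← mul_assoc, tt, one_mul, mul_one] at h5
    exact h5
  have hcomm : ∀ w : X, d * w = w * d → ∀ r ∈ zpowers d, r * w = w * r := by
    rintro w hw _ ⟨k, rfl⟩
    exact (show Commute d w from hw).zpow_left k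
  refine not_of_four (p := 3) (by norm_num) (u := t) (v := v 3) tt vv t_ne v_ne vt.symm
    (fun h => v_ne_t h.symm) (R := zpowers d) (b := 1) ?_ one_ne_zero (hcomm _ hdt) (hcomm _ hdv)
    (hn t tt t_ne) (hn _ vv v_ne) (hn _ htv htv1) h9
  rw [Nat.card_zpowers, pow_one, orderOf_eq_prime hd3' hd1']

end Cfsg.Agent.H665.TIModel
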